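import Cfsg.Agent.Omega.NO1.Nat.SixB

/-!
# THEOREM NAT (#13408), step (6)

`step6` : some `t ∈ N(V) ∩ N(V₁) ∩ N(M)` moves `z`.
-/

set_option autoImplicit false
set_option linter.unusedSectionVars false

namespace Cfsg.Agent.Omega.NO1.Nat.SixC

open Subgroup Cfsg Cfsg.Agent.ZN Cfsg.Agent.Omega.MinPar
open Cfsg.Agent.Omega.NO1.Nat.SixIn (SixIn C₁ J₁)
open Cfsg.Agent.Omega.NO1.Nat.SixA Cfsg.Agent.Omega.NO1.Nat.SixB

universe u

section cover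

variable {G : Type u} [Group G] [Finite G]

/-- `R = VQ`, `V ∩ Q ≥ V₁ ≥ M ∩ Q`, `|V| = |M|` implies `R = MQ`. -/
theorem cover {R Q V M V₁ : Subgroup G} (hQ : Q ≤ R) (hn : R ≤ normalizer (Q : Set G))
    (hV : V ≤ R) (hM : M ≤ R) (hVc : Nat.card V = 16) (hMc : Nat.card M = 16)
    (hV₁c : Nat.card V₁ = 4) (h1 : V₁ ≤ V) (h1Q : V₁ ≤ Q) (h3 : ∀ x ∈ M, x ∈ Q → x ∈ V₁)
    (h4 : ∀ r ∈ R, ∃ v ∈ V, v⁻¹ * r ∈ Q) : ∀ r ∈ R, ∃ m ∈ M, m⁻¹ * r ∈ Q := by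
  have hnor : (Q.subgroupOf R).Normal := (normal_subgroupOf_iff_le_normalizer hQ).2 hn
  let p := QuotientGroup.mk' (Q.subgroupOf R)
  have hp : ∀ x : R, x ∈ Q.subgroupOf R → p x = 1 := fun x hx => (QuotientGroup.eq_one_iff x).2 hx
  have hp' : ∀ x : R, p x = 1 → (x : G) ∈ Q := fun x hx => (QuotientGroup.eq_one_iff x).1 hx
  let fV : V →* R ⧸ Q.subgroupOf R := p.comp (inclusion hV)
  let fM : M →* R ⧸ Q.subgroupOf R := p.comp (inclusion hM)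
  have hVs : fV.range = ⊤ := by
    rw [MonoidHom.range_eq_top]
    intro y
    obtain ⟨r, rfl⟩ := QuotientGroup.mk'_surjective _ y
    obtain ⟨v, hv, hv'⟩ := h4 r r.2
    refine ⟨⟨v, hv⟩, ?_⟩
    have h5 : p ((inclusion hV ⟨v, hv⟩)⁻¹ * r) = 1 := hp _ hv'
    rw [map_mul, map_inv] at h5
    exact (inv_mul_eq_one.1 h5)
  have hk1 : 4 ≤ Nat.card fV.ker := by
    have h5 : V₁.subgroupOf V ≤ fV.ker := fun x hx => MonoidHom.mem_ker.2 (hp _ (h1Q hx))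
    have h6 := Subgroup.card_le_of_le h5
    rwa [Nat.card_congr (subgroupOfEquivOfLe h1).toEquiv, hV₁c] at h6
  have hk2 : Nat.card fM.ker ≤ 4 := by
    have h5 : fM.ker.map M.subtype ≤ V₁ := by
      rintro _ ⟨x, hx, rfl⟩
      exact h3 x x.2 (hp' _ (MonoidHom.mem_ker.1 hx))
    have h6 := Subgroup.card_le_of_le h5
    rwa [Subgroup.card_map_of_injective M.subtype_injective, hV₁c] at h6
  have hc1 : Nat.card fV.ker * Nat.card fV.range = 16 := by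
    rw [← hVc, ← Subgroup.index_ker fV]
    exact fV.ker.card_mul_index
  have hc2 : Nat.card fM.ker * Nat.card fM.range = 16 := by
    rw [← hMc, ← Subgroup.index_ker fM]
    exact fM.ker.card_mul_index
  have h5 : Nat.card (R ⧸ Q.subgroupOf R) ≤ 4 := by
    rw [hVs, Subgroup.card_top] at hc1
    by_contra hlt
    push Not at hlt
    have : 4 * 5 ≤ Nat.card fV.ker * Nat.card (R ⧸ Q.subgroupOf R) := Nat.mul_le_mul hk1 hlt
    omega
  have h6 : 4 ≤ Nat.card fM.range := by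
    by_contra hlt
    push Not at hlt
    have : Nat.card fM.ker * Nat.card fM.range ≤ 4 * 3 := Nat.mul_le_mul hk2 (by omega)
    omega
  have h7 : fM.range = ⊤ := Subgroup.eq_top_of_le_card _ (h5.trans h6)
  intro r hr
  obtain ⟨m, hm⟩ : p ⟨r, hr⟩ ∈ fM.range := by rw [h7]; trivial
  refine ⟨m, m.2, ?_⟩
  have h8 : p ((inclusion hM m)⁻¹ * ⟨r, hr⟩) = 1 := by
    rw [map_mul, map_inv, inv_mul_eq_one]
    exact hm
  exact hp' _ h8

end cover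

variable {G : Type u} [Group G] [Finite G] {S : Sylow 2 G} {z : G} {V V₁ M : Subgroup G}
  {e : G → Fin 3 → ZMod 2} {t : G}

/-- `M^t` -/
def Mt (t : G) (M : Subgroup G) : Subgroup G := M.map (MulAut.conj t).toMonoidHom

theorem mem_Mt {x : G} : x ∈ Mt t M ↔ t⁻¹ * x * t ∈ M := by
  constructor
  · rintro ⟨y, hy, rfl⟩
    have : t⁻¹ * (MulAut.conj t).toMonoidHom y * t = y := by simp [MulAut.conj_apply]; group
    rwa [this]
  · intro h1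
    exact ⟨_, h1, by simp [MulAut.conj_apply]; group⟩

theorem mem_Mt_of {x : G} (hx : x ∈ M) : t * x * t⁻¹ ∈ Mt t M := ⟨x, hx, rfl⟩

theorem card_Mt : Nat.card (Mt t M) = Nat.card M :=
  Subgroup.card_map_of_injective (MulAut.conj t).injective

theorem conj_mem_iff {K : Subgroup G} (ht : t ∈ normalizer (K : Set G)) {x : G} :
    t⁻¹ * x * t ∈ K ↔ x ∈ K := by
  constructor
  · intro h1
    have := conj_mem ht h1
    rwa [show t * (t⁻¹ * x * t) * t⁻¹ = x by group] at this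
  · exact conj_mem' ht

section one

variable (h : SixIn S z V V₁ M e) (ht : t ∈ normalizer (V : Set G)) (ht₁ : t ∈ normalizer (V₁ : Set G))

omit [Finite G] in
theorem t_H (ht₁ : t ∈ normalizer (V₁ : Set G)) :
    t ∈ normalizer (centralizer (V₁ : Set G) : Set G) := norm_cent ht₁

omit [Finite G] in
theorem t_R (ht₁ : t ∈ normalizer (V₁ : Set G)) :
    t ∈ normalizer (o2 (centralizer (V₁ : Set G)) : Set G) :=
  ZN.normalizer_le_normalizer_o2 _ (t_H ht₁)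

include h ht₁

theorem V₁_le_Mt : V₁ ≤ Mt t M := fun _ hx => mem_Mt.2 (h.V₁_le_M (conj_mem' ht₁ hx))

theorem conj3 (a x : G) : t⁻¹ * (a * x * a⁻¹) * t = (t⁻¹ * a * t) * (t⁻¹ * x * t) * (t⁻¹ * a * t)⁻¹ := by
  group

theorem H_norm_Mt : centralizer (V₁ : Set G) ≤ normalizer (Mt t M : Set G) := by
  refine le_normalizer_of fun g hg x hx => mem_Mt.2 ?_
  rw [conj3 h ht₁]
  exact conj_mem (h.H_M (conj_mem' (t_H ht₁) hg)) (mem_Mt.1 hx)

theorem H_norm_Qt : centralizer (V₁ : Set G) ≤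
    normalizer (Mt t (o2 (centralizer (M : Set G))) : Set G) := by
  refine le_normalizer_of fun g hg x hx => mem_Mt.2 ?_
  rw [conj3 h ht₁]
  exact conj_mem (C₁_norm_Q h (H_le_C₁ h (conj_mem' (t_H ht₁) hg))) (mem_Mt.1 hx)

theorem Mt_le_R : Mt t M ≤ o2 (centralizer (V₁ : Set G)) := fun _ hx =>
  (conj_mem_iff (t_R ht₁)).1 (mem_R_of_Q h (M_le_Q h (mem_Mt.1 hx)))

theorem mem_Qt {x : G} : x ∈ Mt t (o2 (centralizer (M : Set G))) ↔
    x ∈ o2 (centralizer (V₁ : Set G)) ∧ ∀ m ∈ Mt t M, x * m = m * x := by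
  rw [mem_Mt, mem_Q h, conj_mem_iff (t_R ht₁)]
  refine and_congr_right fun _ => ⟨fun h1 m hm => ?_, fun h1 m hm => ?_⟩
  · have h2 := h1 _ (mem_Mt.1 hm)
    calc x * m = t * (t⁻¹ * x * t * (t⁻¹ * m * t)) * t⁻¹ := by group
      _ = t * (t⁻¹ * m * t * (t⁻¹ * x * t)) * t⁻¹ := by rw [h2]
      _ = m * x := by group
  · have h2 := h1 _ (mem_Mt_of hm)
    calc t⁻¹ * x * t * m = t⁻¹ * (x * (t * m * t⁻¹)) * t := by group
      _ = t⁻¹ * (t * m * t⁻¹ * x) * t := by rw [h2]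
      _ = _ := by group

/-- `[x,r] ∈ V₁` for all `r ∈ R` -/
def Quad (V₁ : Subgroup G) (x : G) : Prop :=
  ∀ r ∈ o2 (centralizer (V₁ : Set G)), x * r * x⁻¹ * r⁻¹ ∈ V₁

omit [Finite G] h ht₁ in
theorem Quad.mul {x y : G} (hx : Quad V₁ x) (hy : Quad V₁ y) (hxR : x ∈ centralizer (V₁ : Set G)) :
    Quad V₁ (x * y) := by
  intro r hr
  have h1 := hx r hr
  have h2 := hy r hr
  have h3 : x * (y * r * y⁻¹ * r⁻¹) * x⁻¹ = y * r * y⁻¹ * r⁻¹ := by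
    rw [cent_iff.1 hxR _ h2]; group
  have h4 := mul_mem h2 h1
  rw [← h3] at h4
  rwa [show x * (y * r * y⁻¹ * r⁻¹) * x⁻¹ * (x * r * x⁻¹ * r⁻¹) = x * y * r * (x * y)⁻¹ * r⁻¹ by
    group] at h4

omit [Finite G] h ht₁ in
theorem Quad.conj {x g : G} (hx : Quad V₁ x) (hg : g ∈ normalizer (V₁ : Set G)) :
    Quad V₁ (g * x * g⁻¹) := by
  intro r hr
  have h0 := ZN.normalizer_le_normalizer_o2 _ (t_H hg)
  have h1 := conj_mem hg (hx _ (conj_mem' h0 hr))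
  rwa [show g * (x * (g⁻¹ * r * g) * x⁻¹ * (g⁻¹ * r * g)⁻¹) * g⁻¹ =
    g * x * g⁻¹ * r * (g * x * g⁻¹)⁻¹ * r⁻¹ by group] at h1

omit ht₁ in
theorem J_moves : ¬ J₁ z V M ≤ normalizer (V₁ : Set G) := by
  intro hJ
  obtain ⟨w, hw, hw1, hw2⟩ := exists_w h
  obtain ⟨m, hm, hm'⟩ := exists_M h
  have hwM := h.V₁_le_M hw
  have hem : e m ≠ 0 := fun h0 => hm' ((V₁_iff h hw hw1 hw2 hm).2 (Or.inl h0))
  obtain ⟨g, hg, hg'⟩ := tran h hwM (e_ne h hwM hw1 hw2) hem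
  have h1 := conj_mem (hJ hg) hw
  apply hm'
  rw [V₁_iff h hw hw1 hw2 hm, ← hg']
  exact (V₁_iff h hw hw1 hw2 (h.V₁_le_M h1)).1 h1

/-- Case (i). -/
theorem case_i (hcomm : ∀ m ∈ M, ∀ m' ∈ Mt t M, m * m' = m' * m) (hne : ¬ M ≤ Mt t M) : False := by
  obtain ⟨ρ, hρJ, hρ, hodd, hρ'⟩ := exists_rho h
  -- `M ∩ M^t = V₁`
  have hint : M ⊓ Mt t M ≤ V₁ := by
    have hN : centralizer (V₁ : Set G) ≤ normalizer ((M ⊓ Mt t M : Subgroup G) : Set G) := by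
      refine le_normalizer_of fun g hg x hx => ?_
      obtain ⟨hx1, hx2⟩ := mem_inf.1 hx
      exact mem_inf.2 ⟨conj_mem (h.H_M hg) hx1, conj_mem (H_norm_Mt h ht₁ hg) hx2⟩
    rcases dich h (le_inf h.V₁_le_M (V₁_le_Mt h ht₁)) inf_le_left hN with h1 | h1
    · exact h1
    · exact absurd (h1.trans inf_le_right) hne
  -- `ρ` centralises `M^t`
  have hρM : ∀ m' ∈ Mt t M, ρ * m' = m' * ρ := by
    intro m' hm'
    have hQ : m' ∈ o2 (centralizer (M : Set G)) :=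
      (mem_Q h).2 ⟨Mt_le_R h ht₁ hm', fun m hm => (hcomm m hm m' hm').symm⟩
    have h1 := inv_mem (comm_J h ρ hρJ m' hQ)
    have h2 : ρ * m' * ρ⁻¹ * m'⁻¹ ∈ V₁ := by
      apply hint
      refine mem_inf.2 ⟨?_, mul_mem (conj_mem (H_norm_Mt h ht₁ hρ) hm') (inv_mem hm')⟩
      rwa [show (m' * ρ * m'⁻¹ * ρ⁻¹)⁻¹ = ρ * m' * ρ⁻¹ * m'⁻¹ by group] at h1
    set c := ρ * m' * ρ⁻¹ * m'⁻¹ with hc
    have h3 : ρ * m' * ρ⁻¹ = c * m' := by rw [hc]; group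
    have h4 : ∀ k : ℕ, ρ ^ k * m' * (ρ ^ k)⁻¹ = c ^ k * m' := by
      intro k
      induction k with
      | zero => simp
      | succ k ih =>
        calc ρ ^ (k + 1) * m' * (ρ ^ (k + 1))⁻¹ = ρ ^ k * (ρ * m' * ρ⁻¹) * (ρ ^ k)⁻¹ := by
              rw [pow_succ]; group
          _ = ρ ^ k * (c * m') * (ρ ^ k)⁻¹ := by rw [h3]
          _ = (ρ ^ k * c * (ρ ^ k)⁻¹) * (ρ ^ k * m' * (ρ ^ k)⁻¹) := by group
          _ = c * (c ^ k * m') := by rw [ih, V₁_cent h h2 (pow_mem hρ k)]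
          _ = c ^ (k + 1) * m' := by rw [pow_succ']; group
    have h5 := h4 (orderOf ρ)
    rw [pow_orderOf_eq_one, one_mul, inv_one, mul_one, right_eq_mul] at h5
    obtain ⟨k, hk⟩ := hodd
    have h6 : c * c = 1 := h.V_sq c (h.V₁_le h2)
    have h7 : c = 1 := by
      rw [hk, pow_succ, pow_mul, pow_two, h6, one_pow, one_mul] at h5
      exact h5
    rw [h7, one_mul] at h3
    exact mul_inv_eq_iff_eq_mul.1 h3
  obtain ⟨v, hv, hv'⟩ := exists_V h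
  have hvH := V_le_H h hv
  set v₀ := v * (ρ * v⁻¹ * ρ⁻¹) with hv₀
  have hv₀c : ∀ m' ∈ Mt t M, v₀ * m' = m' * v₀ := by
    intro m' hm'
    have h1 := hρM _ (conj_mem' (H_norm_Mt h ht₁ hvH) hm')
    have h2 := hρM _ (conj_mem' (H_norm_Mt h ht₁ hρ) hm')
    have h2' : ρ⁻¹ * m' * ρ = m' := by
      rw [mul_assoc, ← hρM m' hm']; group
    calc v₀ * m' = v * ρ * v⁻¹ * (ρ⁻¹ * m' * ρ) * ρ⁻¹ := by rw [hv₀]; group
      _ = v * (ρ * (v⁻¹ * m' * v)) * v⁻¹ * ρ⁻¹ := by rw [h2']; group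
      _ = v * (v⁻¹ * m' * v * ρ) * v⁻¹ * ρ⁻¹ := by rw [h1]
      _ = m' * v₀ := by rw [hv₀]; group
  have hρR : ρ * v⁻¹ * ρ⁻¹ ∈ o2 (centralizer (V₁ : Set G)) :=
    conj_mem (ZN.le_normalizer_o2 _ hρ) (inv_mem (h.V_le hv))
  have hv₀R : v₀ ∈ o2 (centralizer (V₁ : Set G)) := mul_mem (h.V_le hv) hρR
  -- `v₀` does not centralise `M`
  have hv₀M : ¬ ∀ m ∈ M, v₀ * m = m * v₀ := by
    intro hc
    obtain ⟨m, hm, hm'⟩ := exists_M h
    apply hm'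
    apply hρ' m hm
    have hm2 := conj_mem (h.H_M hρ) hm
    refine h.V_M v hv hv' _ (mul_mem hm2 (inv_mem hm)) ?_
    have hcm := comm_mem h hv hm
    set c := v * m * v⁻¹ * m⁻¹ with hcdef
    have h1 : v * m * v⁻¹ = c * m := by rw [hcdef]; group
    have h2 : v * (ρ * m * ρ⁻¹) * v⁻¹ = c * (ρ * m * ρ⁻¹) := by
      have h3 := conj_mem (V_le_C₁ h hv).2 hm2
      have h4 := hc _ h3
      calc v * (ρ * m * ρ⁻¹) * v⁻¹ = v₀⁻¹ * (v₀ * (v * (ρ * m * ρ⁻¹) * v⁻¹)) := by group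
        _ = v₀⁻¹ * (v * (ρ * m * ρ⁻¹) * v⁻¹ * v₀) := by rw [h4]
        _ = ρ * (v * m * v⁻¹) * ρ⁻¹ := by rw [hv₀]; group
        _ = ρ * (c * m) * ρ⁻¹ := by rw [h1]
        _ = (ρ * c * ρ⁻¹) * (ρ * m * ρ⁻¹) := by group
        _ = c * (ρ * m * ρ⁻¹) := by rw [V₁_cent h hcm hρ]
    rw [← mul_inv_eq_iff_eq_mul]
    calc v * (ρ * m * ρ⁻¹ * m⁻¹) * v⁻¹ = (v * (ρ * m * ρ⁻¹) * v⁻¹) * (v * m * v⁻¹)⁻¹ := by group
      _ = c * (ρ * m * ρ⁻¹) * (c * m)⁻¹ := by rw [h1, h2]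
      _ = c * (ρ * m * ρ⁻¹ * m⁻¹) * c⁻¹ := by group
      _ = ρ * m * ρ⁻¹ * m⁻¹ := by
        rw [h.M_comm c (h.V₁_le_M hcm) _ (mul_mem hm2 (inv_mem hm))]; group
  obtain ⟨v', hv'V, q, hq, hvq⟩ := R_eq h hv₀R
  have hv'1 : v' ∉ V₁ := by
    intro h1
    apply hv₀M
    rw [hvq]
    exact ((mem_Q h).1 (mul_mem (M_le_Q h (h.V₁_le_M h1)) hq)).2
  -- `x = t⁻¹ v₀ t`
  have hxQ : t⁻¹ * v₀ * t ∈ o2 (centralizer (M : Set G)) := by
    refine (mem_Q h).2 ⟨conj_mem' (t_R ht₁) hv₀R, fun m hm => ?_⟩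
    have h1 := hv₀c _ (mem_Mt_of hm)
    calc t⁻¹ * v₀ * t * m = t⁻¹ * (v₀ * (t * m * t⁻¹)) * t := by group
      _ = t⁻¹ * (t * m * t⁻¹ * v₀) * t := by rw [h1]
      _ = _ := by group
  have hxquad : Quad V₁ (t⁻¹ * v₀ * t) := by
    have h1 : Quad V₁ v₀ :=
      Quad.mul (fun r hr => h.quad v hv r hr)
        (Quad.conj (fun r hr => h.quad _ (inv_mem hv) r hr)
          (centralizer_le_normalizer _ hρ)) hvH
    have h2 := Quad.conj h1 (inv_mem ht₁)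
    rwa [inv_inv] at h2
  set x := t⁻¹ * v₀ * t with hx
  apply J_moves h
  refine le_normalizer_of fun c hc w hw => ?_
  obtain ⟨m, hm, hmw⟩ := comm_surj h hv'V hv'1 (t * w * t⁻¹) (conj_mem ht₁ hw)
  have hmQ : t⁻¹ * m * t ∈ o2 (centralizer (M : Set G)) := by
    refine (mem_Q h).2 ⟨conj_mem' (t_R ht₁) (mem_R_of_Q h (M_le_Q h hm)), fun n hn => ?_⟩
    have h1 := hcomm m hm _ (mem_Mt_of hn)
    calc t⁻¹ * m * t * n = t⁻¹ * (m * (t * n * t⁻¹)) * t := by group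
      _ = t⁻¹ * (t * n * t⁻¹ * m) * t := by rw [h1]
      _ = _ := by group
  have hw2 : x * (t⁻¹ * m * t) * x⁻¹ * (t⁻¹ * m * t)⁻¹ = w := by
    have h1 : q * m = m * q := ((mem_Q h).1 hq).2 m hm
    calc x * (t⁻¹ * m * t) * x⁻¹ * (t⁻¹ * m * t)⁻¹ = t⁻¹ * (v₀ * m * v₀⁻¹ * m⁻¹) * t := by
          rw [hx]; group
      _ = t⁻¹ * (v' * (q * m) * (v' * q)⁻¹ * m⁻¹) * t := by rw [hvq]; group
      _ = t⁻¹ * (v' * m * v'⁻¹ * m⁻¹) * t := by rw [h1]; group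
      _ = w := by rw [hmw]; group
  set y := t⁻¹ * m * t with hy
  have hcC := J_le_C₁ h hc
  have hy2 := conj_mem (C₁_norm_Q h hcC) hmQ
  have h1 := comm_J h c hc x hxQ
  -- `c x c⁻¹ = n x`, `n ∈ M`
  set n := (x * c * x⁻¹ * c⁻¹)⁻¹ with hn
  have hnM : n ∈ M := inv_mem h1
  have hcx : c * x * c⁻¹ = n * x := by rw [hn]; group
  have h2 : n * (x * (c * y * c⁻¹) * x⁻¹) = x * (c * y * c⁻¹) * x⁻¹ * n :=
    (((mem_Q h).1 (mul_mem (mul_mem hxQ hy2) (inv_mem hxQ))).2 n hnM).symm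
  have h3 : c * w * c⁻¹ = x * (c * y * c⁻¹) * x⁻¹ * (c * y * c⁻¹)⁻¹ := by
    calc c * w * c⁻¹ = c * (x * y * x⁻¹ * y⁻¹) * c⁻¹ := by rw [hw2]
      _ = (c * x * c⁻¹) * (c * y * c⁻¹) * (c * x * c⁻¹)⁻¹ * (c * y * c⁻¹)⁻¹ := by group
      _ = n * (x * (c * y * c⁻¹) * x⁻¹) * n⁻¹ * (c * y * c⁻¹)⁻¹ := by rw [hcx]; group
      _ = _ := by rw [h2]; group
  rw [h3]
  exact hxquad _ (mem_R_of_Q h hy2)

/-- `M ∩ Q₁^t = V₁` if `[M,M^t] ≠ 1` -/
theorem inter (hnc : ∃ m ∈ M, ∃ m' ∈ Mt t M, m * m' ≠ m' * m) {x : G} (hx : x ∈ M)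
    (hxQ : x ∈ Mt t (o2 (centralizer (M : Set G)))) : x ∈ V₁ := by
  have hN : centralizer (V₁ : Set G) ≤
      normalizer ((M ⊓ Mt t (o2 (centralizer (M : Set G))) : Subgroup G) : Set G) := by
    refine le_normalizer_of fun g hg x hx => ?_
    obtain ⟨hx1, hx2⟩ := mem_inf.1 hx
    exact mem_inf.2 ⟨conj_mem (h.H_M hg) hx1, conj_mem (H_norm_Qt h ht₁ hg) hx2⟩
  have hV₁ : V₁ ≤ Mt t (o2 (centralizer (M : Set G))) := fun y hy =>
    mem_Mt.2 (M_le_Q h (h.V₁_le_M (conj_mem' ht₁ hy)))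
  rcases dich h (le_inf h.V₁_le_M hV₁) inf_le_left hN with h1 | h1
  · exact h1 (mem_inf.2 ⟨hx, hxQ⟩)
  · exfalso
    obtain ⟨m, hm, m', hm', hmm⟩ := hnc
    exact hmm (((mem_Qt h ht₁).1 ((h1.trans inf_le_right) hm)).2 m' hm')

/-- `M^t ∩ Q₁ = V₁` if `[M,M^t] ≠ 1` -/
theorem inter' (hnc : ∃ m ∈ M, ∃ m' ∈ Mt t M, m * m' ≠ m' * m) {x : G} (hx : x ∈ Mt t M)
    (hxQ : x ∈ o2 (centralizer (M : Set G))) : x ∈ V₁ := by
  rw [← conj_mem_iff ht₁]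
  obtain ⟨m, hm, m', hm', hmm⟩ := hnc
  refine inter h (inv_mem ht₁) ⟨t⁻¹ * m' * t, mem_Mt.1 hm', t⁻¹ * m * t, ?_, ?_⟩ (mem_Mt.1 hx) ?_
  · rw [mem_Mt]
    rwa [show t⁻¹⁻¹ * (t⁻¹ * m * t) * t⁻¹ = m by group]
  · intro h1
    apply hmm
    calc m * m' = t * (t⁻¹ * m * t * (t⁻¹ * m' * t)) * t⁻¹ := by group
      _ = t * (t⁻¹ * m' * t * (t⁻¹ * m * t)) * t⁻¹ := by rw [h1]
      _ = _ := by group
  · rw [mem_Mt]
    rwa [show t⁻¹⁻¹ * (t⁻¹ * x * t) * t⁻¹ = x by group]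

include ht in
/-- Case (ii). -/
theorem case_ii (htz : t * z * t⁻¹ ≠ z) : ∀ m ∈ M, ∀ m' ∈ Mt t M, m * m' = m' * m := by
  by_contra hcon
  push Not at hcon
  have hnc : ∃ m ∈ M, ∃ m' ∈ Mt t M, m * m' ≠ m' * m := hcon
  set Q := o2 (centralizer (M : Set G)) with hQdef
  set R := o2 (centralizer (V₁ : Set G)) with hRdef
  have hQR : Q ≤ R := fun x hx => mem_R_of_Q h hx
  have hQtR : Mt t Q ≤ R := fun x hx => ((mem_Qt h ht₁).1 hx).1
  have hV₁Q : V₁ ≤ Q := h.V₁_le_M.trans (M_le_Q h)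
  have hV₁Qt : V₁ ≤ Mt t Q := fun y hy => mem_Mt.2 (hV₁Q (conj_mem' ht₁ hy))
  have hMR : M ≤ R := (M_le_Q h).trans hQR
  have hMtQt : Mt t M ≤ Mt t Q := fun x hx => mem_Mt.2 (M_le_Q h (mem_Mt.1 hx))
  have hRQ : R ≤ normalizer (Q : Set G) :=
    (R_le_H h).trans ((H_le_C₁ h).trans (C₁_norm_Q h))
  have hRQt : R ≤ normalizer (Mt t Q : Set G) := (R_le_H h).trans (H_norm_Qt h ht₁)
  have hR1 : ∀ r ∈ R, ∃ v ∈ V, v⁻¹ * r ∈ Q := by
    intro r hr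
    obtain ⟨v, hv, q, hq, rfl⟩ := R_eq h hr
    exact ⟨v, hv, by rwa [inv_mul_cancel_left]⟩
  have hR2 : ∀ r ∈ R, ∃ v ∈ V, v⁻¹ * r ∈ Mt t Q := by
    intro r hr
    obtain ⟨v, hv, hq⟩ := hR1 _ (conj_mem' (t_R ht₁) hr)
    refine ⟨t * v * t⁻¹, conj_mem ht hv, mem_Mt.2 ?_⟩
    rwa [show t⁻¹ * ((t * v * t⁻¹)⁻¹ * r) * t = v⁻¹ * (t⁻¹ * r * t) by group]
  have hR3 : ∀ r ∈ R, ∃ m ∈ Mt t M, m⁻¹ * r ∈ Q :=
    cover hQR hRQ h.V_le (Mt_le_R h ht₁) h.V_card (by rw [card_Mt, h.M_card]) h.V₁_card h.V₁_le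
      hV₁Q (fun x hx hxQ => inter' h ht₁ hnc hx hxQ) hR1
  have hR4 : ∀ r ∈ R, ∃ m ∈ M, m⁻¹ * r ∈ Mt t Q :=
    cover hQtR hRQt h.V_le hMR h.V_card h.M_card h.V₁_card h.V₁_le hV₁Qt
      (fun x hx hxQ => inter h ht₁ hnc hx hxQ) hR2
  -- `V ∩ Q₁^t = V₁`
  have hVQt : ∀ v ∈ V, v ∈ Mt t Q → v ∈ V₁ := fun v hv hvq =>
    (conj_mem_iff ht₁).1 ((V_Q h (conj_mem' ht hv)).1 (mem_Mt.1 hvq))
  -- squares
  have hsq1 : ∀ q ∈ Q, ∃ k ∈ Q, k ∈ Mt t Q ∧ q * q = k * k := by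
    intro q hq
    obtain ⟨m, hm, hk⟩ := hR4 q (hQR hq)
    have hk' : m⁻¹ * q ∈ Q := mul_mem (inv_mem (M_le_Q h hm)) hq
    refine ⟨m⁻¹ * q, hk', hk, ?_⟩
    have h1 := ((mem_Q h).1 hq).2 m hm
    rw [M_inv h hm]
    calc q * q = (m * m) * (q * q) := by rw [h.M_sq m hm, one_mul]
      _ = m * (m * q) * q := by group
      _ = m * (q * m) * q := by rw [h1]
      _ = _ := by group
  have hsq2 : ∀ q ∈ Mt t Q, ∃ k ∈ Q, k ∈ Mt t Q ∧ q * q = k * k := by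
    intro q hq
    obtain ⟨m, hm, hk⟩ := hR3 q (hQtR hq)
    have hk' : m⁻¹ * q ∈ Mt t Q := mul_mem (inv_mem (hMtQt hm)) hq
    refine ⟨m⁻¹ * q, hk, hk', ?_⟩
    have h1 := ((mem_Qt h ht₁).1 hq).2 m hm
    have hmm : m * m = 1 := by
      have h2 := h.M_sq _ (mem_Mt.1 hm)
      calc m * m = t * (t⁻¹ * m * t * (t⁻¹ * m * t)) * t⁻¹ := by group
        _ = 1 := by rw [h2]; group
    rw [inv_eq_of_mul_eq_one_left hmm]
    calc q * q = (m * m) * (q * q) := by rw [hmm, one_mul]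
      _ = m * (m * q) * q := by group
      _ = m * (q * m) * q := by rw [h1]
      _ = _ := by group
  by_cases htriv : ∀ q ∈ Q, q * q = 1
  · -- all squares trivial
    obtain ⟨v, hv, hv'⟩ := exists_V h
    obtain ⟨m', hm', hq⟩ := hR3 v (h.V_le hv)
    obtain ⟨m, hm, hk⟩ := hR4 _ (hQR hq)
    have hk' : m⁻¹ * (m'⁻¹ * v) ∈ Q := mul_mem (inv_mem (M_le_Q h hm)) hq
    set k := m⁻¹ * (m'⁻¹ * v) with hkdef
    have hvk : v = m' * m * k := by rw [hkdef]; group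
    have hkm : k * m = m * k := ((mem_Q h).1 hk').2 m hm
    have hkm' : k * m' = m' * k := ((mem_Qt h ht₁).1 hk).2 m' hm'
    have hkk := htriv k hk'
    have hmm : m * m = 1 := h.M_sq m hm
    have hmm' : m' * m' = 1 := by
      have h2 := h.M_sq _ (mem_Mt.1 hm')
      calc m' * m' = t * (t⁻¹ * m' * t * (t⁻¹ * m' * t)) * t⁻¹ := by group
        _ = 1 := by rw [h2]; group
    have hvv := h.V_sq v hv
    have h1 : m' * m * (m' * m) = 1 := by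
      calc m' * m * (m' * m) = m' * m * (m' * m) * (k * k) := by rw [hkk, mul_one]
        _ = m' * m * m' * (m * k) * k := by group
        _ = m' * m * m' * (k * m) * k := by rw [hkm]
        _ = m' * m * (m' * k) * m * k := by group
        _ = m' * m * (k * m') * m * k := by rw [hkm']
        _ = (m' * m * k) * (m' * m * k) := by group
        _ = 1 := by rw [← hvk, hvv]
    have hcomm : m * m' = m' * m := by
      have h2 : (m' * m)⁻¹ = m' * m := inv_eq_of_mul_eq_one_left h1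
      rwa [mul_inv_rev, inv_eq_of_mul_eq_one_left hmm, inv_eq_of_mul_eq_one_left hmm'] at h2
    by_cases hm'1 : m' ∈ V₁
    · apply hv'
      rw [← V_Q h hv, hvk]
      exact mul_mem (mul_mem (hV₁Q hm'1) (M_le_Q h hm)) hk'
    by_cases hm1 : m ∈ V₁
    · apply hv'
      apply hVQt v hv
      rw [hvk]
      exact mul_mem (mul_mem (hMtQt hm') (hV₁Qt hm1)) hk
    apply hm1
    obtain ⟨v', hv'V, q₂, hq₂, hvq⟩ := R_eq h (Mt_le_R h ht₁ hm')
    refine h.V_M v' hv'V ?_ m hm ?_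
    · intro h2
      apply hm'1
      apply inter' h ht₁ hnc hm'
      rw [hvq]
      exact mul_mem (hV₁Q h2) hq₂
    · have h2 : q₂ * m = m * q₂ := ((mem_Q h).1 hq₂).2 m hm
      have h3 : v' = m' * q₂⁻¹ := by rw [hvq]; group
      have h4 : q₂⁻¹ * m = m * q₂⁻¹ := by
        calc q₂⁻¹ * m = q₂⁻¹ * (m * q₂) * q₂⁻¹ := by group
          _ = q₂⁻¹ * (q₂ * m) * q₂⁻¹ := by rw [h2]
          _ = _ := by group
      rw [h3, mul_assoc, h4, ← mul_assoc, ← hcomm, mul_assoc]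
  · -- `U = ⟨squares⟩`
    set U : Subgroup G := closure {x | ∃ q ∈ Q, x = q * q} with hU
    have hUt : U = closure {x | ∃ q ∈ Mt t Q, x = q * q} := by
      apply le_antisymm
      · rw [hU, closure_le]
        rintro _ ⟨q, hq, rfl⟩
        obtain ⟨k, -, hk, hqk⟩ := hsq1 q hq
        rw [hqk]
        exact subset_closure ⟨k, hk, rfl⟩
      · rw [closure_le]
        rintro _ ⟨q, hq, rfl⟩
        obtain ⟨k, hk, -, hqk⟩ := hsq2 q hq
        rw [hqk]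
        exact subset_closure ⟨k, hk, rfl⟩
    have hUQ : U ≤ Q := by
      rw [hU, closure_le]
      rintro _ ⟨q, hq, rfl⟩
      exact mul_mem hq hq
    have hU1 : U ≠ ⊥ := by
      intro h0
      apply htriv
      intro q hq
      have : q * q ∈ U := subset_closure ⟨q, hq, rfl⟩
      rwa [h0, mem_bot] at this
    have hU2 : IsPGroup 2 U := (ZN.isPGroup_o2 _).to_le hUQ
    have hCU : C₁ z M ≤ normalizer (U : Set G) := by
      refine le_normalizer_of fun g hg x hx => ?_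
      have h1 : U ≤ U.comap (MulAut.conj g).toMonoidHom := by
        conv_lhs => rw [hU]
        rw [closure_le]
        rintro _ ⟨q, hq, rfl⟩
        change g * (q * q) * g⁻¹ ∈ U
        rw [show g * (q * q) * g⁻¹ = (g * q * g⁻¹) * (g * q * g⁻¹) by group]
        exact subset_closure ⟨_, conj_mem (C₁_norm_Q h hg) hq, rfl⟩
      exact h1 hx
    have htU : t ∈ normalizer (U : Set G) := by
      refine mem_normalizer_of (fun x hx => ?_) fun x hx => ?_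
      · have h1 : U ≤ U.comap (MulAut.conj t).toMonoidHom := by
          conv_lhs => rw [hU]
          rw [closure_le]
          rintro _ ⟨q, hq, rfl⟩
          change t * (q * q) * t⁻¹ ∈ U
          rw [show t * (q * q) * t⁻¹ = (t * q * t⁻¹) * (t * q * t⁻¹) by group, hUt]
          exact subset_closure ⟨_, mem_Mt_of hq, rfl⟩
        exact h1 hx
      · have h1 : U ≤ U.comap (MulAut.conj t⁻¹).toMonoidHom := by
          conv_lhs => rw [hUt]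
          rw [closure_le]
          rintro _ ⟨q, hq, rfl⟩
          change t⁻¹ * (q * q) * t⁻¹⁻¹ ∈ U
          rw [show t⁻¹ * (q * q) * t⁻¹⁻¹ = (t⁻¹ * q * t) * (t⁻¹ * q * t) by group]
          exact subset_closure ⟨_, mem_Mt.1 hq, rfl⟩
        have h2 := h1 hx
        change t⁻¹ * x * t⁻¹⁻¹ ∈ U at h2
        rwa [inv_inv] at h2
    set L := normalizer (U : Set G) with hL
    have hSL : (S : Subgroup G) ≤ L := (S_le_C₁ h).trans hCU
    have hloc : IsLoc (S : Subgroup G) L := isLoc_normalizer S hU2 hU1 hSL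
    set A := o2 L ⊓ centralizer (o2 L : Set G) with hA
    have hAn : ∀ g ∈ L, ∀ x ∈ A, g * x * g⁻¹ ∈ A := by
      intro g hg x hx
      obtain ⟨hx1, hx2⟩ := mem_inf.1 hx
      have h1 := ZN.le_normalizer_o2 L hg
      exact mem_inf.2 ⟨conj_mem h1 hx1, conj_mem (norm_cent h1) hx2⟩
    have hzA : z ∈ A := by
      have h1 : z ∈ (S : Subgroup G) ⊓ centralizer ((S : Subgroup G) : Set G) := by
        have h3 : zc (S : Subgroup G) ≤ (S : Subgroup G) ⊓ centralizer ((S : Subgroup G) : Set G) :=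
          (closure_le _).2 fun x hx => hx.1
        exact h3 (by rw [h.zc_eq]; exact mem_zpowers z)
      obtain ⟨hz1, hz2⟩ := mem_inf.1 h1
      have h4 : z ∈ centralizer (o2 L : Set G) := centralizer_le (hloc.o2_le S) hz2
      exact mem_inf.2 ⟨hloc.char2 S h.char2 (mem_inf.2 ⟨hSL hz1, h4⟩), h4⟩
    have hwA : t * z * t⁻¹ ∈ A := hAn t htU z hzA
    have hw : t * z * t⁻¹ ∈ V₁ := conj_mem ht₁ h.z_mem
    have hw1 : t * z * t⁻¹ ≠ 1 := fun h1 => h.z_ne (by simpa using h1)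
    have hMA : M ≤ A := by
      intro m hm
      by_cases hem : e m = 0
      · rcases h.e_ker m hm hem with rfl | rfl
        · exact one_mem _
        · exact hzA
      · obtain ⟨g, hg, hg'⟩ := tran h (h.V₁_le_M hw) (e_ne h (h.V₁_le_M hw) hw1 htz) hem
        have hgC := J_le_C₁ h hg
        have h1 := hAn g (hCU hgC) _ hwA
        rcases e_eq h (conj_mem hgC.2 (h.V₁_le_M hw)) hm hg' with h2 | h2
        · rw [h2]; exact h1
        · rw [h2]; exact mul_mem h1 hzA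
    obtain ⟨m, hm, m', hm', hmm⟩ := hnc
    apply hmm
    have h1 := hAn t htU _ (hMA (mem_Mt.1 hm'))
    rw [show t * (t⁻¹ * m' * t) * t⁻¹ = m' by group] at h1
    exact cent_iff.1 (mem_inf.1 (hMA hm)).2 m' (mem_inf.1 h1).1

end one

/-- **Step (6)**: some `t ∈ N(V) ∩ N(V₁) ∩ N(M)` moves `z`. -/
theorem step6 (h : SixIn S z V V₁ M e) : ∃ t ∈ normalizer (M : Set G), t ∈ normalizer (V₁ : Set G) ∧
    t * z * t⁻¹ ≠ z := by
  obtain ⟨t, ht, ht₁, htz⟩ := h.tor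
  refine ⟨t, ?_, ht₁, htz⟩
  have h1 := case_ii h ht ht₁ htz
  have h2 : M ≤ Mt t M := by
    by_contra hne
    exact case_i h ht₁ h1 hne
  have h3 : M = Mt t M := Subgroup.eq_of_le_of_card_ge h2 (by rw [card_Mt])
  refine mem_normalizer_of (fun x hx => ?_) fun x hx => ?_
  · have := mem_Mt_of (t := t) hx
    rwa [← h3] at this
  · rw [h3] at hx
    exact mem_Mt.1 hx

end Cfsg.Agent.Omega.NO1.Nat.SixC
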