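import Cfsg.Agent.TwoFusion.SectionalRank
import Cfsg.Agent.Omega.NO1.Nat.SixC

/-!
# THEOREM NAT (#13408), step (7): general lemmas

* `fixmod` : fixed points of a `p`-element on an invariant set;
* `orb` : orbit-stabiliser for conjugation;
* `exists_pel` : `p ∣ |B : A|` gives a `p`-element of `B` outside `A`;
* `rank_of` : a group with Sylow 2-subgroup `S ⊵ M = 2⁴`, `|S/M| ≤ 8`, `M` without transvections, `S/M` not
  elementary abelian, has sectional 2-rank at most 4.
-/

set_option autoImplicit false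
set_option linter.unusedSectionVars false

namespace Cfsg.Agent.Omega.NO1.Nat.SevenA

open Subgroup Cfsg
open Cfsg.Agent.Omega.NO1.Nat.SixA
open Cfsg.Agent.TwoFusion.SectionalRank (ElemSection sectionalPRankLE_iff exists_sylow_section
  card_eq_relIndex_mul)

variable {G : Type*} [Group G]

/-- Fixed points of a `p`-element on an invariant set. -/
theorem fixmod [Finite G] {p : ℕ} [Fact p.Prime] {f : G} {k : ℕ} (hf : f ^ p ^ k = 1) (X : Set G)
    (hX : ∀ x ∈ X, f * x * f⁻¹ ∈ X) : X.ncard ≡ {x ∈ X | f * x = x * f}.ncard [MOD p] := by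
  have hX' : ∀ g ∈ zpowers f, ∀ x ∈ X, g * x * g⁻¹ ∈ X := by
    intro g hg
    rw [← mem_powers_iff_mem_zpowers] at hg
    obtain ⟨n, rfl⟩ := hg
    dsimp only
    induction n with
    | zero => intro x hx; simpa using hx
    | succ n ih =>
      intro x hx
      have h1 := hX _ (ih x hx)
      rwa [show f * (f ^ n * x * (f ^ n)⁻¹) * f⁻¹ = f ^ (n + 1) * x * (f ^ (n + 1))⁻¹ by
        rw [pow_succ']; group] at h1
  let act : MulAction (zpowers f) X :=
    { smul := fun g x => ⟨g * x * (g : G)⁻¹, hX' g g.2 x x.2⟩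
      one_smul := fun x => Subtype.ext (by
        change ((1 : zpowers f) : G) * x * ((1 : zpowers f) : G)⁻¹ = x
        simp)
      mul_smul := fun s t x => Subtype.ext (by
        change ((s * t : zpowers f) : G) * x * ((s * t : zpowers f) : G)⁻¹ =
          s * (t * x * (t : G)⁻¹) * (s : G)⁻¹
        push_cast
        group) }
  have hsmul : ∀ (g : zpowers f) (x : X), ((g • x : X) : G) = g * x * (g : G)⁻¹ := fun g x => rfl
  have hp : IsPGroup p (zpowers f) := by
    rintro ⟨g, hg⟩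
    refine ⟨k, Subtype.ext ?_⟩
    obtain ⟨n, rfl⟩ := mem_zpowers_iff.1 hg
    change (f ^ n) ^ p ^ k = 1
    rw [← zpow_natCast, ← zpow_mul, mul_comm, zpow_mul, zpow_natCast, hf, one_zpow]
  have h1 := hp.card_modEq_card_fixedPoints X
  have h2 : Nat.card (MulAction.fixedPoints (zpowers f) X) = {x ∈ X | f * x = x * f}.ncard := by
    have h3 : (Subtype.val '' (MulAction.fixedPoints (zpowers f) X) : Set G) =
        {x ∈ X | f * x = x * f} := by
      ext y
      constructor
      · rintro ⟨x, hx, rfl⟩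
        refine ⟨x.2, ?_⟩
        have h4 := congrArg Subtype.val (hx ⟨f, mem_zpowers f⟩)
        rw [hsmul] at h4
        exact mul_inv_eq_iff_eq_mul.1 h4
      · rintro ⟨hy, hy'⟩
        refine ⟨⟨y, hy⟩, fun g => Subtype.ext ?_, rfl⟩
        rw [hsmul]
        obtain ⟨n, hn⟩ := mem_zpowers_iff.1 g.2
        have h5 : Commute (g : G) y := by
          rw [← hn]
          exact (show Commute f y from hy').zpow_left n
        change (g : G) * y * (g : G)⁻¹ = y
        rw [h5.eq]; group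
    rw [← h3, Set.ncard_image_of_injective _ Subtype.val_injective]
    rfl
  rw [← h2]
  exact h1

/-- Orbit-stabiliser for conjugation. -/
theorem orb [Finite G] (X : Subgroup G) (a : G) :
    (centralizer ({a} : Set G)).relIndex X = {y | ∃ x ∈ X, x * a * x⁻¹ = y}.ncard := by
  let act : MulAction X G := MulAction.compHom G ((MulAut.conj : G →* MulAut G).comp X.subtype)
  have hsmul : ∀ (x : X) (y : G), x • y = x * y * (x : G)⁻¹ := fun x y => rfl
  have h1 : MulAction.stabilizer X a = (centralizer ({a} : Set G)).subgroupOf X := by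
    ext x
    rw [MulAction.mem_stabilizer_iff, mem_subgroupOf, mem_centralizer_singleton_iff, hsmul,
      mul_inv_eq_iff_eq_mul]
  have h2 : {y | ∃ x ∈ X, x * a * x⁻¹ = y} = MulAction.orbit X a := by
    ext y
    constructor
    · rintro ⟨x, hx, rfl⟩
      exact ⟨⟨x, hx⟩, rfl⟩
    · rintro ⟨x, rfl⟩
      exact ⟨x, x.2, rfl⟩
  rw [relIndex, ← h1, MulAction.index_stabilizer, h2]

/-- `p ∣ |B : A|` gives a `p`-element of `B` outside `A`. -/
theorem exists_pel [Finite G] {p : ℕ} [hp : Fact p.Prime] {A B : Subgroup G} (hAB : p ∣ A.relIndex B) :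
    ∃ b ∈ B, b ∉ A ∧ ∃ k, b ^ p ^ k = 1 := by
  obtain ⟨P⟩ : Nonempty (Sylow p B) := inferInstance
  by_contra hcon
  push Not at hcon
  have h1 : (P : Subgroup B) ≤ A.subgroupOf B := by
    intro x hx
    rw [mem_subgroupOf]
    by_contra hxA
    obtain ⟨k, hk⟩ := P.isPGroup' ⟨x, hx⟩
    refine hcon x x.2 hxA k ?_
    have := congrArg (fun y : P => ((y : B) : G)) hk
    simpa using this
  have h2 : (A.subgroupOf B).index ∣ (P : Subgroup B).index := index_dvd_of_le h1
  exact P.not_dvd_index (hAB.trans h2)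

/-- a 2-element of `X ≥ S` is conjugate in `X` to an element of `S` -/
theorem exists_conj_mem [Finite G] {p : ℕ} [hp : Fact p.Prime] (S : Sylow p G) {X : Subgroup G}
    (hSX : (S : Subgroup G) ≤ X) {c : G} (hc : c ∈ X) {k : ℕ} (hk : c ^ p ^ k = 1) :
    ∃ g ∈ X, g * c * g⁻¹ ∈ (S : Subgroup G) := by
  have h1 : IsPGroup p (zpowers (⟨c, hc⟩ : X)) := by
    rintro ⟨g, hg⟩
    refine ⟨k, Subtype.ext ?_⟩
    obtain ⟨n, rfl⟩ := mem_zpowers_iff.1 hg
    have h2 : (⟨c, hc⟩ : X) ^ p ^ k = 1 := Subtype.ext hk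
    change ((⟨c, hc⟩ : X) ^ n) ^ p ^ k = 1
    rw [← zpow_natCast, ← zpow_mul, mul_comm, zpow_mul, zpow_natCast, h2, one_zpow]
  obtain ⟨P, hP⟩ := h1.exists_le_sylow
  obtain ⟨g, hg⟩ := MulAction.exists_smul_eq X P (S.subtype hSX)
  refine ⟨g, g.2, ?_⟩
  have h3 : (⟨c, hc⟩ : X) ∈ P := hP (mem_zpowers _)
  have h4 : g * ⟨c, hc⟩ * g⁻¹ ∈ ((S.subtype hSX : Sylow p X) : Subgroup X) := by
    rw [← hg, Sylow.coe_subgroup_smul]
    exact Subgroup.smul_mem_pointwise_smul _ (MulAut.conj g) _ h3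
  exact h4

theorem sup_dec {X M : Subgroup G} (hX : X ≤ normalizer (M : Set G)) {y : G} (hy : y ∈ M ⊔ X) :
    ∃ x ∈ X, ∃ m ∈ M, y = x * m := by
  rw [sup_eq_closure] at hy
  induction hy using closure_induction with
  | mem x hx =>
    rcases hx with hx | hx
    · exact ⟨1, one_mem _, x, hx, by simp⟩
    · exact ⟨x, hx, 1, one_mem _, by simp⟩
  | one => exact ⟨1, one_mem _, 1, one_mem _, by simp⟩
  | mul a b _ _ ha hb =>
    obtain ⟨x, hx, m, hm, rfl⟩ := ha
    obtain ⟨x', hx', m', hm', rfl⟩ := hb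
    refine ⟨x * x', mul_mem hx hx', x'⁻¹ * m * x' * m', mul_mem (conj_mem' (hX hx') hm) hm', ?_⟩
    group
  | inv a _ ha =>
    obtain ⟨x, hx, m, hm, rfl⟩ := ha
    refine ⟨x⁻¹, inv_mem hx, x * m⁻¹ * x⁻¹, conj_mem (hX hx) (inv_mem hm), ?_⟩
    group

/-- The rank of a group with Sylow 2-subgroup `S ⊵ M = 2⁴`. -/
theorem rank_of [Finite G] (S : Sylow 2 G) {M : Subgroup G} (hMc : Nat.card M = 16)
    (hSM : (S : Subgroup G) ≤ normalizer (M : Set G))
    (hcomm : ∀ x ∈ M, ∀ y ∈ M, x * y = y * x) (hi : M.relIndex S ≤ 8) (hMS : M ≤ S)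
    (htr : ∀ s ∈ (S : Subgroup G), s ∉ M → Nat.card ↥(M ⊓ centralizer ({s} : Set G)) ≤ 4)
    (hsq : ∃ s ∈ (S : Subgroup G), s * s ∉ M) : SectionalPRankLE 2 4 G := by
  rw [sectionalPRankLE_iff]
  intro X₀ Y₀ h₀
  obtain ⟨X, Y, hXS, hXY, hc⟩ := exists_sylow_section S h₀
  -- enough for `X ≤ S`
  suffices hmain : Nat.card X ≤ 2 ^ 4 * Nat.card Y by
    have h1 : 0 < Nat.card Y := Nat.card_pos
    have h2 : Nat.card X₀ * Nat.card Y ≤ (2 ^ 4 * Nat.card Y₀) * Nat.card Y := by
      rw [hc]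
      calc Nat.card X * Nat.card Y₀ ≤ (2 ^ 4 * Nat.card Y) * Nat.card Y₀ :=
            Nat.mul_le_mul_right _ hmain
        _ = _ := by ring
    exact Nat.le_of_mul_le_mul_right h2 h1
  by_cases hXM : X ≤ M
  · have h1 := Subgroup.card_le_of_le hXM
    have h2 : 0 < Nat.card Y := Nat.card_pos
    rw [hMc] at h1
    omega
  obtain ⟨s, hs, hsM⟩ := SetLike.not_le_iff_exists.1 hXM
  -- `|X ∩ M| ≤ 4 |Y ∩ M|`
  have h1 : Nat.card ↥(M ⊓ X) ≤ 4 * Nat.card ↥(M ⊓ Y) := by
    have hval : ∀ m ∈ M ⊓ X, s * m * s⁻¹ * m⁻¹ ∈ M ⊓ Y := by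
      intro m hm
      obtain ⟨hm1, hm2⟩ := mem_inf.1 hm
      exact mem_inf.2 ⟨mul_mem (conj_mem (hSM (hXS hs)) hm1) (inv_mem hm1), hXY.comm s hs m hm2⟩
    let f : ↥(M ⊓ X) →* ↥(M ⊓ Y) :=
      { toFun := fun m => ⟨s * m * s⁻¹ * (m : G)⁻¹, hval m m.2⟩
        map_one' := by
          apply Subtype.ext; simp
        map_mul' := fun x y => by
          apply Subtype.ext
          have h2 := hcomm _ (mem_inf.1 (hval y y.2)).1 _ (inv_mem (mem_inf.1 x.2).1)
          change s * (x * y) * s⁻¹ * ((x : G) * y)⁻¹ =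
            (s * x * s⁻¹ * (x : G)⁻¹) * (s * y * s⁻¹ * (y : G)⁻¹)
          calc s * (x * y) * s⁻¹ * ((x : G) * y)⁻¹
              = s * x * s⁻¹ * (s * y * s⁻¹ * (y : G)⁻¹ * (x : G)⁻¹) := by group
            _ = s * x * s⁻¹ * ((x : G)⁻¹ * (s * y * s⁻¹ * (y : G)⁻¹)) := by rw [h2]
            _ = _ := by group }
    have hk : Nat.card f.ker ≤ 4 := by
      have h3 : f.ker.map (M ⊓ X).subtype ≤ M ⊓ centralizer ({s} : Set G) := by
        rintro _ ⟨m, hm, rfl⟩
        refine mem_inf.2 ⟨(mem_inf.1 m.2).1, ?_⟩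
        have h4 : s * m * s⁻¹ * (m : G)⁻¹ = 1 := congrArg Subtype.val (MonoidHom.mem_ker.1 hm)
        rw [mem_centralizer_singleton_iff]
        change (m : G) * s = s * m
        calc (m : G) * s = 1 * m * s := by rw [one_mul]
          _ = s * m * s⁻¹ * (m : G)⁻¹ * m * s := by rw [h4]
          _ = s * m := by group
      have h4 := Subgroup.card_le_of_le h3
      rw [Subgroup.card_map_of_injective (M ⊓ X).subtype_injective] at h4
      exact h4.trans (htr s (hXS hs) hsM)
    have h3 : Nat.card f.ker * Nat.card f.range = Nat.card ↥(M ⊓ X) := by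
      rw [← Subgroup.index_ker f]
      exact f.ker.card_mul_index
    rw [← h3]
    exact Nat.mul_le_mul hk (Subgroup.card_le_card_group _)
  -- `|X : X ∩ M| ≤ 4 |Y : Y ∩ M|`
  have h2 : M.relIndex X ≤ 4 * M.relIndex Y := by
    have hne : ∀ A B : Subgroup G, A.relIndex B ≠ 0 := fun A B => index_ne_zero_of_finite (H := A.subgroupOf B)
    have h3 : M.relIndex X ≤ 8 := (relIndex_le_of_le_right hXS (hne _ _)).trans hi
    by_cases h4 : M.relIndex Y = 1
    · by_contra hlt
      rw [h4] at hlt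
      push Not at hlt
      have hYM : Y ≤ M := relIndex_eq_one.1 h4
      have h5 : M.relIndex X ≤ M.relIndex (M ⊔ X) := relIndex_le_of_le_right le_sup_right (hne _ _)
      have h6 : M.relIndex (M ⊔ X) * (M ⊔ X).relIndex S = M.relIndex S :=
        relIndex_mul_relIndex _ _ _ le_sup_left (sup_le hMS hXS)
      have h7 : (M ⊔ X).relIndex S = 1 := by
        have h8 := hne (M ⊔ X) S
        by_contra h9
        have h10 : 5 * 2 ≤ M.relIndex (M ⊔ X) * (M ⊔ X).relIndex S :=
          Nat.mul_le_mul (by omega) (by omega)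
        omega
      obtain ⟨r, hr, hrM⟩ := hsq
      obtain ⟨x, hx, m, hm, rfl⟩ := sup_dec (hXS.trans hSM) (relIndex_eq_one.1 h7 hr)
      apply hrM
      have h8 : x * x ∈ M := by
        have := hXY.pow x hx
        rw [pow_two] at this
        exact hYM this
      have h9 := conj_mem' (hSM (hXS hx)) hm
      have h10 := mul_mem (mul_mem h8 h9) hm
      rwa [show x * x * (x⁻¹ * m * x) * m = x * m * (x * m) by group] at h10
    · have h5 := hne M Y
      have h6 : 2 ≤ M.relIndex Y := by omega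
      omega
  have h5 : Nat.card X = M.relIndex X * Nat.card ↥(M ⊓ X) := by
    have := card_eq_relIndex_mul X (M ⊓ X) inf_le_right
    rwa [inf_relIndex_right] at this
  have h6 : Nat.card Y = M.relIndex Y * Nat.card ↥(M ⊓ Y) := by
    have := card_eq_relIndex_mul Y (M ⊓ Y) inf_le_right
    rwa [inf_relIndex_right] at this
  rw [h5, h6]
  calc M.relIndex X * Nat.card ↥(M ⊓ X) ≤ (4 * M.relIndex Y) * (4 * Nat.card ↥(M ⊓ Y)) :=
        Nat.mul_le_mul h2 h1
    _ = _ := by ring

end Cfsg.Agent.Omega.NO1.Nat.SevenA
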