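import Cfsg.Agent.Omega.NO1.Nat.A0
import Cfsg.Agent.Omega.NO1.Types

/-!
# THEOREM NAT (#13408), step (0): the dichotomy

`Cfg S P`, `V = zl S P` with coordinates `Co F S P V ε`, `Q = O₂(C)`, `V₁ = {ε v 1 = 0}`.

* `dich` : `|F| = 4` and `|Z| = 2`, or `V ∩ Q = V₁` and `Q ≤ C_G(V₁)`.
-/

set_option autoImplicit false
set_option linter.unusedSectionVars false

namespace Cfsg.Agent.Omega.NO1.NatA

open Subgroup Cfsg Cfsg.Agent.Omega.NoFF.Basic Cfsg.Agent.Omega.NOne.Frame
open Cfsg.Agent.Lib.SL2Mat Cfsg.Agent.Omega.NOne.NearFF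
open Cfsg.Agent.Omega.NatPair (ap ap_zero' ap_one' ext2)
open Cfsg.Agent.ZN (o2 zc zl)
open Cfsg.Agent.Omega.NoFF.LinesPlug (CC)
open scoped Pointwise

universe u

variable {G : Type u} [Group G] {F : Type} [Field F]

namespace Co

variable {S P V : Subgroup G} {ε : G → Fin 2 → F} (h : Co F S P V ε)
include h

/-- the commutator with an upper unitriangular element -/
theorem comm_up [CharP F 2] {x v : G} {a : F} (hxV : x ∈ normalizer (V : Set G))
    (hx : ∀ v ∈ V, ε (x * v * x⁻¹) = ap (up a) (ε v)) (hv : v ∈ V) :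
    ε (v * x * v⁻¹ * x⁻¹) = ![a * ε v 1, 0] := by
  have e : v * x * v⁻¹ * x⁻¹ = v * (x * v⁻¹ * x⁻¹) := by group
  rw [e, h.mul _ hv _ (norm_mem hxV (inv_mem hv)), hx _ (inv_mem hv), h.inv hv]
  apply ext2
  · rw [Pi.add_apply, ap_zero', up_00, up_01]
    simp [CharTwo.neg_eq]
    rw [← add_assoc, CharTwo.add_self_eq_zero, zero_add]
  · rw [Pi.add_apply, ap_one', up_10, up_11]
    simp

theorem comm_up_mem [CharP F 2] {x v : G} {a : F} (hxV : x ∈ normalizer (V : Set G))
    (hx : ∀ v ∈ V, ε (x * v * x⁻¹) = ap (up a) (ε v)) (hv : v ∈ V) : v * x * v⁻¹ * x⁻¹ ∈ h.V1 := by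
  refine ⟨?_, by rw [h.comm_up hxV hx hv]; rfl⟩
  have e : v * x * v⁻¹ * x⁻¹ = v * (x * v⁻¹ * x⁻¹) := by group
  rw [e]
  exact mul_mem hv (norm_mem hxV (inv_mem hv))

theorem exists_comm_up [CharP F 2] {x e : G} {a : F} (hxV : x ∈ normalizer (V : Set G))
    (hx : ∀ v ∈ V, ε (x * v * x⁻¹) = ap (up a) (ε v)) (ha : a ≠ 0) (he : e ∈ h.V1) :
    ∃ v ∈ V, v * x * v⁻¹ * x⁻¹ = e := by
  obtain ⟨v, hv, hv1⟩ := h.surj ![0, ε e 0 * a⁻¹]
  refine ⟨v, hv, h.inj (h.comm_up_mem hxV hx hv).1 he.1 ?_⟩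
  rw [h.comm_up hxV hx hv, hv1]
  apply ext2
  · simp
    rw [mul_comm, inv_mul_cancel_right₀ ha]
  · rw [he.2]; rfl

/-- `up a` centralises `V` iff `a = 0`. -/
theorem up_cent {x : G} {a : F} (hxV : x ∈ normalizer (V : Set G))
    (hx : ∀ v ∈ V, ε (x * v * x⁻¹) = ap (up a) (ε v)) : x ∈ centralizer (V : Set G) ↔ a = 0 := by
  constructor
  · intro hc
    obtain ⟨v, hv, hv1⟩ := h.surj ![0, 1]
    have h1 := hx v hv
    rw [← mem_centralizer_iff.1 hc v hv, mul_inv_cancel_right, hv1] at h1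
    have h2 := congrFun h1 0
    rw [ap_zero', up_00, up_01] at h2
    simpa using h2.symm
  · rintro rfl
    refine mem_centralizer_iff.2 fun v hv => ?_
    have h1 : x * v * x⁻¹ = v := by
      refine h.inj (norm_mem hxV hv) hv ?_
      rw [hx v hv]
      apply ext2
      · rw [ap_zero', up_00, up_01]; ring
      · rw [ap_one', up_10, up_11]; ring
    calc v * x = (x * v * x⁻¹) * x := by rw [h1]
      _ = x * v := by group

/-- `[V, x] ≤ V₁` implies that the field automorphism of `x` is trivial. -/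
theorem eq_one_of_comm {x : G} {s : F ≃+* F} (hx : x ∈ P) (hs : Semi V ε x s)
    (hc : ∀ v ∈ V, v * x * v⁻¹ * x⁻¹ ∈ h.V1) : s = 1 := by
  have h1 : ∀ v ∈ V, ε (x * v * x⁻¹) 1 = ε v 1 := by
    intro v hv
    have h2 := (hc v hv).2
    have e : v * x * v⁻¹ * x⁻¹ = v * (x * v * x⁻¹)⁻¹ := by group
    rw [e, h.mul _ hv _ (inv_mem (h.conj_mem hx hv)), h.inv (h.conj_mem hx hv), Pi.add_apply,
      Pi.neg_apply, ← sub_eq_add_neg] at h2
    exact (sub_eq_zero.1 h2).symm
  obtain ⟨v, hv, hv1⟩ := h.surj ![0, 1]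
  ext c
  obtain ⟨w, hw, hwc⟩ := h.surj (c • ε v)
  have h2 := congrFun (hs v hv w hw c hwc) 1
  rw [Pi.smul_apply, h1 v hv, h1 w hw, hwc, Pi.smul_apply, hv1] at h2
  simpa using h2.symm

/-- **The linear case.** -/
theorem lin_case [Finite G] [Finite F] [CharP F 2] (hS2 : IsPGroup 2 S) {z : G} (hz : z ∈ V) (hz1 : z ≠ 1)
    (hS : ∀ t ∈ S, t * z = z * t) {E D F' Q : Subgroup G} {v : G} (hn : Near V E D F' v)
    (hE : E = V ⊓ Q) (hDE : D ≠ E) (hVQ : V ≤ normalizer (Q : Set G)) (hQS : Q ≤ S) (hF' : F' ≤ Q)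
    (hlin : F' ≤ centralizer (h.V1 : Set G)) : E = h.V1 ∧ Q ≤ centralizer (h.V1 : Set G) := by
  have hSV : S ≤ normalizer (V : Set G) := h.SP.trans h.PV
  obtain ⟨f, hf, hfD⟩ : ∃ f ∈ F', f ∉ D := by
    by_contra hcon
    push Not at hcon
    apply hDE
    have h1 := hn.card
    rw [relIndex_eq_one.2 hcon] at h1
    exact le_antisymm hn.DE (relIndex_eq_one.1 h1.symm)
  have hup : ∀ x ∈ F', ∃ a : F, ∀ v ∈ V, ε (x * v * x⁻¹) = ap (up a) (ε v) :=
    fun x hx => h.exists_up hS2 (hQS (hF' hx)) hz hz1 hS (hlin hx)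
  have hnV : ∀ x ∈ F', x ∈ normalizer (V : Set G) := fun x hx => hSV (hQS (hF' hx))
  obtain ⟨a, ha⟩ := hup f hf
  have ha0 : a ≠ 0 := by
    intro h0
    have h1 : f ∈ F' ⊓ centralizer (V : Set G) := mem_inf.2 ⟨hf, (h.up_cent (hnV f hf) ha).2 h0⟩
    rw [hn.F_inf_cent] at h1
    exact hfD h1
  have hDV : D ≤ h.V1 := fun d hd => h.mem_V1_of_up ha ha0 (hn.DV hd) (hn.Dcent hd hf).symm
  have hEV : E = h.V1 := by
    apply le_antisymm
    · intro e he
      obtain ⟨f', hf', h1⟩ := hn.surj he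
      obtain ⟨a', ha'⟩ := hup f' hf'
      have h2 : c v f' ∈ h.V1 := h.comm_up_mem (hnV f' hf') ha' hn.vV
      exact inv_mem_iff.1 ((mul_mem_cancel_left h2).1 (hDV h1))
    · intro e he
      obtain ⟨w, hw, rfl⟩ := h.exists_comm_up (hnV f hf) ha ha0 he
      exact hn.comm w hw f hf
  refine ⟨hEV, fun x hx => ?_⟩
  obtain ⟨s, hs⟩ := h.semi (h.SP (hQS hx))
  rw [h.cent_iff (hQS hx) hs hz hz1 hS]
  refine h.eq_one_of_comm (h.SP (hQS hx)) hs fun v hv => ?_
  rw [← hEV, hE]
  exact comm_mem_inf hVQ ((hQS.trans h.SP).trans h.PV) hv hx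

/-- `|F| = |V₁|` -/
theorem card_V1 : Nat.card h.V1 = Nat.card F := by
  refine Nat.card_congr (Equiv.ofBijective (fun v : h.V1 => ε v 0) ⟨?_, ?_⟩)
  · intro v w hvw
    refine Subtype.ext (h.inj v.2.1 w.2.1 (ext2 hvw ?_))
    rw [v.2.2, w.2.2]
  · intro c
    obtain ⟨v, hv, hv1⟩ := h.surj ![c, 0]
    exact ⟨⟨v, hv, by rw [hv1]; rfl⟩, by change ε v 0 = c; rw [hv1]; rfl⟩

theorem card_V : Nat.card V = Nat.card F * Nat.card F := by
  have h1 : Nat.card V = Nat.card (Fin 2 → F) := by
    refine Nat.card_congr (Equiv.ofBijective (fun v : V => ε v) ⟨?_, ?_⟩)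
    · intro v w hvw
      exact Subtype.ext (h.inj v.2 w.2 hvw)
    · intro x
      obtain ⟨v, hv, hv1⟩ := h.surj x
      exact ⟨⟨v, hv⟩, hv1⟩
  rw [h1]
  simp [Nat.card_fun, pow_two]

end Co

/-! ### Counting in `F` -/

/-- the fixed field -/
theorem card_fix_sq {F : Type*} [Field F] [Finite F] {s : F ≃+* F} (hs : s ≠ 1) :
    Nat.card {c : F // s c = c} * Nat.card {c : F // s c = c} ≤ Nat.card F := by
  obtain ⟨c, hc⟩ : ∃ c, s c ≠ c := by
    by_contra h
    push Not at h
    exact hs (by ext x; exact h x)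
  rw [← Nat.card_prod]
  refine Nat.card_le_card_of_injective (fun p : {c : F // s c = c} × {c : F // s c = c} =>
    (p.1 : F) + c * p.2) ?_
  rintro ⟨⟨x, hx⟩, ⟨y, hy⟩⟩ ⟨⟨x', hx'⟩, ⟨y', hy'⟩⟩ h
  have h1 : x + c * y = x' + c * y' := h
  have h2 := congrArg s h1
  rw [map_add, map_mul, map_add, map_mul, hx, hy, hx', hy'] at h2
  have h3 : (s c - c) * (y - y') = 0 := by linear_combination h2 - h1
  have h4 : y = y' := sub_eq_zero.1 ((mul_eq_zero.1 h3).resolve_left (sub_ne_zero.2 hc))
  subst h4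
  have h5 : x = x' := add_right_cancel h1
  subst h5
  rfl

/-- the image of `c ↦ c - s c μ` -/
theorem card_image {F : Type*} [Field F] [Finite F] (s : F ≃+* F) {μ : F} (I : Set F)
    (hI : ∀ c, c - s c * μ ∈ I) : Nat.card F ≤ Nat.card I * Nat.card {c : F // s c = c} := by
  let L : F →+ F :=
    { toFun := fun c => c - s c * μ
      map_zero' := by simp
      map_add' := fun a b => by rw [map_add]; ring }
  have h1 : Nat.card L.ker ≤ Nat.card {c : F // s c = c} := by
    by_cases h0 : ∃ c₀ ∈ L.ker, c₀ ≠ 0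
    · obtain ⟨c₀, hc₀, hne⟩ := h0
      have hc0 : c₀ = s c₀ * μ := sub_eq_zero.1 hc₀
      refine Nat.card_le_card_of_injective (fun c : L.ker => (⟨(c : F) * c₀⁻¹, ?_⟩ : {c : F // s c = c})) ?_
      · have hc : (c : F) = s c * μ := sub_eq_zero.1 c.2
        have hs0 : s c₀ ≠ 0 := by
          intro h; apply hne; rw [hc0, h, zero_mul]
        have hμ : μ ≠ 0 := by
          intro h; apply hne; rw [hc0, h, mul_zero]
        rw [map_mul, map_inv₀]
        nth_rewrite 2 [hc]
        nth_rewrite 2 [hc0]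
        field_simp
      · intro a b hab
        have h2 : (a : F) * c₀⁻¹ = b * c₀⁻¹ := congrArg Subtype.val hab
        exact Subtype.ext (mul_right_cancel₀ (inv_ne_zero hne) h2)
    · push Not at h0
      have h2 : Nat.card L.ker ≤ 1 := by
        rw [Finite.card_le_one_iff_subsingleton]
        exact ⟨fun a b => Subtype.ext (by rw [h0 a a.2, h0 b b.2])⟩
      have h3 : 0 < Nat.card {c : F // s c = c} := by
        have : Nonempty {c : F // s c = c} := ⟨⟨0, map_zero s⟩⟩
        exact Nat.card_pos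
      omega
  have h2 : Nat.card L.range ≤ Nat.card I := by
    refine Nat.card_le_card_of_injective (fun y : L.range => (⟨y, ?_⟩ : I)) ?_
    · obtain ⟨c, hc⟩ := y.2
      rw [← hc]; exact hI c
    · intro a b hab
      exact Subtype.ext (congrArg (fun x : I => (x : F)) hab)
  have h3 : Nat.card F = Nat.card L.ker * Nat.card L.range := by
    have h4 := AddSubgroup.card_mul_index L.ker
    rw [AddSubgroup.index_ker] at h4
    exact h4.symm
  rw [h3, mul_comm]
  exact Nat.mul_le_mul h2 h1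

namespace Co

variable {S P V : Subgroup G} {ε : G → Fin 2 → F} (h : Co F S P V ε)
include h

/-- **The case of a field type element.** -/
theorem field_case [Finite G] [Finite F] [CharP F 2] (hS2 : IsPGroup 2 S) {z : G} (hz : z ∈ V) (hz1 : z ≠ 1)
    (hS : ∀ t ∈ S, t * z = z * t) {E D F' Q : Subgroup G} {v : G} (hn : Near V E D F' v)
    (hE : E = V ⊓ Q) (hSQ : S ≤ normalizer (Q : Set G)) (hQS : Q ≤ S)
    (hF' : F' ≤ Q) (hidx : (centralizer (h.V1 : Set G)).relIndex F' ≤ 2)
    (hcard : Nat.card F' = Nat.card E)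
    (hlin : ¬ F' ≤ centralizer (h.V1 : Set G)) : Nat.card F = 4 ∧ Nat.card E = 8 := by
  have hSV : S ≤ normalizer (V : Set G) := h.SP.trans h.PV
  rw [SetLike.le_def] at hlin
  push Not at hlin
  obtain ⟨f, hf, hfc⟩ := hlin
  have hfS : f ∈ S := hQS (hF' hf)
  have hfP : f ∈ P := h.SP hfS
  obtain ⟨s, hs⟩ := h.semi hfP
  have hs1 : s ≠ 1 := fun h1 => hfc ((h.cent_iff hfS hs hz hz1 hS).2 h1)
  set q := Nat.card F with hq
  set k := Nat.card {c : F // s c = c} with hk
  have hkq : k * k ≤ q := card_fix_sq hs1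
  -- `e ∈ E - V₁`
  obtain ⟨e, he, heV⟩ : ∃ e ∈ E, e ∉ h.V1 := by
    by_contra hcon
    push Not at hcon
    exact hs1 (h.eq_one_of_comm hfP hs fun w hw => hcon _ (hn.comm w hw f hf))
  have heV0 : ε e 1 ≠ 0 := fun h0 => heV ⟨hn.EV he, h0⟩
  -- `V₁ ≤ E`
  have hV1E : h.V1 ≤ E := by
    intro x hx
    obtain ⟨t, ht, ht1⟩ := h.unip (ε x 0 * (ε e 1)⁻¹)
    have h1 : e * t * e⁻¹ * t⁻¹ = x := by
      refine h.inj (h.comm_up_mem (hSV ht) ht1 (hn.EV he)).1 hx.1 ?_
      rw [h.comm_up (hSV ht) ht1 (hn.EV he)]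
      apply ext2
      · simp
        rw [inv_mul_cancel_right₀ heV0]
      · rw [hx.2]; rfl
    rw [← h1, hE]
    rw [hE] at he
    have e1 : e * t * e⁻¹ * t⁻¹ = e * (t * e⁻¹ * t⁻¹) := by group
    rw [e1]
    refine mul_mem he (mem_inf.2 ⟨norm_mem (hSV ht) (inv_mem he.1), norm_mem (hSQ ht) (inv_mem he.2)⟩)
  -- `|E| = q |I|`
  set I : Set F := {c | ∃ e ∈ E, ε e 1 = c} with hI
  have hEI : Nat.card E = q * Nat.card I := by
    let φ : E →* Multiplicative F :=
      { toFun := fun x => Multiplicative.ofAdd (ε x 1)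
        map_one' := by
          change Multiplicative.ofAdd (ε (1 : G) 1) = 1
          rw [h.one]; rfl
        map_mul' := fun x y => by
          change Multiplicative.ofAdd (ε ((x : G) * y) 1) = _
          rw [h.mul _ (hn.EV x.2) _ (hn.EV y.2)]; rfl }
    have h1 : φ.ker = h.V1.subgroupOf E := by
      ext x
      rw [MonoidHom.mem_ker, mem_subgroupOf]
      change Multiplicative.ofAdd (ε x 1) = 1 ↔ _
      rw [ofAdd_eq_one]
      exact ⟨fun h1 => ⟨hn.EV x.2, h1⟩, fun h1 => h1.2⟩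
    have h2 := Subgroup.card_mul_index φ.ker
    rw [index_ker, h1, Nat.card_congr (subgroupOfEquivOfLe hV1E).toEquiv, h.card_V1] at h2
    rw [← h2]
    congr 1
    refine Nat.card_congr (Equiv.ofBijective (fun y : φ.range => (⟨Multiplicative.toAdd (y : Multiplicative F), ?_⟩ : I))
      ⟨?_, ?_⟩)
    · obtain ⟨x, hx⟩ := y.2
      exact ⟨x, x.2, by rw [← hx]; rfl⟩
    · intro a b hab
      exact Subtype.ext (congrArg (fun x : I => Multiplicative.ofAdd (x : F)) hab)
    · rintro ⟨c, x, hx, rfl⟩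
      exact ⟨⟨φ ⟨x, hx⟩, ⟨x, hx⟩, rfl⟩, rfl⟩
  -- `q ≤ |I| k`
  have hIk : q ≤ Nat.card I * k := by
    obtain ⟨w, hw, hw1⟩ := h.surj ![0, 1]
    refine card_image s (μ := ε (f * w * f⁻¹) 1) I fun c => ?_
    obtain ⟨u, hu, hu1⟩ := h.surj (c • ε w)
    refine ⟨_, hn.comm u hu f hf, ?_⟩
    have e1 : u * f * u⁻¹ * f⁻¹ = u * (f * u * f⁻¹)⁻¹ := by group
    rw [e1, h.mul _ hu _ (inv_mem (h.conj_mem hfP hu)), h.inv (h.conj_mem hfP hu), Pi.add_apply,
      Pi.neg_apply, hs w hw u hu c hu1, hu1, hw1]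
    simp [sub_eq_add_neg]
  -- the upper bound
  have hup : Nat.card E ≤ 2 * q := by
    set F₀ := F' ⊓ centralizer (h.V1 : Set G) with hF₀
    have h1 : Nat.card F' ≤ 2 * Nat.card F₀ := by
      have h2 := relIndex_mul_relIndex ⊥ F₀ F' bot_le inf_le_left
      simp only [relIndex_bot_left] at h2
      have h3 : F₀.relIndex F' = (centralizer (h.V1 : Set G)).relIndex F' := inf_relIndex_left _ _
      rw [h3] at h2
      rw [← h2, mul_comm]
      exact Nat.mul_le_mul_right _ hidx
    have h2 : Nat.card F₀ ≤ q := by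
      by_cases hcase : F₀ ≤ centralizer (V : Set G)
      · -- `F₀ ≤ D ≤ C_V(f)`
        have h3 : F₀ ≤ D := by
          rw [← hn.F_inf_cent]
          exact le_inf inf_le_left hcase
        have h4 : Nat.card D ≤ q := by
          obtain ⟨c, hc⟩ : ∃ c, s c ≠ c := by
            by_contra h
            push Not at h
            exact hs1 (by ext x; exact h x)
          have hfix : ∀ d ∈ D, f * d * f⁻¹ = d := fun d hd => by
            rw [← hn.Dcent hd hf, mul_inv_cancel_right]
          have hsd : ∀ d ∈ D, ∀ w ∈ V, ε w = c • ε d → ε (f * w * f⁻¹) = s c • ε d := by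
            intro d hd w hw hwc
            rw [hs d (hn.DV hd) w hw c hwc, hfix d hd]
          have hinj : Function.Injective (fun p : D × D => (ε p.1 + c • ε p.2 : Fin 2 → F)) := by
            rintro ⟨⟨x, hx⟩, ⟨y, hy⟩⟩ ⟨⟨x', hx'⟩, ⟨y', hy'⟩⟩ hxy
            have h1 : ε x + c • ε y = ε x' + c • ε y' := hxy
            obtain ⟨w, hw, hwc⟩ := h.surj (c • ε y)
            obtain ⟨w', hw', hwc'⟩ := h.surj (c • ε y')
            have h5 : x * w = x' * w' := by
              refine h.inj (mul_mem (hn.DV hx) hw) (mul_mem (hn.DV hx') hw') ?_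
              rw [h.mul _ (hn.DV hx) _ hw, h.mul _ (hn.DV hx') _ hw', hwc, hwc', h1]
            have h6 : ε x + s c • ε y = ε x' + s c • ε y' := by
              rw [← hsd y hy w hw hwc, ← hsd y' hy' w' hw' hwc']
              have e1 : (f * x * f⁻¹) * (f * w * f⁻¹) = (f * x' * f⁻¹) * (f * w' * f⁻¹) := by
                have e2 : (f * x * f⁻¹) * (f * w * f⁻¹) = f * (x * w) * f⁻¹ := by group
                rw [e2, h5]; group
              rw [hfix x hx, hfix x' hx'] at e1
              rw [← h.mul _ (hn.DV hx) _ (h.conj_mem hfP hw), e1,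
                h.mul _ (hn.DV hx') _ (h.conj_mem hfP hw')]
            have h7 : (s c - c) • (ε y - ε y') = 0 := by
              have h8 : ε x - ε x' = c • ε y' - c • ε y := by
                rw [sub_eq_sub_iff_add_eq_add, h1, add_comm]
              have h9 : ε x - ε x' = s c • ε y' - s c • ε y := by
                rw [sub_eq_sub_iff_add_eq_add, h6, add_comm]
              rw [h8] at h9
              rw [sub_smul, smul_sub, smul_sub]
              have h10 : s c • ε y - s c • ε y' = c • ε y - c • ε y' := by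
                rw [← neg_sub, ← h9, neg_sub]
              rw [h10, sub_self]
            rcases smul_eq_zero.1 h7 with h8 | h8
            · exact absurd (sub_eq_zero.1 h8) hc
            · have h9 : y = y' := h.inj (hn.DV hy) (hn.DV hy') (sub_eq_zero.1 h8)
              subst h9
              have h10 : x = x' := h.inj (hn.DV hx) (hn.DV hx') (add_right_cancel h1)
              subst h10
              rfl
          have h5 := Nat.card_le_card_of_injective _ hinj
          have h6 : Nat.card (Fin 2 → F) = q * q := by simp [Nat.card_fun, pow_two, hq]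
          rw [Nat.card_prod, h6] at h5
          by_contra hcon
          push Not at hcon
          exact absurd h5 (not_le.2 (Nat.mul_lt_mul_of_lt_of_lt hcon hcon))
        exact (Subgroup.card_le_of_le h3).trans h4
      · -- a linear element
        rw [SetLike.le_def] at hcase
        push Not at hcase
        obtain ⟨f₀, hf₀, hf₀c⟩ := hcase
        have hnV : ∀ x ∈ F₀, x ∈ normalizer (V : Set G) := fun x hx => hSV (hQS (hF' hx.1))
        obtain ⟨a₀, ha₀⟩ := h.exists_up hS2 (hQS (hF' hf₀.1)) hz hz1 hS hf₀.2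
        have ha0 : a₀ ≠ 0 := fun h0 => hf₀c ((h.up_cent (hnV _ hf₀) ha₀).2 h0)
        have hDV : D ≤ h.V1 := fun d hd =>
          h.mem_V1_of_up ha₀ ha0 (hn.DV hd) (hn.Dcent hd hf₀.1).symm
        have hzV := h.fix_mem_V1 hz hS
        have hDk : Nat.card D ≤ k := by
          have hex : ∀ d : D, ∃ c : F, ε d = c • ε z := fun d => h.exists_smul hzV hz1 (hDV d.2)
          choose κ hκ using hex
          have hfz : f * z * f⁻¹ = z := by rw [hS f hfS, mul_inv_cancel_right]
          refine Nat.card_le_card_of_injective (fun d : D => (⟨κ d, ?_⟩ : {c : F // s c = c})) ?_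
          · have h3 := hs z hz d (hn.DV d.2) (κ d) (hκ d)
            have h4 : f * d * f⁻¹ = d := by rw [← hn.Dcent d.2 hf, mul_inv_cancel_right]
            rw [h4, hfz, hκ d] at h3
            exact (smul_left_injective F (h.ne_zero hz hz1) h3).symm
          · intro a b hab
            have h3 : κ a = κ b := congrArg Subtype.val hab
            refine Subtype.ext (h.inj (hn.DV a.2) (hn.DV b.2) ?_)
            rw [hκ a, hκ b, h3]
        have hF₀D : Nat.card F₀ ≤ Nat.card D * Nat.card D := by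
          let φ : F₀ →* G :=
            { toFun := fun x => c e x
              map_one' := by simp [c]
              map_mul' := fun x y => hn.c_mul_right' he x.2.1 y.2.1 }
          have h3 := Subgroup.card_mul_index φ.ker
          rw [index_ker] at h3
          have h4 : Nat.card φ.range ≤ Nat.card D := by
            refine Subgroup.card_le_of_le ?_
            rintro _ ⟨x, rfl⟩
            exact hn.c_memD he x.2.1
          have h5 : Nat.card φ.ker ≤ Nat.card D := by
            refine Nat.card_le_card_of_injective (fun x : φ.ker => (⟨(x : F₀), ?_⟩ : D)) ?_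
            · rw [← hn.F_inf_cent]
              refine mem_inf.2 ⟨(x : F₀).2.1, ?_⟩
              obtain ⟨a, ha⟩ := h.exists_up hS2 (hQS (hF' (x : F₀).2.1)) hz hz1 hS (x : F₀).2.2
              rw [h.up_cent (hnV _ (x : F₀).2) ha]
              have h6 : e * (x : F₀) * e⁻¹ * ((x : F₀) : G)⁻¹ = 1 := x.2
              have h7 := h.comm_up (hnV _ (x : F₀).2) ha (hn.EV he)
              rw [h6, h.one] at h7
              have h8 := congrFun h7 0
              simp only [Pi.zero_apply, Matrix.cons_val_zero] at h8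
              exact (mul_eq_zero.1 h8.symm).resolve_right heV0
            · intro a b hab
              have h6 := congrArg (fun x : D => (x : G)) hab
              exact Subtype.ext (Subtype.ext h6)
          rw [← h3]
          exact Nat.mul_le_mul h5 h4
        exact hF₀D.trans ((Nat.mul_le_mul hDk hDk).trans hkq)
    omega
  -- the conclusion
  have hqpos : 0 < q := Nat.card_pos
  have h4 : q ≤ 4 := by
    have h1 : q * q ≤ 2 * q * k := by
      calc q * q ≤ q * (Nat.card I * k) := Nat.mul_le_mul_left _ hIk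
        _ = Nat.card E * k := by rw [hEI]; ring
        _ ≤ 2 * q * k := Nat.mul_le_mul_right _ hup
    have h2 : q ≤ 2 * k := by
      have h3 : q * q ≤ q * (2 * k) := by
        calc q * q ≤ 2 * q * k := h1
          _ = q * (2 * k) := by ring
      exact Nat.le_of_mul_le_mul_left h3 hqpos
    have h3 : q * q ≤ 4 * q := by
      calc q * q ≤ (2 * k) * (2 * k) := Nat.mul_le_mul h2 h2
        _ = 4 * (k * k) := by ring
        _ ≤ 4 * q := Nat.mul_le_mul_left _ hkq
    exact Nat.le_of_mul_le_mul_right h3 hqpos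
  have h3 : 2 < q := by
    have h1 := NatPair.card_ringAut_lt F
    have : Finite (F ≃+* F) := Finite.of_injective (fun σ : F ≃+* F => (σ : F → F)) DFunLike.coe_injective
    have h2 : 1 < Nat.card (F ≃+* F) := by
      rw [Finite.one_lt_card_iff_nontrivial]
      exact ⟨⟨s, 1, hs1⟩⟩
    omega
  have hF2 : Fintype F := Fintype.ofFinite F
  obtain ⟨n, -, hn'⟩ := FiniteField.card F 2
  have h5 : q = 2 ^ (n : ℕ) := by rw [hq, Nat.card_eq_fintype_card, hn']
  have h7 : q = 4 := by
    rcases Nat.lt_or_ge (n : ℕ) 2 with h6 | h6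
    · have : (2 : ℕ) ^ (n : ℕ) ≤ 2 ^ 1 := Nat.pow_le_pow_right (by norm_num) (by omega)
      omega
    · have : (2 : ℕ) ^ 2 ≤ 2 ^ (n : ℕ) := Nat.pow_le_pow_right (by norm_num) h6
      omega
  refine ⟨h7, le_antisymm (by omega) ?_⟩
  have hk2 : k ≤ 2 := by
    by_contra hcon
    push Not at hcon
    have : 3 * 3 ≤ k * k := Nat.mul_le_mul hcon hcon
    omega
  have h8 : q ≤ Nat.card I * 2 := hIk.trans (Nat.mul_le_mul_left _ hk2)
  rw [hEI, h7]
  omega

end Co

end Cfsg.Agent.Omega.NO1.NatA
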