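import Cfsg.Agent.Omega.NO1.Nat.A1
import Cfsg.Agent.Omega.FFMutual
import Cfsg.Agent.LieRecognition.FieldSemilinear

/-!
# THEOREM NAT (#13408), step (0): the coordinates of `V`

`Co F S P V ε`: `V ≤ S ≤ P ≤ N_G(V)`, `ε : V ≃ F²`, `SL₂(F)` is induced by a normal subgroup of `P`, `S` respects
the line `V₁ = {ε v 1 = 0}` and induces the upper unitriangular matrices.

* `Co.semi` : the elements of `P` act semilinearly;
* `Co.exists_up` : the elements of `S ∩ C(V₁)` act as upper unitriangular matrices;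
* `Co.relIndex_le` : elementary abelian 2-subgroups of `N_G(V₁) / C_G(V₁)` have order at most 2.
-/

set_option autoImplicit false
set_option linter.unusedSectionVars false

namespace Cfsg.Agent.Omega.NO1.NatA

open Subgroup Cfsg Cfsg.Agent.Omega.NoFF.Basic Cfsg.Agent.Omega.NOne.Frame
open Cfsg.Agent.Lib.SL2Mat
open Cfsg.Agent.Omega.NatPair (ap ap_zero' ap_one' ext2)
open Cfsg.Agent.ZN (o2 zc)
open Cfsg.Agent.ZN.ChoiceBase (cj)

universe u

/-- `F` has at most one automorphism of order two. -/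
theorem unique_invol (F : Type*) [Field F] [Finite F] {σ τ : F ≃+* F} (hσ : σ ≠ 1) (hτ : τ ≠ 1)
    (hσ2 : σ * σ = 1) (hτ2 : τ * τ = 1) : σ = τ := by
  classical
  have hc : IsCyclic (F ≃+* F) := LieRecognition.FieldSemilinear.isCyclic_ringAut F
  have hfin : Finite (F ≃+* F) := Finite.of_injective (fun σ : F ≃+* F => (σ : F → F)) DFunLike.coe_injective
  have := Fintype.ofFinite (F ≃+* F)
  by_contra hne
  have h1 := hc.card_pow_eq_one_le (n := 2) (by norm_num)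
  have h2 : ({1, σ, τ} : Finset (F ≃+* F)) ⊆ Finset.univ.filter (fun a => a ^ 2 = 1) := by
    intro x hx
    simp only [Finset.mem_insert, Finset.mem_singleton] at hx
    simp only [Finset.mem_filter, Finset.mem_univ, true_and]
    rcases hx with rfl | rfl | rfl
    · exact one_pow 2
    · rw [pow_two]; exact hσ2
    · rw [pow_two]; exact hτ2
  have h3 := Finset.card_le_card h2
  rw [Finset.card_eq_three.2 ⟨1, σ, τ, fun h => hσ h.symm, fun h => hτ h.symm, hne, rfl⟩] at h3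
  omega

/-- The index is at most 2 if the product of two outer elements is inner. -/
theorem relIndex_le_two {G : Type*} [Group G] {H A : Subgroup G}
    (h : ∀ a ∈ A, a ∉ H → ∀ b ∈ A, b ∉ H → a * b ∈ H) : H.relIndex A ≤ 2 := by
  by_cases hA : A ≤ H
  · rw [relIndex_eq_one.2 hA]; norm_num
  · rw [SetLike.le_def] at hA
    push Not at hA
    obtain ⟨a, ha, haH⟩ := hA
    have h1 : (H.subgroupOf A).index = 2 := by
      rw [Subgroup.index_eq_two_iff]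
      refine ⟨⟨a, ha⟩, fun b => ?_⟩
      by_cases hb : b ∈ H.subgroupOf A
      · refine Or.inr ⟨hb, fun h2 => haH ?_⟩
        exact (mul_mem_cancel_left (mem_subgroupOf.1 hb)).1 (mem_subgroupOf.1 h2)
      · exact Or.inl ⟨mem_subgroupOf.2 (h b b.2 (fun h2 => hb (mem_subgroupOf.2 h2)) a ha haH), hb⟩
    rw [relIndex, h1]

variable {G : Type u} [Group G] {F : Type} [Field F]

/-- The coordinates of `V`. -/
structure Co (F : Type) [Field F] (S P V : Subgroup G) (ε : G → Fin 2 → F) : Prop where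
  PV : P ≤ normalizer (V : Set G)
  SP : S ≤ P
  VS : V ≤ S
  comm : V ≤ centralizer (V : Set G)
  mul : ∀ v ∈ V, ∀ w ∈ V, ε (v * w) = ε v + ε w
  surj : ∀ x : Fin 2 → F, ∃ v ∈ V, ε v = x
  ker : ∀ v ∈ V, ε v = 0 ↔ v = 1
  lift : ∀ A : Matrix.SpecialLinearGroup (Fin 2) F, ∃ g ∈ P, ∀ v ∈ V, ε (g * v * g⁻¹) = ap A (ε v)
  norm : ∀ g ∈ P, ∀ h ∈ P, ∀ A : Matrix.SpecialLinearGroup (Fin 2) F,
    (∀ v ∈ V, ε (h * v * h⁻¹) = ap A (ε v)) → ∃ B : Matrix.SpecialLinearGroup (Fin 2) F,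
      ∀ v ∈ V, ε (g * h * g⁻¹ * v * (g * h * g⁻¹)⁻¹) = ap B (ε v)
  line : ∀ t ∈ S, ∀ v ∈ V, ε (t * v * t⁻¹) 1 = 0 ↔ ε v 1 = 0
  unip : ∀ b : F, ∃ t ∈ S, ∀ v ∈ V, ε (t * v * t⁻¹) = ap (up b) (ε v)

namespace Co

variable {S P V : Subgroup G} {ε : G → Fin 2 → F} (h : Co F S P V ε)
include h

theorem one : ε 1 = 0 := (h.ker 1 (one_mem _)).2 rfl

theorem inj {v w : G} (hv : v ∈ V) (hw : w ∈ V) (he : ε v = ε w) : v = w := by
  have h1 : ε (v * w⁻¹) = 0 := by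
    have h2 := h.mul (v * w⁻¹) (mul_mem hv (inv_mem hw)) w hw
    rw [inv_mul_cancel_right, he] at h2
    exact right_eq_add.1 h2
  exact mul_inv_eq_one.1 ((h.ker _ (mul_mem hv (inv_mem hw))).1 h1)

theorem inv {v : G} (hv : v ∈ V) : ε v⁻¹ = - ε v := by
  have h1 := h.mul v hv v⁻¹ (inv_mem hv)
  rw [mul_inv_cancel, h.one] at h1
  exact (neg_eq_of_add_eq_zero_right h1.symm).symm

theorem conj_mem {g v : G} (hg : g ∈ P) (hv : v ∈ V) : g * v * g⁻¹ ∈ V := norm_mem (h.PV hg) hv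

/-- `g` acts semilinearly with automorphism `s`. -/
def Semi (V : Subgroup G) (ε : G → Fin 2 → F) (g : G) (s : F ≃+* F) : Prop :=
  ∀ v ∈ V, ∀ w ∈ V, ∀ c : F, ε w = c • ε v → ε (g * w * g⁻¹) = s c • ε (g * v * g⁻¹)

theorem semi [Finite F] {g : G} (hg : g ∈ P) : ∃ s : F ≃+* F, Semi V ε g s := by
  choose iv hiv hiv2 using h.surj
  have hgi := inv_mem hg
  let T : (Fin 2 → F) → (Fin 2 → F) := fun x => ε (g * iv x * g⁻¹)
  let T' : (Fin 2 → F) → (Fin 2 → F) := fun x => ε (g⁻¹ * iv x * g⁻¹⁻¹)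
  have hT : ∀ v ∈ V, T (ε v) = ε (g * v * g⁻¹) := by
    intro v hv
    have : iv (ε v) = v := h.inj (hiv _) hv (hiv2 _)
    change ε (g * iv (ε v) * g⁻¹) = _
    rw [this]
  have hT' : ∀ v ∈ V, T' (ε v) = ε (g⁻¹ * v * g⁻¹⁻¹) := by
    intro v hv
    have : iv (ε v) = v := h.inj (hiv _) hv (hiv2 _)
    change ε (g⁻¹ * iv (ε v) * g⁻¹⁻¹) = _
    rw [this]
  have hadd : ∀ x y, T (x + y) = T x + T y := by
    intro x y
    have h1 : iv (x + y) = iv x * iv y := by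
      refine h.inj (hiv _) (mul_mem (hiv _) (hiv _)) ?_
      rw [hiv2, h.mul _ (hiv _) _ (hiv _), hiv2, hiv2]
    change ε (g * iv (x + y) * g⁻¹) = _
    rw [h1]
    have e : g * (iv x * iv y) * g⁻¹ = (g * iv x * g⁻¹) * (g * iv y * g⁻¹) := by group
    rw [e, h.mul _ (h.conj_mem hg (hiv _)) _ (h.conj_mem hg (hiv _))]
  have h1 : ∀ x, T' (T x) = x := by
    intro x
    have h2 := hT' (g * iv x * g⁻¹) (h.conj_mem hg (hiv _))
    change T' (ε (g * iv x * g⁻¹)) = x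
    rw [h2]
    have e : g⁻¹ * (g * iv x * g⁻¹) * g⁻¹⁻¹ = iv x := by group
    rw [e, hiv2]
  have h2 : ∀ x, T (T' x) = x := by
    intro x
    have h2 := hT (g⁻¹ * iv x * g⁻¹⁻¹) (h.conj_mem hgi (hiv _))
    change T (ε (g⁻¹ * iv x * g⁻¹⁻¹)) = x
    rw [h2]
    have e : g * (g⁻¹ * iv x * g⁻¹⁻¹) * g⁻¹ = iv x := by group
    rw [e, hiv2]
  obtain ⟨σ, hσ⟩ := NatPair.exists_semi T T' hadd h1 h2 (by
    intro A
    obtain ⟨k, hk, hkA⟩ := h.lift A
    obtain ⟨B, hB⟩ := h.norm g⁻¹ hgi k hk A hkA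
    refine ⟨B, fun x => ?_⟩
    have h3 := hB (iv x) (hiv x)
    rw [hiv2] at h3
    rw [← h3]
    have h4 : ap A (T x) = ε (k * (g * iv x * g⁻¹) * k⁻¹) := (hkA _ (h.conj_mem hg (hiv _))).symm
    rw [h4, hT' _ (h.conj_mem hk (h.conj_mem hg (hiv _)))]
    congr 1
    group)
  obtain ⟨s, hs⟩ := NatPair.exists_ringEquiv T T' hadd h1 σ hσ
  refine ⟨s, fun v hv w hw c hc => ?_⟩
  rw [← hT w hw, ← hT v hv, hc, hs]

/-- the line `V₁ = {ε v 1 = 0}` -/
def V1 (h : Co F S P V ε) : Subgroup G where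
  carrier := {v | v ∈ V ∧ ε v 1 = 0}
  one_mem' := ⟨one_mem _, by rw [h.one]; rfl⟩
  mul_mem' := by
    rintro a b ⟨ha, ha'⟩ ⟨hb, hb'⟩
    exact ⟨mul_mem ha hb, by rw [h.mul a ha b hb, Pi.add_apply, ha', hb', add_zero]⟩
  inv_mem' := by
    rintro a ⟨ha, ha'⟩
    exact ⟨inv_mem ha, by rw [h.inv ha, Pi.neg_apply, ha', neg_zero]⟩

theorem mem_V1 {v : G} : v ∈ h.V1 ↔ v ∈ V ∧ ε v 1 = 0 := Iff.rfl

theorem V1_le : h.V1 ≤ V := fun _ hv => hv.1

/-- `S` normalises `V₁`. -/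
theorem S_norm_V1 : S ≤ normalizer (h.V1 : Set G) := by
  have key : ∀ t ∈ S, ∀ v ∈ h.V1, t * v * t⁻¹ ∈ h.V1 := fun t ht v hv =>
    ⟨h.conj_mem (h.SP ht) hv.1, (h.line t ht v hv.1).2 hv.2⟩
  intro t ht
  rw [mem_normalizer_iff]
  intro v
  refine ⟨key t ht v, fun hv => ?_⟩
  have h6 := key t⁻¹ (inv_mem ht) _ hv
  have e : t⁻¹ * (t * v * t⁻¹) * t⁻¹⁻¹ = v := by group
  rwa [e] at h6

/-- `v ∈ V₁` if a nontrivial upper unitriangular element centralises it. -/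
theorem mem_V1_of_up {x v : G} {a : F} (hx : ∀ v ∈ V, ε (x * v * x⁻¹) = ap (up a) (ε v)) (ha : a ≠ 0)
    (hv : v ∈ V) (hc : x * v = v * x) : v ∈ h.V1 := by
  refine ⟨hv, ?_⟩
  have h1 := congrFun (hx v hv) 0
  rw [hc, mul_inv_cancel_right, ap_zero', up_00, up_01, one_mul] at h1
  exact (mul_eq_zero.1 (left_eq_add.1 h1)).resolve_left ha

/-- `C_V(S) ≤ V₁` -/
theorem fix_mem_V1 {z : G} (hz : z ∈ V) (hS : ∀ t ∈ S, t * z = z * t) : z ∈ h.V1 := by
  obtain ⟨t, ht, ht2⟩ := h.unip 1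
  exact h.mem_V1_of_up ht2 one_ne_zero hz (hS t ht)

/-- coordinates on `V₁` with respect to `z` -/
theorem exists_smul {z v : G} (hz : z ∈ h.V1) (hz1 : z ≠ 1) (hv : v ∈ h.V1) : ∃ c : F, ε v = c • ε z := by
  have h0 : ε z 0 ≠ 0 := by
    intro h0
    exact hz1 ((h.ker z hz.1).1 (ext2 h0 hz.2))
  refine ⟨ε v 0 * (ε z 0)⁻¹, ext2 ?_ ?_⟩
  · rw [Pi.smul_apply, smul_eq_mul, inv_mul_cancel_right₀ h0]
  · rw [Pi.smul_apply, hv.2, hz.2, smul_zero]

theorem ne_zero {v : G} (hv : v ∈ V) (hv1 : v ≠ 1) : ε v ≠ 0 := fun h0 => hv1 ((h.ker v hv).1 h0)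

/-- The field automorphism is trivial iff `V₁` is centralised. -/
theorem cent_iff {x z : G} {s : F ≃+* F} (hx : x ∈ S) (hs : Semi V ε x s) (hz : z ∈ V)
    (hz1 : z ≠ 1) (hS : ∀ t ∈ S, t * z = z * t) : x ∈ centralizer (h.V1 : Set G) ↔ s = 1 := by
  have hzV := h.fix_mem_V1 hz hS
  have hxz : x * z * x⁻¹ = z := by rw [hS x hx, mul_inv_cancel_right]
  constructor
  · intro hc
    ext c
    obtain ⟨v, hv, hvc⟩ := h.surj (c • ε z)
    have hv1 : v ∈ h.V1 := ⟨hv, by rw [hvc, Pi.smul_apply, hzV.2, smul_zero]⟩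
    have h1 := hs z hz v hv c hvc
    have h2 : x * v * x⁻¹ = v := by rw [← mem_centralizer_iff.1 hc v hv1, mul_inv_cancel_right]
    rw [h2, hxz, hvc] at h1
    exact (smul_left_injective F (h.ne_zero hz hz1) h1).symm
  · rintro rfl
    refine mem_centralizer_iff.2 fun v hv => ?_
    obtain ⟨c, hc⟩ := h.exists_smul hzV hz1 hv
    have h1 := hs z hz v hv.1 c hc
    rw [hxz] at h1
    have h2 : ε (x * v * x⁻¹) = ε v := by rw [h1, hc]; rfl
    have h3 := h.inj (h.conj_mem (h.SP hx) hv.1) hv.1 h2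
    calc v * x = x * v * x⁻¹ * x := by rw [h3]
      _ = x * v := by group

/-- **The elements of `S ∩ C(V₁)` act as upper unitriangular matrices.** -/
theorem exists_up [Finite F] [CharP F 2] (hS2 : IsPGroup 2 S) {x z : G} (hx : x ∈ S)
    (hz : z ∈ V) (hz1 : z ≠ 1) (hS : ∀ t ∈ S, t * z = z * t)
    (hc : x ∈ centralizer (h.V1 : Set G)) :
    ∃ a : F, ∀ v ∈ V, ε (x * v * x⁻¹) = ap (up a) (ε v) := by
  obtain ⟨s, hs⟩ := h.semi (h.SP hx)
  obtain rfl := (h.cent_iff hx hs hz hz1 hS).1 hc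
  have hlin : ∀ v ∈ V, ∀ w ∈ V, ∀ c : F, ε w = c • ε v → ε (x * w * x⁻¹) = c • ε (x * v * x⁻¹) :=
    fun v hv w hw c hcw => hs v hv w hw c hcw
  obtain ⟨w, hw, hw1⟩ := h.surj ![0, 1]
  obtain ⟨u, hu, hu1⟩ := h.surj ![1, 0]
  have huV : u ∈ h.V1 := ⟨hu, by rw [hu1]; rfl⟩
  have hxu : x * u * x⁻¹ = u := by rw [← mem_centralizer_iff.1 hc u huV, mul_inv_cancel_right]
  set μ := ε (x * w * x⁻¹) 1 with hμ
  -- the formula for one element
  have key : ∀ v ∈ V, ε (x * v * x⁻¹) = ![ε v 0 + ε v 1 * ε (x * w * x⁻¹) 0, ε v 1 * μ] := by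
    intro v hv
    obtain ⟨v1, hv1, hv1e⟩ := h.surj (ε v 0 • ![1, 0])
    obtain ⟨v2, hv2, hv2e⟩ := h.surj (ε v 1 • ![0, 1])
    have h1 : v = v1 * v2 := by
      refine h.inj hv (mul_mem hv1 hv2) ?_
      rw [h.mul _ hv1 _ hv2, hv1e, hv2e]
      apply ext2 <;> simp
    have h2 := hlin u hu v1 hv1 (ε v 0) (by rw [hv1e, hu1])
    have h3 := hlin w hw v2 hv2 (ε v 1) (by rw [hv2e, hw1])
    have e : x * v * x⁻¹ = (x * v1 * x⁻¹) * (x * v2 * x⁻¹) := by rw [h1]; group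
    rw [e, h.mul _ (h.conj_mem (h.SP hx) hv1) _ (h.conj_mem (h.SP hx) hv2), h2, h3, hxu, hu1]
    apply ext2
    · simp
    · simp [hμ]
  -- `μ = 1`
  have hpow : ∀ n : ℕ, ∀ v ∈ V, ε (x ^ n * v * (x ^ n)⁻¹) 1 = ε v 1 * μ ^ n := by
    intro n
    induction n with
    | zero => intro v _; simp
    | succ n ih =>
      intro v hv
      have e : x ^ (n + 1) * v * (x ^ (n + 1))⁻¹ = x ^ n * (x * v * x⁻¹) * (x ^ n)⁻¹ := by
        rw [pow_succ]; group
      rw [e, ih _ (h.conj_mem (h.SP hx) hv), key v hv, pow_succ]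
      simp only [Matrix.cons_val_one, Matrix.cons_val_fin_one]
      ring
  obtain ⟨k, hk⟩ := hS2 ⟨x, hx⟩
  have hk' : x ^ 2 ^ k = 1 := congrArg Subtype.val hk
  have h1 := hpow (2 ^ k) w hw
  rw [hk', hw1] at h1
  have h2 : μ ^ 2 ^ k = 1 := by
    have e : (1 : G) * w * (1 : G)⁻¹ = w := by group
    rw [e, hw1] at h1
    simpa using h1.symm
  have h3 : μ = 1 := by
    have h4 : (μ - 1) ^ 2 ^ k = 0 := by
      rw [sub_pow_char_pow, h2, one_pow, sub_self]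
    exact sub_eq_zero.1 ((pow_eq_zero_iff (by positivity)).1 h4)
  refine ⟨ε (x * w * x⁻¹) 0, fun v hv => ?_⟩
  rw [key v hv, h3]
  apply ext2
  · rw [ap_zero', up_00, up_01]; simp [mul_comm]
  · rw [ap_one', up_10, up_11]; simp

omit h in
theorem Semi.mul {g k : G} {s t : F ≃+* F} (hk : k ∈ normalizer (V : Set G)) (hs : Semi V ε g s)
    (ht : Semi V ε k t) : Semi V ε (g * k) (s * t) := by
  intro v hv w hw c hc
  have h1 := ht v hv w hw c hc
  have h2 := hs _ (norm_mem hk hv) _ (norm_mem hk hw) _ h1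
  have e : ∀ y : G, g * k * y * (g * k)⁻¹ = g * (k * y * k⁻¹) * g⁻¹ := fun y => by group
  rw [e, e, h2]
  rfl

theorem Semi.unique {g : G} {s t : F ≃+* F} (hg : g ∈ P) (hs : Semi V ε g s) (ht : Semi V ε g t) : s = t := by
  obtain ⟨v, hv, hv1⟩ := h.surj ![1, 0]
  have hv1' : v ≠ 1 := by
    rintro rfl
    rw [h.one] at hv1
    have := congrFun hv1 0
    simp at this
  have hgv : g * v * g⁻¹ ≠ 1 := by
    intro h1
    apply hv1'
    have : v = g⁻¹ * (g * v * g⁻¹) * g := by group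
    rw [this, h1]; group
  ext c
  obtain ⟨w, hw, hw1⟩ := h.surj (c • ε v)
  have h1 := hs v hv w hw c hw1
  rw [ht v hv w hw c hw1] at h1
  exact (smul_left_injective F (h.ne_zero (h.conj_mem hg hv) hgv) h1).symm

theorem Semi.sq {g : G} {s : F ≃+* F} (hg : g ∈ P) (hs : Semi V ε g s) (hg2 : g * g = 1) : s * s = 1 := by
  refine Semi.unique h (one_mem P) ?_ (fun v _ w _ c hc => ?_)
  · rw [← hg2]
    exact hs.mul (h.PV hg) hs
  · simpa using hc

/-- Two elements of order two of `S` which do not centralise `V₁`: their product does. -/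
theorem mul_mem_cent [Finite F] {z : G} (hz : z ∈ V) (hz1 : z ≠ 1) (hS : ∀ t ∈ S, t * z = z * t) {x y : G}
    (hx : x ∈ S) (hy : y ∈ S) (hx2 : x * x = 1) (hy2 : y * y = 1)
    (hxc : x ∉ centralizer (h.V1 : Set G)) (hyc : y ∉ centralizer (h.V1 : Set G)) :
    x * y ∈ centralizer (h.V1 : Set G) := by
  obtain ⟨s, hs⟩ := h.semi (h.SP hx)
  obtain ⟨t, ht⟩ := h.semi (h.SP hy)
  have h1 := hs.mul (h.PV (h.SP hy)) ht
  rw [h.cent_iff (mul_mem hx hy) h1 hz hz1 hS]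
  have h2 := Semi.sq h (h.SP hx) hs hx2
  have h3 := Semi.sq h (h.SP hy) ht hy2
  have h4 := unique_invol F (σ := s) (τ := t) (fun h3 => hxc ((h.cent_iff hx hs hz hz1 hS).2 h3))
    (fun h3 => hyc ((h.cent_iff hy ht hz hz1 hS).2 h3)) h2 h3
  rw [h4]
  exact h3

end Co

/-- **Elementary abelian 2-subgroups of `N_G(V₁) / C_G(V₁)` have order at most 2.** -/
theorem Co.relIndex_le [Finite G] [Finite F] (S : Sylow 2 G) {P V : Subgroup G} {ε : G → Fin 2 → F}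
    (h : Co F (S : Subgroup G) P V ε) {z : G} (hz : z ∈ V) (hz1 : z ≠ 1)
    (hS : ∀ t ∈ (S : Subgroup G), t * z = z * t) {A : Subgroup G}
    (hA : A ≤ normalizer (h.V1 : Set G)) (hA2 : ∀ a ∈ A, a ^ 2 = 1) :
    (centralizer (h.V1 : Set G)).relIndex A ≤ 2 := by
  have hAp : IsPGroup 2 A := by
    rintro ⟨a, ha⟩
    exact ⟨1, Subtype.ext (by simpa using hA2 a ha)⟩
  obtain ⟨n, hn, h1⟩ := FFThm.exists_conj_le S h.S_norm_V1 hAp hA
  have hcn : ∀ x : G, n * x * n⁻¹ ∈ centralizer (h.V1 : Set G) ↔ x ∈ centralizer (h.V1 : Set G) := by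
    intro x
    exact ((mem_normalizer_iff.1 (NOne.LemmaT.normalizer_le_normalizer_centralizer _ hn)) x).symm
  have hsq : ∀ a ∈ A, (n * a * n⁻¹) * (n * a * n⁻¹) = 1 := by
    intro a ha
    have e : (n * a * n⁻¹) * (n * a * n⁻¹) = n * (a * a) * n⁻¹ := by group
    have h3 := hA2 a ha
    rw [pow_two] at h3
    rw [e, h3, mul_one, mul_inv_cancel]
  have hmem : ∀ a ∈ A, n * a * n⁻¹ ∈ (S : Subgroup G) := fun a ha => h1 (mem_map.2 ⟨a, ha, rfl⟩)
  refine relIndex_le_two fun a ha haH b hb hbH => ?_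
  rw [← hcn]
  have e : n * (a * b) * n⁻¹ = (n * a * n⁻¹) * (n * b * n⁻¹) := by group
  rw [e]
  exact h.mul_mem_cent hz hz1 hS (hmem a ha) (hmem b hb) (hsq a ha) (hsq b hb)
    (fun h2 => haH ((hcn a).1 h2)) (fun h2 => hbH ((hcn b).1 h2))

end Cfsg.Agent.Omega.NO1.NatA
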