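import Cfsg.Agent.Omega.NO1.Types

/-!
# THEOREM NAT (#13408), the output of (0)-(3)

`Cfg S P`, `V = zl S P` one natural `SL₂(F)`-module.  Then `V` is of type `Nat4` (case (α)) or `Quad`:

* `C = C_G(z)`, `Z = ⟨z⟩`, `Q = O₂(C)`, `V₁ = V ∩ Q = C_V(U)` of order 4, `|V| = 16`, `V₁ ≤ Z(Q)`;
* `H = C_G(V₁)`: `|N_G(V₁) / H| = 6`, `V, Q ≤ O₂(H)`;
* `S ∩ H` induces on `V` the Sylow 2-subgroup `U` of `SL₂(4)`: `[V, x] = V₁ = C_V(x)` for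
  `x ∈ S ∩ H`, `[V, x] ≠ 1`;
* `W₀ = ⟨V₁^C⟩` (`ncl C V₁`) : `W₀ ≤ Z(Q)`, `[v, W₀] = V₁` for `v ∈ V - V₁`;
* `t ∈ P` of odd order acts on `V` as `diag(λ, λ⁻¹)`, `λ ≠ 1`.
-/

set_option autoImplicit false
set_option linter.unusedSectionVars false

namespace Cfsg.Agent.Omega.NO1.NatA

open Subgroup Cfsg Cfsg.Agent.ZN Cfsg.Agent.Omega.MinPar Cfsg.Agent.Omega.Frame
open Cfsg.Agent.Omega.FFThm (NatK)
open Cfsg.Agent.Omega.NOne.NearFF (Fin)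

universe u

section defs

variable {G : Type u} [Group G]

/-- `⟨A^C⟩` -/
def ncl (C A : Subgroup G) : Subgroup G := closure {x | ∃ c ∈ C, ∃ a ∈ A, x = c * a * c⁻¹}

/-- **The output of (0)-(3) of THEOREM NAT in the quadratic case.** -/
structure Quad [Finite G] (S : Sylow 2 G) (P : Subgroup G) (z : G) (V V₁ C Q : Subgroup G) : Prop where
  cfg : Cfg S P
  V_eq : V = zl (S : Subgroup G) P
  C_eq : C = centralizer {z}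
  CC_eq : C = NoFF.LinesPlug.CC (S : Subgroup G)
  Q_eq : Q = o2 C
  V1_eq : V₁ = V ⊓ Q
  Z_eq : zc (S : Subgroup G) = zpowers z
  z_ne : z ≠ 1
  z_sq : z * z = 1
  z_mem : z ∈ V₁
  card_V : Nat.card V = 16
  card_V1 : Nat.card V₁ = 4
  /-- `V` is a natural `SL₂(4)`-module, `V₁ = {x 1 = 0}` -/
  nat : ∃ (F : Type) (_ : Field F) (_ : Finite F) (_ : CharP F 2) (M : NatK F (S : Subgroup G) P V ⊥ 1),
    Nat.card F = 4 ∧ ∀ v ∈ V, M.e v 0 1 = 0 ↔ v ∈ V₁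
  /-- `P` is transitive on `V - 1` -/
  trans : ∀ v ∈ V, v ≠ 1 → ∀ w ∈ V, w ≠ 1 → ∃ p ∈ P, p * v * p⁻¹ = w
  /-- `V₁` is normal in `S` -/
  S_le : (S : Subgroup G) ≤ normalizer (V₁ : Set G)
  /-- `Q ≤ H` -/
  Q_le : Q ≤ centralizer (V₁ : Set G)
  /-- `V ≤ R = O₂(H)` -/
  V_le_R : V ≤ o2 (centralizer (V₁ : Set G))
  /-- `Q ≤ R` -/
  Q_le_R : Q ≤ o2 (centralizer (V₁ : Set G))
  /-- `|N_G(V₁) / H| = 6` -/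
  index : (centralizer (V₁ : Set G)).relIndex (normalizer (V₁ : Set G)) = 6
  /-- `S ≰ H` -/
  S_not_le : ¬ (S : Subgroup G) ≤ centralizer (V₁ : Set G)
  /-- `[V, S ∩ H] ≤ V₁` -/
  comm : ∀ x ∈ (S : Subgroup G), x ∈ centralizer (V₁ : Set G) → ∀ v ∈ V, v * x * v⁻¹ * x⁻¹ ∈ V₁
  /-- `C_V(x) ≤ V₁` for `x ∈ S ∩ H` with `[V, x] ≠ 1` -/
  reg : ∀ x ∈ (S : Subgroup G), x ∈ centralizer (V₁ : Set G) → x ∉ centralizer (V : Set G) →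
    ∀ v ∈ V, v * x = x * v → v ∈ V₁
  /-- `[V, x] = V₁` for `x ∈ S ∩ H` with `[V, x] ≠ 1` -/
  surj : ∀ x ∈ (S : Subgroup G), x ∈ centralizer (V₁ : Set G) → x ∉ centralizer (V : Set G) →
    ∀ e ∈ V₁, ∃ v ∈ V, v * x * v⁻¹ * x⁻¹ = e
  /-- `[v, W₀] = V₁` for `v ∈ V - V₁` -/
  full : ∀ v ∈ V, v ∉ V₁ → ∀ e ∈ V₁, ∃ w ∈ ncl C V₁, v * w * v⁻¹ * w⁻¹ = e
  /-- `W₀ ≤ Z(Q)` -/
  W_le : ncl C V₁ ≤ Q ⊓ centralizer (Q : Set G)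
  /-- `W₀² = 1` -/
  W_sq : ∀ w ∈ ncl C V₁, w * w = 1
  /-- `|W₀ : C_{W₀}(V)| = 4` -/
  W_index : (centralizer (V : Set G)).relIndex (ncl C V₁) = 4
  /-- a frame at every `v ∈ V - V₁`, `D = Z` -/
  frame : ∀ v ∈ V, v ∉ V₁ → ∃ g ∈ C, Fin V Q v g ∧
    V₁ ⊓ V₁.map (MulAut.conj g).toMonoidHom = zpowers z
  /-- an element of odd order of `P` acting as `diag(λ, λ⁻¹)`, `λ ≠ 1` -/
  tor : ∃ t ∈ P, Odd (orderOf t) ∧ t ∈ normalizer (V₁ : Set G) ∧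
    (∀ v ∈ V, t ^ 3 * v = v * t ^ 3) ∧ (∀ v ∈ V₁, t * v = v * t → v = 1) ∧
    ∀ v ∈ V, t * v * t⁻¹ * v⁻¹ ∈ V₁ → v ∈ V₁

end defs

end Cfsg.Agent.Omega.NO1.NatA
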