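import Cfsg.Agent.Omega.NO1.Nat.Dich
import Cfsg.Agent.Omega.NO1.Nat.Out
import Cfsg.Agent.ZN.Plane

/-!
# THEOREM NAT (#13408), step (3) and the output of (0)-(3)

* `exists_quad` : `Cfg S P`, `V_P` one natural `SL₂(F)`-module ⟹ `Nat4 S P` or `Quad S P …`.
-/

set_option autoImplicit false
set_option linter.unusedSectionVars false

namespace Cfsg.Agent.Omega.NO1.NatA

open Subgroup Cfsg Cfsg.Agent.Omega.NoFF.Basic Cfsg.Agent.Omega.NOne.Frame
open Cfsg.Agent.Lib.SL2Mat Cfsg.Agent.Omega.NOne.NearFF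
open Cfsg.Agent.Omega.NatPair (ap ap_zero' ap_one' ext2)
open Cfsg.Agent.ZN (o2 zc zl)
open Cfsg.Agent.Omega.NoFF.LinesPlug (CC)
open Cfsg.Agent.Omega.FFThm (NatK)
open scoped Pointwise

universe u

/-! ### The field with four elements -/

theorem four_cover {F : Type*} [Field F] [Finite F] [CharP F 2] (h4 : Nat.card F = 4) {a b : F} (ha : a ≠ 0)
    (hb : b ≠ 0) (hab : a ≠ b) (c : F) : c = 0 ∨ c = a ∨ c = b ∨ c = a + b := by
  classical
  have := Fintype.ofFinite F
  have h1 : a + b ≠ 0 := fun h => hab (CharTwo.add_eq_zero.1 h)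
  have h2 : ({0, a, b, a + b} : Finset F).card = 4 := by
    rw [Finset.card_insert_of_notMem, Finset.card_insert_of_notMem, Finset.card_insert_of_notMem,
      Finset.card_singleton]
    · simp only [Finset.mem_singleton]
      exact fun h => ha (right_eq_add.1 h)
    · simp only [Finset.mem_insert, Finset.mem_singleton, not_or]
      exact ⟨hab, fun h => hb (left_eq_add.1 h)⟩
    · simp only [Finset.mem_insert, Finset.mem_singleton, not_or]
      exact ⟨ha.symm, hb.symm, h1.symm⟩
  have h3 : ({0, a, b, a + b} : Finset F) = Finset.univ := by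
    refine Finset.eq_univ_of_card _ ?_
    rw [h2, ← h4, Nat.card_eq_fintype_card]
  have h4' : c ∈ ({0, a, b, a + b} : Finset F) := by rw [h3]; exact Finset.mem_univ _
  simpa [Finset.mem_insert, Finset.mem_singleton] using h4'

theorem exists_lam {F : Type*} [Field F] [Finite F] [CharP F 2] (h4 : Nat.card F = 4) :
    ∃ l : F, l ≠ 0 ∧ l ≠ 1 ∧ l ^ 3 = 1 := by
  classical
  have := Fintype.ofFinite F
  have h1 : ∃ l : F, l ≠ 0 ∧ l ≠ 1 := by
    by_contra hcon
    push Not at hcon
    have h2 : (Finset.univ : Finset F) ⊆ {0, 1} := by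
      intro x _
      simp only [Finset.mem_insert, Finset.mem_singleton]
      by_cases hx : x = 0
      · exact Or.inl hx
      · exact Or.inr (hcon x hx)
    have h3 := Finset.card_le_card h2
    have h5 : ({0, 1} : Finset F).card ≤ 2 := Finset.card_le_two
    rw [Finset.card_univ, ← Nat.card_eq_fintype_card, h4] at h3
    omega
  obtain ⟨l, hl0, hl1⟩ := h1
  refine ⟨l, hl0, hl1, ?_⟩
  have h2 := FiniteField.pow_card_sub_one_eq_one l hl0
  rwa [← Nat.card_eq_fintype_card, h4] at h2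

/-! ### Subgroups `⟨A^C⟩` -/

namespace A3

section ncl

variable {G : Type u} [Group G]

theorem le_ncl {C A : Subgroup G} : A ≤ ncl C A := fun a ha =>
  subset_closure ⟨1, one_mem _, a, ha, by group⟩

theorem conj_mem_ncl {C A : Subgroup G} {c a : G} (hc : c ∈ C) (ha : a ∈ A) : c * a * c⁻¹ ∈ ncl C A :=
  subset_closure ⟨c, hc, a, ha, rfl⟩

theorem ncl_le {C A B : Subgroup G} (hA : A ≤ B) (hC : C ≤ normalizer (B : Set G)) : ncl C A ≤ B := by
  rw [ncl, closure_le]
  rintro x ⟨c, hc, a, ha, rfl⟩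
  exact norm_mem (hC hc) (hA ha)

theorem norm_ncl {C A : Subgroup G} : C ≤ normalizer (ncl C A : Set G) := by
  have key : ∀ c ∈ C, ∀ x ∈ ncl C A, c * x * c⁻¹ ∈ ncl C A := by
    intro c hc x hx
    have h1 : ncl C A ≤ (ncl C A).comap (MulAut.conj c).toMonoidHom := by
      conv_lhs => rw [ncl]
      rw [closure_le]
      rintro y ⟨d, hd, a, ha, rfl⟩
      change c * (d * a * d⁻¹) * c⁻¹ ∈ ncl C A
      have e : c * (d * a * d⁻¹) * c⁻¹ = (c * d) * a * (c * d)⁻¹ := by group
      rw [e]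
      exact conj_mem_ncl (mul_mem hc hd) ha
    exact h1 hx
  intro c hc
  rw [mem_normalizer_iff]
  intro x
  refine ⟨key c hc x, fun hx => ?_⟩
  have h6 := key c⁻¹ (inv_mem hc) _ hx
  have e : c⁻¹ * (c * x * c⁻¹) * c⁻¹⁻¹ = x := by group
  rwa [e] at h6

end ncl

end A3

open A3

variable {G : Type u} [Group G] [Finite G]

/-- The coordinates of `V_P`. -/
theorem co_of {F : Type} [Field F] {S : Sylow 2 G} {P : Subgroup G} (h : Cfg S P)
    (N : NatK F (S : Subgroup G) P (zl (S : Subgroup G) P) ⊥ 1) :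
    Co F (S : Subgroup G) P (zl (S : Subgroup G) P) (fun g => N.e g 0) where
  PV := Cfg.P_norm_V S P
  SP := h.S_le
  VS := h.V_le_S
  comm := h.V_comm
  mul := N.natOver.mul
  surj := N.natOver.surj
  ker := fun v hv => by rw [← mem_bot]; exact N.natOver.ker v hv
  lift := fun A => by
    obtain ⟨g, hg, h1, -⟩ := N.natOver.lift A
    exact ⟨g, hg, h1⟩
  norm := N.natOver.norm
  line := fun t ht v hv => by
    obtain ⟨σ, hσ⟩ := N.line t ht
    have h1 := hσ v hv 0
    rwa [Subsingleton.elim (σ 0) 0] at h1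
  unip := fun b => by
    obtain ⟨t, ht, h1, -⟩ := N.unip fun _ => b
    exact ⟨t, ht, fun v hv => h1 v hv 0⟩

theorem card_F_of {F : Type} [Field F] [Finite F] {S P V : Subgroup G} {ε : G → Fin 2 → F}
    (M : Co F S P V ε) (h : Nat.card M.V1 = 4) : Nat.card F = 4 := by
  rw [← M.card_V1, h]

/-- a subgroup of order 2 -/
theorem eq_zpowers_of_card {Z : Subgroup G} {z : G} (hz : z ∈ Z) (hz1 : z ≠ 1) (hZ : Nat.card Z = 2) :
    Z = zpowers z := by
  refine (Subgroup.eq_of_le_of_card_ge (zpowers_le.2 hz) ?_).symm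
  rw [hZ, Nat.card_zpowers]
  have h1 : orderOf z ≠ 1 := fun h => hz1 (orderOf_eq_one_iff.1 h)
  have h2 : 0 < orderOf z := orderOf_pos z
  omega

/-- a proper nontrivial subgroup of a group of order 4 -/
theorem card_two_of_lt {A B : Subgroup G} {z : G} (hB : Nat.card B = 4) (hAB : A ≤ B) (hne : A ≠ B)
    (hz : z ∈ A) (hz1 : z ≠ 1) : Nat.card A = 2 := by
  have h1 : Nat.card A ∣ 4 := hB ▸ Subgroup.card_dvd_of_le hAB
  have h2 : Nat.card A ≠ 4 := fun h => hne (Subgroup.eq_of_le_of_card_ge hAB (by rw [h, hB]))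
  have h3 : Nat.card A ≠ 1 := fun h => hz1 (by
    have := Subgroup.card_eq_one.1 h
    rw [this] at hz
    exact mem_bot.1 hz)
  have h4 : Nat.card A ≤ 4 := Nat.le_of_dvd (by norm_num) h1
  interval_cases hA : Nat.card A
  · norm_num at h1
  · exact absurd rfl h3
  · rfl
  · norm_num at h1
  · exact absurd rfl h2

/-- **The output of (0)-(3).** -/
theorem exists_quad {F : Type} [Field F] [Finite F] [CharP F 2] {S : Sylow 2 G} {P : Subgroup G} (h : Cfg S P)
    (N : NatK F (S : Subgroup G) P (zl (S : Subgroup G) P) ⊥ 1) :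
    Nat4 (S : Subgroup G) P ∨ ∃ z V V₁ C Q, Quad S P z V V₁ C Q := by
  set V := zl (S : Subgroup G) P with hV
  have M : Co F (S : Subgroup G) P V (fun g => N.e g 0) := co_of h N
  set ε : G → _root_.Fin 2 → F := fun g => N.e g 0 with hε
  set C := CC (S : Subgroup G) with hC
  set Q := o2 C with hQ
  have hS2 := S.isPGroup'
  have hSV : (S : Subgroup G) ≤ normalizer (V : Set G) := M.SP.trans M.PV
  have hQS : Q ≤ S := h.Q_le_S
  have hSC : (S : Subgroup G) ≤ C := Cfg.S_le_CC S
  have hCQ : C ≤ normalizer (Q : Set G) := MinSimple.VModule.le_normalizer_o2 C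
  have hSQ : (S : Subgroup G) ≤ normalizer (Q : Set G) := hSC.trans hCQ
  have hVC : V ≤ C := h.V_le_CC
  have hVQ : V ≤ normalizer (Q : Set G) := hVC.trans hCQ
  -- `z`
  obtain ⟨⟨z, hzZ⟩, hz1'⟩ := Subgroup.ne_bot_iff_exists_ne_one.1
    (MinSimple.Basic.zc_ne_bot hS2 (h.ctx.sylow_ne_bot S))
  have hz1 : z ≠ 1 := fun h1 => hz1' (Subtype.ext h1)
  have hzV : z ∈ V := h.Z_le_V hzZ
  have hzS : ∀ t ∈ (S : Subgroup G), t * z = z * t := fun t ht => ZN.zc_comm hzZ ht
  have hzV1 : z ∈ M.V1 := M.fix_mem_V1 hzV hzS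
  have hZV1 : zc (S : Subgroup G) ≤ M.V1 := fun y hy =>
    M.fix_mem_V1 (h.Z_le_V hy) fun t ht => ZN.zc_comm hy ht
  have hrel : ∀ A : Subgroup G, A ≤ normalizer (M.V1 : Set G) → (∀ a ∈ A, a ^ 2 = 1) →
      (centralizer (M.V1 : Set G)).relIndex A ≤ 2 := fun A hA hA2 =>
    Co.relIndex_le S M hzV hz1 hzS hA hA2
  -- the frame
  obtain ⟨v, hv, hvQ⟩ := h.exists_v
  obtain ⟨g, hg, hfin, -, -⟩ := h.exists_near hv hvQ
  have hF'Q : MulAut.conj g • (V ⊓ Q) ≤ Q := by
    intro x hx
    obtain ⟨y, hy, rfl⟩ := mem_conj'.1 hx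
    exact norm_mem (hCQ hg) hy.2
  by_cases hlin : MulAut.conj g • (V ⊓ Q) ≤ centralizer (M.V1 : Set G)
  swap
  · -- a field type element
    left
    obtain ⟨hF4, hE8⟩ := M.field_case hS2 hzV hz1 hzS hfin.near rfl hSQ hQS hF'Q
      (hrel _ ((hF'Q.trans hQS).trans M.S_norm_V1) hfin.near.Fsq) (NOne.Choice.card_conj _ _) hlin
    refine ⟨⟨F, inferInstance, inferInstance, inferInstance, hF4, ⟨N.natOver⟩⟩, ?_, ?_⟩
    · refine card_two_of_lt (by rw [M.card_V1, hF4]) hZV1 (fun heq => hlin ?_) hzZ hz1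
      rw [← heq]
      exact (hF'Q.trans hQS).trans (ZN.le_centralizer_zc _)
    · have h1 := relIndex_mul_relIndex ⊥ (V ⊓ Q) V bot_le inf_le_left
      simp only [relIndex_bot_left] at h1
      rw [M.card_V, hF4] at h1
      have h2 : Nat.card ↥(V ⊓ Q) = 8 := hE8
      rw [h2] at h1
      change (V ⊓ Q).relIndex V = 2
      omega
  · -- the quadratic case
    right
    obtain ⟨hEV, hQc⟩ := M.lin_case hS2 hzV hz1 hzS hfin.near rfl hfin.ne hVQ hQS hF'Q hlin
    have hZne : zc (S : Subgroup G) ≠ M.V1 := by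
      intro heq
      apply hfin.ne
      refine le_antisymm inf_le_left ?_
      have h1 := h.Z_le_D hg
      rw [heq, ← hEV] at h1
      exact h1
    have hup : ∀ x ∈ (S : Subgroup G), x ∈ centralizer (M.V1 : Set G) →
        ∃ a : F, ∀ v ∈ V, ε (x * v * x⁻¹) = ap (up a) (ε v) :=
      fun x hx hxc => M.exists_up hS2 hx hzV hz1 hzS hxc
    have hreg : ∀ x ∈ (S : Subgroup G), x ∈ centralizer (M.V1 : Set G) → x ∉ centralizer (V : Set G) →
        ∀ v ∈ V, v * x = x * v → v ∈ M.V1 := by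
      intro x hx hxc hxV v hv hvx
      obtain ⟨a, ha⟩ := hup x hx hxc
      exact M.mem_V1_of_up ha (fun h0 => hxV ((M.up_cent (hSV hx) ha).2 h0)) hv hvx.symm
    have hsurj : ∀ x ∈ (S : Subgroup G), x ∈ centralizer (M.V1 : Set G) → x ∉ centralizer (V : Set G) →
        ∀ e ∈ M.V1, ∃ v ∈ V, v * x * v⁻¹ * x⁻¹ = e := by
      intro x hx hxc hxV e he
      obtain ⟨a, ha⟩ := hup x hx hxc
      exact M.exists_comm_up (hSV hx) ha (fun h0 => hxV ((M.up_cent (hSV hx) ha).2 h0)) he
    have hsit : Sit C V M.V1 Q :=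
      { char2 := h.char2C
        Q_eq := rfl
        V_le := hVC
        V_comm := M.comm
        V_sq := h.V_sq
        Q_norm := h.Q_norm_V
        V1_eq := hEV.symm
        Q_cent := hQc
        not_le := fun h1 => hvQ (h1 hv)
        reg := fun x hx hxV => hreg x (hQS hx) (hQc hx) hxV
        surj := fun x hx hxV => hsurj x (hQS hx) (hQc hx) hxV }
    obtain ⟨g₀, hsitX⟩ := hsit.exists_sitX
    have hCz : ∀ c ∈ C, c * z = z * c := fun c hc => (mem_centralizer_iff.1 hc z hzZ).symm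
    obtain ⟨hV1c, hVc⟩ := hsitX.card_four (fun A hA _ hA2 => hrel A hA hA2) hzV1 hz1 hCz
    have hF4 : Nat.card F = 4 := card_F_of M hV1c
    have hZc : Nat.card (zc (S : Subgroup G)) = 2 := card_two_of_lt hV1c hZV1 hZne hzZ hz1
    have hZz : zc (S : Subgroup G) = zpowers z := eq_zpowers_of_card hzZ hz1 hZc
    have hCz' : C = centralizer {z} := by
      rw [hC, CC, hZz, zpowers_eq_closure, centralizer_closure]
    -- the torus
    obtain ⟨l, hl0, hl1, hl3⟩ := exists_lam hF4
    obtain ⟨y, hyP, hy⟩ := M.lift (dg l hl0)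
    have hypow : ∀ n : ℕ, ∀ v ∈ V, ε (y ^ n * v * (y ^ n)⁻¹) = ![l ^ n * ε v 0, (l⁻¹) ^ n * ε v 1] := by
      intro n
      induction n with
      | zero => intro v _; apply ext2 <;> simp
      | succ n ih =>
        intro v hv
        have e : y ^ (n + 1) * v * (y ^ (n + 1))⁻¹ = y ^ n * (y * v * y⁻¹) * (y ^ n)⁻¹ := by
          rw [pow_succ]; group
        rw [e, ih _ (M.conj_mem hyP hv), hy v hv]
        apply ext2
        · simp only [Matrix.cons_val_zero, ap_zero', dg_00, dg_01, zero_mul, add_zero]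
          rw [pow_succ]; ring
        · simp only [Matrix.cons_val_one, Matrix.cons_val_fin_one, ap_one', dg_10, dg_11, zero_mul, zero_add]
          rw [pow_succ]; ring
    obtain ⟨a, m, hm, hord⟩ := Nat.exists_eq_two_pow_mul_odd (orderOf_pos y).ne'
    set t := y ^ (2 ^ (2 * a)) with ht
    have htP : t ∈ P := pow_mem hyP _
    have h4a : ∃ b, 2 ^ (2 * a) = 3 * b + 1 := by
      have h1 : (2 ^ (2 * a)) % 3 = 1 := by
        rw [pow_mul, Nat.pow_mod]; norm_num
      exact ⟨2 ^ (2 * a) / 3, by omega⟩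
    obtain ⟨b, hb⟩ := h4a
    have htact : ∀ v ∈ V, ε (t * v * t⁻¹) = ![l * ε v 0, l⁻¹ * ε v 1] := by
      intro v hv
      rw [ht, hypow _ v hv, hb, pow_succ, pow_succ, pow_mul, pow_mul, inv_pow l 3, hl3, inv_one, one_pow,
        one_mul, one_mul]
    have htodd : Odd (orderOf t) := by
      rw [ht, orderOf_pow, hord]
      have h1 : Nat.gcd (2 ^ a * m) (2 ^ (2 * a)) = 2 ^ a := by
        have e : 2 ^ (2 * a) = 2 ^ a * 2 ^ a := by rw [two_mul, pow_add]
        rw [e, Nat.gcd_mul_left]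
        have : Nat.gcd m (2 ^ a) = 1 := (Nat.Coprime.pow_right _ (Nat.coprime_two_right.2 hm))
        rw [this, mul_one]
      rw [h1, Nat.mul_div_cancel_left _ (by positivity)]
      exact hm
    have htV : t ∈ normalizer (V : Set G) := M.PV htP
    have htV1 : t ∈ normalizer (M.V1 : Set G) := by
      rw [mem_normalizer_iff]
      intro x
      constructor
      · intro hx
        refine ⟨M.conj_mem htP hx.1, ?_⟩
        rw [htact x hx.1, hx.2]; simp
      · intro hx
        have hxV : x ∈ V := (mem_normalizer_iff.1 htV x).2 hx.1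
        refine ⟨hxV, ?_⟩
        have h1 := hx.2
        rw [htact x hxV] at h1
        simp only [Matrix.cons_val_one, Matrix.cons_val_fin_one] at h1
        exact (mul_eq_zero.1 h1).resolve_left (inv_ne_zero hl0)
    have ht3 : ∀ v ∈ V, t ^ 3 * v = v * t ^ 3 := by
      intro v hv
      have h1 : t ^ 3 * v * (t ^ 3)⁻¹ = v := by
        refine M.inj (norm_mem (pow_mem htV 3) hv) hv ?_
        have e : t ^ 3 * v * (t ^ 3)⁻¹ = t * (t * (t * v * t⁻¹) * t⁻¹) * t⁻¹ := by
          have e3 : t ^ 3 = t * t * t := by rw [pow_succ, pow_two]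
          rw [e3]; group
        have hv2 := M.conj_mem htP hv
        have hv3 := M.conj_mem htP hv2
        rw [e, htact _ hv3, htact _ hv2, htact _ hv]
        have hl3' : (l⁻¹) ^ 3 = 1 := by rw [inv_pow, hl3, inv_one]
        apply ext2
        · simp only [Matrix.cons_val_zero]
          calc l * (l * (l * ε v 0)) = l ^ 3 * ε v 0 := by ring
            _ = ε v 0 := by rw [hl3, one_mul]
        · simp only [Matrix.cons_val_one, Matrix.cons_val_fin_one]
          calc l⁻¹ * (l⁻¹ * (l⁻¹ * ε v 1)) = (l⁻¹) ^ 3 * ε v 1 := by ring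
            _ = ε v 1 := by rw [hl3', one_mul]
      calc t ^ 3 * v = (t ^ 3 * v * (t ^ 3)⁻¹) * t ^ 3 := by group
        _ = v * t ^ 3 := by rw [h1]
    have htfix1 : ∀ v ∈ M.V1, t * v = v * t → v = 1 := by
      intro v hv hc
      have h1 := htact v hv.1
      rw [hc, mul_inv_cancel_right] at h1
      have h2 := congrFun h1 0
      simp only [Matrix.cons_val_zero] at h2
      refine (M.ker v hv.1).1 (ext2 ?_ hv.2)
      have h3 : (l - 1) * ε v 0 = 0 := by rw [sub_mul, ← h2, one_mul, sub_self]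
      exact (mul_eq_zero.1 h3).resolve_left (sub_ne_zero.2 hl1)
    have htfix2 : ∀ v ∈ V, t * v * t⁻¹ * v⁻¹ ∈ M.V1 → v ∈ M.V1 := by
      intro v hv hc
      refine ⟨hv, ?_⟩
      have h1 := hc.2
      rw [M.mul _ (M.conj_mem htP hv) _ (inv_mem hv), M.inv hv, htact v hv] at h1
      simp only [Pi.add_apply, Matrix.cons_val_one, Matrix.cons_val_fin_one, Pi.neg_apply] at h1
      have h3 : (l⁻¹ - 1) * ε v 1 = 0 := by rw [sub_mul, one_mul, sub_eq_add_neg]; exact h1
      refine (mul_eq_zero.1 h3).resolve_left (sub_ne_zero.2 fun h4 => hl1 ?_)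
      rw [← inv_inv l, h4, inv_one]
    -- `V₁ ≠ ⊥`
    have hV1ne : M.V1 ≠ ⊥ := fun h1 => hz1 (by rw [h1] at hzV1; exact mem_bot.1 hzV1)
    -- `V ≤ R`
    have hVR : V ≤ o2 (centralizer (M.V1 : Set G)) := by
      rcases NOne.LemmaT.lemmaT' h.ctx.char2 S hV1ne M.V1_le h.V_le_S hSV M.S_norm_V1 M.comm with h1 | ⟨h1, h2⟩
      · exact h1
      · exfalso
        set U := V ⊓ o2 (centralizer (M.V1 : Set G)) with hU
        have htU : t ∈ normalizer (U : Set G) :=
          NOne.LemmaT.le_normalizer_inf _ _ (mem_inf.2 ⟨htV, htV1⟩)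
        obtain ⟨u, hu, hu1⟩ := SetLike.exists_of_lt h1
        have hu0 : ε u 1 ≠ 0 := fun h0 => hu1 ⟨hu.1, h0⟩
        apply h2.ne
        refine le_antisymm inf_le_left fun w hw => ?_
        have htu := norm_mem htU hu
        have htu1 : ε (t * u * t⁻¹) 1 = l⁻¹ * ε u 1 := by rw [htact u hu.1]; rfl
        have hV1U : ∀ x ∈ V, ε x 1 = 0 → x ∈ U := fun x hx hx0 => h1.le ⟨hx, hx0⟩
        -- reduce to equal second coordinates
        have hred : ∀ x ∈ U, ε w 1 = ε x 1 → w ∈ U := by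
          intro x hx hwx
          have h3 : w * x⁻¹ ∈ U := by
            refine hV1U _ (mul_mem hw (inv_mem hx.1)) ?_
            rw [M.mul _ hw _ (inv_mem hx.1), M.inv hx.1, Pi.add_apply, Pi.neg_apply, hwx, add_neg_cancel]
          have h4 := mul_mem h3 hx
          rwa [inv_mul_cancel_right] at h4
        have hne : ε u 1 ≠ l⁻¹ * ε u 1 := by
          intro h3
          have h4 : (l⁻¹ - 1) * ε u 1 = 0 := by rw [sub_mul, one_mul, ← h3, sub_self]
          rcases mul_eq_zero.1 h4 with h5 | h5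
          · apply hl1
            rw [← inv_inv l, sub_eq_zero.1 h5, inv_one]
          · exact hu0 h5
        rcases four_cover hF4 hu0 (mul_ne_zero (inv_ne_zero hl0) hu0) hne (ε w 1) with h3 | h3 | h3 | h3
        · exact hV1U w hw h3
        · exact hred u hu h3
        · exact hred _ htu (by rw [h3, htu1])
        · refine hred (u * (t * u * t⁻¹)) (mul_mem hu htu) ?_
          rw [h3, M.mul _ hu.1 _ htu.1, Pi.add_apply, htu1]
    -- `Q ≤ R`
    have hHC : centralizer (M.V1 : Set G) ≤ C := by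
      rw [hCz']
      exact centralizer_le (by simpa using hzV1)
    have hQR : Q ≤ o2 (centralizer (M.V1 : Set G)) :=
      MinSimple.VModule.le_o2 hQc (MinSimple.VModule.o2_isPGroup C) (hHC.trans hCQ)
    -- `S ≰ H`
    have hSH : ¬ (S : Subgroup G) ≤ centralizer (M.V1 : Set G) := by
      intro h1
      apply hZne
      refine le_antisymm hZV1 fun x hx => ?_
      rw [ZN.mem_zc]
      refine ⟨h.V_le_S hx.1, ?_, h.V_sq x hx.1⟩
      first
        | exact mem_centralizer_iff.2 fun s hs => (mem_centralizer_iff.1 (h1 hs) x hx).symm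
        | exact fun s hs => (mem_centralizer_iff.1 (h1 hs) x hx).symm
    -- the index
    have hindex : (centralizer (M.V1 : Set G)).relIndex (normalizer (M.V1 : Set G)) = 6 := by
      have h6 := ZN.Plane.relIndex_dvd_six hV1c (le_refl (normalizer (M.V1 : Set G)))
      set H' := (centralizer (M.V1 : Set G)).subgroupOf (normalizer (M.V1 : Set G)) with hH'
      have hn : H'.Normal := normal_subgroupOf_of_le_normalizer
        (NOne.LemmaT.normalizer_le_normalizer_centralizer _)
      have hpow : ∀ x ∈ normalizer (M.V1 : Set G), ∀ n : ℕ, H'.index ∣ n →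
          x ^ n ∈ centralizer (M.V1 : Set G) := by
        intro x hx n hn'
        obtain ⟨k, rfl⟩ := hn'
        have h1 := Subgroup.pow_index_mem H' (⟨x, hx⟩ : normalizer (M.V1 : Set G))
        have h2 : x ^ H'.index ∈ centralizer (M.V1 : Set G) := h1
        rw [pow_mul]
        exact pow_mem h2 k
      change H'.index = 6
      change H'.index ∣ 6 at h6
      have hle : H'.index ≤ 6 := Nat.le_of_dvd (by norm_num) h6
      have ht3c : t ^ 3 ∈ centralizer (M.V1 : Set G) := mem_centralizer_iff.2 fun x hx => (ht3 x hx.1).symm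
      have htnot : t ∉ centralizer (M.V1 : Set G) := fun h1 =>
        hz1 (htfix1 z hzV1 (mem_centralizer_iff.1 h1 z hzV1).symm)
      have h2 : ¬ H'.index ∣ 2 := by
        intro h1
        apply htnot
        have h3 := hpow t htV1 2 h1
        have e : t = t ^ 3 * (t ^ 2)⁻¹ := by group
        rw [e]
        exact mul_mem ht3c (inv_mem h3)
      have h3 : ¬ H'.index ∣ 3 := by
        intro h1
        apply hSH
        intro s hs
        have h3 := hpow s (M.S_norm_V1 hs) 3 h1
        obtain ⟨k, hk⟩ := hS2 ⟨s, hs⟩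
        have hk' : s ^ 2 ^ k = 1 := congrArg Subtype.val hk
        have hcop : Nat.Coprime 3 (orderOf s) :=
          Nat.Coprime.coprime_dvd_right (orderOf_dvd_of_pow_eq_one hk')
            (Nat.Coprime.pow_right _ (by norm_num))
        obtain ⟨j, hj⟩ := exists_pow_eq_self_of_coprime hcop
        rw [← hj]
        exact pow_mem h3 j
      interval_cases H'.index
      · norm_num at h6
      · exact absurd (one_dvd 2) h2
      · exact absurd (dvd_refl 2) h2
      · exact absurd (dvd_refl 3) h3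
      · norm_num at h6
      · norm_num at h6
      · rfl
    -- `W₀ ≤ Ω₁(Z(Q))`
    have hV1zc : M.V1 ≤ zc Q := by
      intro x hx
      rw [ZN.mem_zc]
      have hxQ : x ∈ Q := by
        have h1 : x ∈ V ⊓ Q := by rw [hEV]; exact hx
        exact h1.2
      refine ⟨hxQ, ?_, h.V_sq x hx.1⟩
      first
        | exact mem_centralizer_iff.2 fun s hs => (mem_centralizer_iff.1 (hQc hs) x hx).symm
        | exact fun s hs => (mem_centralizer_iff.1 (hQc hs) x hx).symm
    have hWzc : ncl C M.V1 ≤ zc Q := ncl_le hV1zc (hCQ.trans (ZN.normalizer_le_normalizer_zc Q))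
    have hWQ : ncl C M.V1 ≤ Q := hWzc.trans (ZN.zc_le Q)
    have hWup : ∀ w ∈ ncl C M.V1, ∃ a : F, ∀ v ∈ V, ε (w * v * w⁻¹) = ap (up a) (ε v) :=
      fun w hw => hup w (hQS (hWQ hw)) (hQc (hWQ hw))
    -- `ν(W₀) = F`
    have hnu : ∀ c₀ : F, ∃ w ∈ ncl C M.V1, ∀ v ∈ V, ε (w * v * w⁻¹) = ap (up c₀) (ε v) := by
      intro c₀
      by_contra hcon
      push Not at hcon
      have hnot : ∀ w ∈ ncl C M.V1, ∀ a : F, (∀ v ∈ V, ε (w * v * w⁻¹) = ap (up a) (ε v)) → a ≠ c₀ := by
        rintro w hw a ha rfl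
        obtain ⟨v, hv, hne⟩ := hcon w hw
        exact hne (ha v hv)
      -- elements of `V₁^g`
      have hgW : ∀ g' ∈ C, MulAut.conj g' • (V ⊓ Q) ≤ ncl C M.V1 := by
        intro g' hg' x hx
        obtain ⟨y, hy, rfl⟩ := mem_conj'.1 hx
        rw [hEV] at hy
        exact conj_mem_ncl hg' hy
      have hprod : ∀ w ∈ ncl C M.V1, ∀ w' ∈ ncl C M.V1, ∀ a a' : F,
          (∀ v ∈ V, ε (w * v * w⁻¹) = ap (up a) (ε v)) →
          (∀ v ∈ V, ε (w' * v * w'⁻¹) = ap (up a') (ε v)) →
          ∀ v ∈ V, ε (w * w' * v * (w * w')⁻¹) = ap (up (a + a')) (ε v) := by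
        intro w hw w' hw' a a' ha ha' v hv
        have e : w * w' * v * (w * w')⁻¹ = w * (w' * v * w'⁻¹) * w⁻¹ := by group
        rw [e, ha _ (norm_mem (hSV (hQS (hWQ hw'))) hv), ha' v hv]
        apply ext2
        · simp only [ap_zero', ap_one', up_00, up_01, up_10, up_11]; ring
        · simp only [ap_zero', ap_one', up_00, up_01, up_10, up_11]; ring
      -- an element of a frame which does not centralise `V`
      have hframe : ∀ v ∈ V, v ∉ Q → ∃ w ∈ ncl C M.V1, v * w * v⁻¹ * w⁻¹ ∉ zc (S : Subgroup G) := by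
        intro v hv hvQ
        obtain ⟨g', hg', hfin', -, -⟩ := h.exists_near hv hvQ
        by_contra hcon'
        push Not at hcon'
        apply hfin'.ne
        refine le_antisymm inf_le_left ?_
        have h1 := hfin'.near.card
        have h2 : ((V ⊓ Q) ⊓ MulAut.conj g' • (V ⊓ Q)).relIndex (MulAut.conj g' • (V ⊓ Q)) = 1 := by
          rw [relIndex_eq_one]
          intro f hf
          exact hfin'.near.inj f hf (h.Z_le_D hg' (hcon' f (hgW g' hg' hf)))
        rw [h2] at h1
        exact relIndex_eq_one.1 h1.symm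
      obtain ⟨w₁, hw₁, hw₁Z⟩ := hframe v hv hvQ
      obtain ⟨a₁, ha₁⟩ := hWup w₁ hw₁
      have ha₁0 : a₁ ≠ 0 := by
        intro h0
        apply hw₁Z
        have h1 := (M.up_cent (hSV (hQS (hWQ hw₁))) ha₁).2 h0
        rw [mem_centralizer_iff.1 h1 v hv, mul_inv_cancel_right, mul_inv_cancel]
        exact one_mem _
      -- `v₁` with `a₁ ε v₁ 1 = ε z 0`
      obtain ⟨v₁, hv₁, hv₁e⟩ := M.surj ![0, a₁⁻¹ * ε z 0]
      have hz0 : ε z 0 ≠ 0 := fun h0 => hz1 ((M.ker z hzV).1 (ext2 h0 hzV1.2))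
      have hv₁1 : ε v₁ 1 = a₁⁻¹ * ε z 0 := by rw [hv₁e]; rfl
      have hv₁Q : v₁ ∉ Q := by
        intro h1
        have h2 : v₁ ∈ M.V1 := by rw [← hEV]; exact mem_inf.2 ⟨hv₁, h1⟩
        have h3 := h2.2
        rw [hv₁1] at h3
        exact (mul_ne_zero (inv_ne_zero ha₁0) hz0) h3
      obtain ⟨w₂, hw₂, hw₂Z⟩ := hframe v₁ hv₁ hv₁Q
      obtain ⟨a₂, ha₂⟩ := hWup w₂ hw₂
      have h2 := M.comm_up (hSV (hQS (hWQ hw₂))) ha₂ hv₁
      have hmemV : v₁ * w₂ * v₁⁻¹ * w₂⁻¹ ∈ V :=
        (M.comm_up_mem (hSV (hQS (hWQ hw₂))) ha₂ hv₁).1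
      have ha₂0 : a₂ ≠ 0 := by
        rintro rfl
        apply hw₂Z
        have h3 : v₁ * w₂ * v₁⁻¹ * w₂⁻¹ = 1 := (M.ker _ hmemV).1 (by
          rw [h2]; apply ext2 <;> simp)
        rw [h3]
        exact one_mem _
      have ha₂1 : a₁ ≠ a₂ := by
        rintro rfl
        apply hw₂Z
        have h3 : v₁ * w₂ * v₁⁻¹ * w₂⁻¹ = z := by
          refine M.inj hmemV hzV ?_
          rw [h2, hv₁1]
          apply ext2
          · simp [mul_inv_cancel_left₀ ha₁0]
          · rw [hzV1.2]; rfl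
        rw [h3]
        exact hzZ
      rcases four_cover hF4 ha₁0 ha₂0 ha₂1 c₀ with h3 | h3 | h3 | h3
      · refine hnot 1 (one_mem _) 0 (fun v _ => ?_) h3.symm
        rw [one_mul, inv_one, mul_one]
        apply ext2
        · rw [ap_zero', up_00, up_01]; ring
        · rw [ap_one', up_10, up_11]; ring
      · exact hnot w₁ hw₁ a₁ ha₁ h3.symm
      · exact hnot w₂ hw₂ a₂ ha₂ h3.symm
      · exact hnot _ (mul_mem hw₁ hw₂) _ (hprod w₁ hw₁ w₂ hw₂ a₁ a₂ ha₁ ha₂) h3.symm
    have hfull : ∀ v ∈ V, v ∉ M.V1 → ∀ e ∈ M.V1, ∃ w ∈ ncl C M.V1, v * w * v⁻¹ * w⁻¹ = e := by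
      intro v hv hv1 e he
      have hv0 : ε v 1 ≠ 0 := fun h0 => hv1 ⟨hv, h0⟩
      obtain ⟨w, hw, hw1⟩ := hnu (ε e 0 * (ε v 1)⁻¹)
      refine ⟨w, hw, ?_⟩
      have hwS : w ∈ (S : Subgroup G) := hQS (hWQ hw)
      refine M.inj (M.comm_up_mem (hSV hwS) hw1 hv).1 he.1 ?_
      rw [M.comm_up (hSV hwS) hw1 hv]
      apply ext2
      · simp [inv_mul_cancel_right₀ hv0]
      · rw [he.2]; rfl
    -- `v ∈ V - V₁`
    have hv1 : v ∉ M.V1 := by
      intro h1
      rw [← hEV] at h1
      exact hvQ h1.2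
    have hWidx : (centralizer (V : Set G)).relIndex (ncl C M.V1) = 4 := by
      have hmem : ∀ w ∈ ncl C M.V1, v * w * v⁻¹ * w⁻¹ ∈ M.V1 := fun w hw => by
        obtain ⟨a, ha⟩ := hWup w hw
        exact M.comm_up_mem (hSV (hQS (hWQ hw))) ha hv
      let φ : ncl C M.V1 →* G :=
        { toFun := fun w => v * w * v⁻¹ * (w : G)⁻¹
          map_one' := by simp
          map_mul' := fun w w' => by
            have h1 := hmem w' w'.2
            have h2 : (v * w' * v⁻¹ * (w' : G)⁻¹) * w = w * (v * w' * v⁻¹ * (w' : G)⁻¹) :=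
              mem_centralizer_iff.1 (hQc (hWQ w.2)) _ h1
            calc v * ((w * w' : ncl C M.V1) : G) * v⁻¹ * ((w * w' : ncl C M.V1) : G)⁻¹ =
                (v * w * v⁻¹ * (w : G)⁻¹) * (w * (v * w' * v⁻¹ * (w' : G)⁻¹)) * (w : G)⁻¹ := by
                  rw [Subgroup.coe_mul]; group
              _ = (v * w * v⁻¹ * (w : G)⁻¹) * ((v * w' * v⁻¹ * (w' : G)⁻¹) * w) * (w : G)⁻¹ := by rw [h2]
              _ = _ := by group }
      have hker : φ.ker = (centralizer (V : Set G)).subgroupOf (ncl C M.V1) := by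
        ext w
        rw [MonoidHom.mem_ker, mem_subgroupOf]
        change v * w * v⁻¹ * (w : G)⁻¹ = 1 ↔ _
        obtain ⟨a, ha⟩ := hWup w w.2
        rw [M.up_cent (hSV (hQS (hWQ w.2))) ha]
        have h3 := M.comm_up (hSV (hQS (hWQ w.2))) ha hv
        have hv0 : ε v 1 ≠ 0 := fun h0 => hv1 ⟨hv, h0⟩
        constructor
        · intro h1
          rw [h1, M.one] at h3
          have h4 := congrFun h3 0
          simp only [Pi.zero_apply, Matrix.cons_val_zero] at h4
          exact (mul_eq_zero.1 h4.symm).resolve_right hv0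
        · rintro rfl
          refine (M.ker _ (hmem w w.2).1).1 ?_
          rw [h3]
          apply ext2 <;> simp
      have hran : φ.range = M.V1 := by
        ext e
        constructor
        · rintro ⟨w, rfl⟩
          exact hmem w w.2
        · intro he
          obtain ⟨w, hw, hwe⟩ := hfull v hv hv1 e he
          exact ⟨⟨w, hw⟩, hwe⟩
      rw [relIndex, ← hker, index_ker, hran, hV1c]
    refine ⟨z, V, M.V1, C, Q, ?_⟩
    exact
      { cfg := h
        V_eq := hV
        C_eq := hCz'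
        CC_eq := hC
        Q_eq := hQ
        V1_eq := hEV.symm
        Z_eq := hZz
        z_ne := hz1
        z_sq := by have := h.V_sq z hzV; rwa [pow_two] at this
        z_mem := hzV1
        card_V := hVc
        card_V1 := hV1c
        nat := ⟨F, inferInstance, inferInstance, inferInstance, N, hF4, fun v hv =>
          ⟨fun h1 => ⟨hv, h1⟩, fun h1 => h1.2⟩⟩
        trans := by
          intro v hv hv1 w hw hw1
          obtain ⟨A, hA⟩ := NatPair.exists_ap (M.ne_zero hv hv1) (M.ne_zero hw hw1)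
          obtain ⟨p, hp, hpA⟩ := M.lift A
          exact ⟨p, hp, M.inj (M.conj_mem hp hv) hw (by rw [hpA v hv, hA])⟩
        S_le := M.S_norm_V1
        Q_le := hQc
        V_le_R := hVR
        Q_le_R := hQR
        index := hindex
        S_not_le := hSH
        comm := by
          intro x hx hxc v hv
          obtain ⟨a, ha⟩ := hup x hx hxc
          exact M.comm_up_mem (hSV hx) ha hv
        reg := hreg
        surj := hsurj
        full := hfull
        W_le := by
          intro w hw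
          have h1 := hWzc hw
          rw [ZN.mem_zc] at h1
          exact mem_inf.2 ⟨h1.1, mem_centralizer_iff.2 fun y hy => ZN.zc_comm (hWzc hw) hy⟩
        W_sq := by
          intro w hw
          have := ZN.zc_sq (hWzc hw)
          rwa [pow_two] at this
        W_index := hWidx
        frame := by
          intro v hv hv1
          have hvQ : v ∉ Q := fun h1 => hv1 (by rw [← hEV]; exact mem_inf.2 ⟨hv, h1⟩)
          obtain ⟨g, hg, hfin, -, -⟩ := h.exists_near hv hvQ
          refine ⟨g, hg, hfin, ?_⟩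
          have hne := hfin.ne
          have hZD := h.Z_le_D hg
          change (V ⊓ Q) ⊓ (V ⊓ Q).map (MulAut.conj g).toMonoidHom ≠ V ⊓ Q at hne
          change zc (S : Subgroup G) ≤ (V ⊓ Q) ⊓ (V ⊓ Q).map (MulAut.conj g).toMonoidHom at hZD
          rw [hEV] at hne hZD
          exact eq_zpowers_of_card (hZD hzZ) hz1
            (card_two_of_lt hV1c inf_le_left hne (hZD hzZ) hz1)
        tor := ⟨t, htP, htodd, htV1, ht3, htfix1, htfix2⟩ }

end Cfsg.Agent.Omega.NO1.NatA
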