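import Cfsg.Agent.Omega.MinPar

/-!
# THEOREM NAT (#13408), interface between (5) and (6)

`SixIn S z V V₁ M e` : the configuration at the end of step (5).  `H = C_G(V₁)`, `R = O₂(H)`,
`C₁ = C_G(z) ∩ N_G(M)`, `J₁ = ⟨V^{C₁}⟩`, `e : M → F₂³` has the kernel `⟨z⟩`.
It is contradictory if the sectional 2-rank of `G` is at least 5 (`SixIn.false`, steps (6), (7)).
-/

set_option autoImplicit false
set_option linter.dupNamespace false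

namespace Cfsg.Agent.Omega.NO1.Nat.SixIn

open Subgroup Cfsg Cfsg.Agent.ZN

universe u

variable {G : Type u} [Group G]

/-- `C₁ = C_G(z) ∩ N_G(M)` -/
def C₁ (z : G) (M : Subgroup G) : Subgroup G := centralizer ({z} : Set G) ⊓ normalizer (M : Set G)

/-- `J₁ = ⟨V^{C₁}⟩` -/
def J₁ (z : G) (V M : Subgroup G) : Subgroup G :=
  closure {x | ∃ c ∈ C₁ z M, ∃ v ∈ V, x = c * v * c⁻¹}

/-- The end of step (5) of THEOREM NAT. -/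
structure SixIn [Finite G] (S : Sylow 2 G) (z : G) (V V₁ M : Subgroup G) (e : G → Fin 3 → ZMod 2) :
    Prop where
  char2 : IsCharacteristicTwoType G
  zc_eq : zc (S : Subgroup G) = zpowers z
  z_ne : z ≠ 1
  z_sq : z * z = 1
  -- `V`, `V₁`
  V_comm : ∀ x ∈ V, ∀ y ∈ V, x * y = y * x
  V_sq : ∀ x ∈ V, x * x = 1
  V_card : Nat.card V = 16
  V₁_le : V₁ ≤ V
  V₁_card : Nat.card V₁ = 4
  z_mem : z ∈ V₁
  S_V : (S : Subgroup G) ≤ normalizer (V : Set G)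
  S_V₁ : (S : Subgroup G) ≤ normalizer (V₁ : Set G)
  tor : ∃ t ∈ normalizer (V : Set G), t ∈ normalizer (V₁ : Set G) ∧ t * z * t⁻¹ ≠ z
  V_le : V ≤ o2 (centralizer (V₁ : Set G))
  quad : ∀ v ∈ V, ∀ r ∈ o2 (centralizer (V₁ : Set G)), v * r * v⁻¹ * r⁻¹ ∈ V₁
  -- `M`
  M_comm : ∀ x ∈ M, ∀ y ∈ M, x * y = y * x
  M_sq : ∀ x ∈ M, x * x = 1
  M_card : Nat.card M = 16
  V₁_le_M : V₁ ≤ M
  H_M : centralizer (V₁ : Set G) ≤ normalizer (M : Set G)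
  S_M : (S : Subgroup G) ≤ normalizer (M : Set G)
  V_M : ∀ v ∈ V, v ∉ V₁ → ∀ m ∈ M, v * m = m * v → m ∈ V₁
  -- `M/⟨z⟩ = F₂³`, `C₁/C_G(M) = GL₃(2)`
  e_mul : ∀ x ∈ M, ∀ y ∈ M, e (x * y) = e x + e y
  e_z : e z = 0
  e_ker : ∀ x ∈ M, e x = 0 → x = 1 ∨ x = z
  faith : ∀ c ∈ C₁ z M, (∀ m ∈ M, e (c * m * c⁻¹) = e m) → ∀ m ∈ M, c * m = m * c
  full : ∀ i j : Fin 3, i ≠ j → ∃ g ∈ J₁ z V M, ∀ m ∈ M, e (g * m * g⁻¹) = e m + Pi.single i (e m j)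

end Cfsg.Agent.Omega.NO1.Nat.SixIn
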