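import Cfsg.Agent.Omega.NO1.Nat.Out
import Cfsg.Agent.Omega.NO1.NatQuot

/-!
# THEOREM NAT (#13408) (4): the space `W₀/W_c` for the output of (0)-(3)

`Quad.dat` : `W = W₀ = ⟨V₁^C⟩`, `Wc = C_{W₀}(J)`, `J = ⟨V^C⟩`; `Quad.inp` : the hypotheses of the wrapper
`NatQuot.Inp`, so `(Quad.inp q).cfg` is the configuration of Mini-McLaughlin.
-/

set_option autoImplicit false
set_option linter.unusedSectionVars false

namespace Cfsg.Agent.Omega.NO1.NatA

open Subgroup Cfsg Cfsg.Agent.ZN Cfsg.Agent.Omega.MinPar Cfsg.Agent.Omega.Frame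
open Cfsg.Agent.Omega.NO1.NatQuot

universe u

variable {G : Type u} [Group G]

theorem le_ncl (C A : Subgroup G) : A ≤ ncl C A := fun a ha =>
  subset_closure ⟨1, C.one_mem, a, ha, by group⟩

theorem ncl_le {C A B : Subgroup G} (h : ∀ c ∈ C, ∀ a ∈ A, c * a * c⁻¹ ∈ B) : ncl C A ≤ B := by
  rw [ncl, closure_le]
  rintro _ ⟨c, hc, a, ha, rfl⟩
  exact h c hc a ha

theorem conj_mem_ncl {C A : Subgroup G} {c x : G} (hc : c ∈ C) (hx : x ∈ ncl C A) :
    c * x * c⁻¹ ∈ ncl C A := by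
  refine closure_induction (p := fun x _ => c * x * c⁻¹ ∈ ncl C A) ?_ ?_ ?_ ?_ hx
  · rintro _ ⟨d, hd, a, ha, rfl⟩
    exact subset_closure ⟨c * d, mul_mem hc hd, a, ha, by group⟩
  · rw [mul_one, mul_inv_cancel]; exact one_mem _
  · intro x y _ _ hx hy
    have e : c * (x * y) * c⁻¹ = c * x * c⁻¹ * (c * y * c⁻¹) := by group
    rw [e]
    exact mul_mem hx hy
  · intro x _ hx
    have e : c * x⁻¹ * c⁻¹ = (c * x * c⁻¹)⁻¹ := by group
    rw [e]
    exact inv_mem hx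

theorem conj_nm {A : Subgroup G} {g x : G} (hg : g ∈ normalizer (A : Set G)) (hx : x ∈ A) :
    g * x * g⁻¹ ∈ A := (mem_normalizer_iff.1 hg x).1 hx

variable [Finite G] {S : Sylow 2 G} {P : Subgroup G} {z : G} {V V₁ C Q : Subgroup G}

namespace Quad

variable (q : Quad S P z V V₁ C Q)
include q

theorem V_le_C : V ≤ C := by
  rw [q.V_eq, q.CC_eq]; exact q.cfg.V_le_CC

theorem V1_le_V : V₁ ≤ V := by rw [q.V1_eq]; exact inf_le_left

theorem V1_le_Q : V₁ ≤ Q := by rw [q.V1_eq]; exact inf_le_right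

theorem Q_le_S : Q ≤ (S : Subgroup G) := by
  rw [q.Q_eq, q.CC_eq]; exact q.cfg.Q_le_S

theorem Q_norm_V : Q ≤ normalizer (V : Set G) := by
  rw [q.Q_eq, q.CC_eq, q.V_eq]; exact q.cfg.Q_norm_V

theorem C_norm_Q : C ≤ normalizer (Q : Set G) := by
  rw [q.Q_eq]; exact le_normalizer_o2 _

theorem V_comm {v w : G} (hv : v ∈ V) (hw : w ∈ V) : v * w = w * v := by
  rw [q.V_eq] at hv hw
  exact mem_centralizer_iff.1 (q.cfg.V_comm hw) v hv

theorem V_sq {v : G} (hv : v ∈ V) : v * v = 1 := by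
  rw [q.V_eq] at hv
  have := q.cfg.V_sq v hv
  rwa [pow_two] at this

theorem W_le_Q : ncl C V₁ ≤ Q := q.W_le.trans inf_le_left

theorem W_comm {a b : G} (ha : a ∈ ncl C V₁) (hb : b ∈ ncl C V₁) : a * b = b * a :=
  mem_centralizer_iff.1 (q.W_le hb).2 a (q.W_le ha).1

theorem J_le_C : ncl C V ≤ C := ncl_le fun _ hc _ ha =>
  mul_mem (mul_mem hc (q.V_le_C ha)) (inv_mem hc)

theorem Q_le_C : Q ≤ C := by rw [q.Q_eq]; exact o2_le _

/-- the data of the quotient space -/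
def dat : Dat G where
  C := C
  W := ncl C V₁
  Wc := ncl C V₁ ⊓ centralizer (ncl C V : Set G)
  comm _ ha _ hb := q.W_comm ha hb
  sq a ha := q.W_sq a ha
  normW _ hc _ hw := conj_mem_ncl hc hw
  normWc := by
    rintro c hc w ⟨hw, hw'⟩
    refine mem_inf.2 ⟨conj_mem_ncl hc hw, ?_⟩
    rw [mem_centralizer_iff]
    intro j hj
    have h1 : c⁻¹ * j * c ∈ ncl C V := by
      have := conj_mem_ncl (inv_mem hc) hj
      rwa [inv_inv] at this
    have h2 := mem_centralizer_iff.1 hw' _ h1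
    have h3 : c * (c⁻¹ * j * c * w) * c⁻¹ = c * (w * (c⁻¹ * j * c)) * c⁻¹ := by rw [h2]
    have e1 : c * (c⁻¹ * j * c * w) * c⁻¹ = j * (c * w * c⁻¹) := by group
    have e2 : c * (w * (c⁻¹ * j * c)) * c⁻¹ = c * w * c⁻¹ * j := by group
    rwa [e1, e2] at h3

/-- `[v, w] ∈ V₁` -/
theorem com {w v : G} (hw : w ∈ ncl C V₁) (hv : v ∈ V) : v * w * v⁻¹ * w⁻¹ ∈ V₁ := by
  have hwQ := q.W_le_Q hw
  rw [q.V1_eq, mem_inf]
  constructor
  · have h1 : w * v⁻¹ * w⁻¹ ∈ V := conj_nm (q.Q_norm_V hwQ) (inv_mem hv)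
    have h2 : v * (w * v⁻¹ * w⁻¹) ∈ V := mul_mem hv h1
    have e : v * w * v⁻¹ * w⁻¹ = v * (w * v⁻¹ * w⁻¹) := by group
    rw [e]
    exact h2
  · have h1 : v * w * v⁻¹ ∈ Q := conj_nm (q.C_norm_Q (q.V_le_C hv)) hwQ
    exact mul_mem h1 (inv_mem hwQ)

theorem exists_out : ∃ v ∈ V, v ∉ V₁ := by
  by_contra hcon
  push Not at hcon
  have h1 : Nat.card V ≤ Nat.card V₁ := Nat.card_le_card_of_injective (Subgroup.inclusion hcon)
    (Subgroup.inclusion_injective hcon)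
  rw [q.card_V, q.card_V1] at h1
  omega

theorem z_mem_Wc : z ∈ q.dat.Wc := by
  refine mem_inf.2 ⟨le_ncl C V₁ q.z_mem, ?_⟩
  rw [mem_centralizer_iff]
  intro j hj
  have h1 := q.J_le_C hj
  rw [q.C_eq] at h1
  exact (mem_centralizer_iff.1 h1 z rfl).symm

theorem exists_e : ∃ e ∈ V₁, e ∉ q.dat.Wc := by
  by_contra hcon
  push Not at hcon
  have h1 : ncl C V₁ ≤ q.dat.Wc := ncl_le fun c hc a ha => q.dat.normWc c hc a (hcon a ha)
  obtain ⟨v, hv, hv'⟩ := q.exists_out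
  obtain ⟨w, hw, h2⟩ := q.full v hv hv' z q.z_mem
  have h3 := mem_centralizer_iff.1 (h1 hw).2 v (le_ncl C V hv)
  apply q.z_ne
  rw [← h2, h3]
  group

/-- `|V₁ ∩ Wc| = 2` -/
theorem card_inf : Nat.card (q.dat.Wc.subgroupOf V₁) = 2 := by
  have h1 : Nat.card (q.dat.Wc.subgroupOf V₁) ∣ 4 := by
    rw [← q.card_V1]; exact card_subgroup_dvd_card _
  have h2 : Nat.card (q.dat.Wc.subgroupOf V₁) ≠ 4 := by
    intro h
    rw [← q.card_V1] at h
    have h3 := eq_top_of_card_eq _ h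
    obtain ⟨e, he, he'⟩ := q.exists_e
    have h4 : (⟨e, he⟩ : V₁) ∈ q.dat.Wc.subgroupOf V₁ := by rw [h3]; trivial
    exact he' h4
  have h3 : Nat.card (q.dat.Wc.subgroupOf V₁) ≠ 1 := by
    intro h
    have h4 := card_eq_one.1 h
    have h5 : (⟨z, q.z_mem⟩ : V₁) ∈ q.dat.Wc.subgroupOf V₁ := q.z_mem_Wc
    rw [h4, mem_bot] at h5
    exact q.z_ne (congrArg Subtype.val h5)
  have h4 : Nat.card (q.dat.Wc.subgroupOf V₁) ≤ 4 := Nat.le_of_dvd (by norm_num) h1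
  interval_cases h : Nat.card (q.dat.Wc.subgroupOf V₁)
  · omega
  · omega
  · rfl
  · omega
  · omega

theorem index_inf : (q.dat.Wc.subgroupOf V₁).index = 2 := by
  have h1 := card_mul_index (q.dat.Wc.subgroupOf V₁)
  rw [q.card_inf, q.card_V1] at h1
  omega

/-- `V₁ ∩ Wc = ⟨z⟩` -/
theorem inf_Wc {e : G} (he : e ∈ V₁) (he' : e ∈ q.dat.Wc) : e = 1 ∨ e = z := by
  have h1 := q.card_inf
  have h2 : (1 : q.dat.Wc.subgroupOf V₁) ≠ ⟨⟨z, q.z_mem⟩, q.z_mem_Wc⟩ := fun h =>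
    q.z_ne (congrArg (fun x : q.dat.Wc.subgroupOf V₁ => ((x : V₁) : G)) h).symm
  rw [Nat.card_eq_two_iff] at h1
  obtain ⟨x, y, hxy, h3⟩ := h1
  have key : ∀ t : q.dat.Wc.subgroupOf V₁, t = x ∨ t = y := fun t => by
    have : t ∈ ({x, y} : Set _) := h3 ▸ Set.mem_univ t
    simpa using this
  have h4 := key 1
  have h5 := key ⟨⟨z, q.z_mem⟩, q.z_mem_Wc⟩
  have h6 := key ⟨⟨e, he⟩, he'⟩
  have h7 : (⟨⟨e, he⟩, he'⟩ : q.dat.Wc.subgroupOf V₁) = 1 ∨
      (⟨⟨e, he⟩, he'⟩ : q.dat.Wc.subgroupOf V₁) = ⟨⟨z, q.z_mem⟩, q.z_mem_Wc⟩ := by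
    rcases h4 with h4 | h4 <;> rcases h5 with h5 | h5 <;> rcases h6 with h6 | h6
    · exact absurd (h4.trans h5.symm) h2
    · exact absurd (h4.trans h5.symm) h2
    · exact Or.inl (h6.trans h4.symm)
    · exact Or.inr (h6.trans h5.symm)
    · exact Or.inr (h6.trans h5.symm)
    · exact Or.inl (h6.trans h4.symm)
    · exact absurd (h4.trans h5.symm) h2
    · exact absurd (h4.trans h5.symm) h2
  rcases h7 with h7 | h7
  · exact Or.inl (congrArg (fun x : q.dat.Wc.subgroupOf V₁ => ((x : V₁) : G)) h7)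
  · exact Or.inr (congrArg (fun x : q.dat.Wc.subgroupOf V₁ => ((x : V₁) : G)) h7)

theorem four : ∃ v ∈ V, ∃ v' ∈ V, v ∉ V₁ ∧ v' ∉ V₁ ∧ v⁻¹ * v' ∉ V₁ := by
  classical
  obtain ⟨v, hv, hv'⟩ := q.exists_out
  by_contra hcon
  push Not at hcon
  have h1 : ∀ w : V, ∃ x : V₁ × Bool, (w : G) = (if x.2 then v else 1) * x.1 := by
    intro w
    by_cases h : (w : G) ∈ V₁
    · exact ⟨(⟨w, h⟩, false), by simp⟩
    · exact ⟨(⟨v⁻¹ * w, hcon v hv w w.2 hv' h⟩, true), by simp⟩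
  choose f hf using h1
  have h2 : Function.Injective f := fun a b h => Subtype.ext (by rw [hf a, hf b, h])
  have h3 := Nat.card_le_card_of_injective f h2
  rw [q.card_V, Nat.card_prod, q.card_V1, Nat.card_eq_fintype_card, Fintype.card_bool] at h3
  omega

/-- **The hypotheses of the wrapper.** -/
theorem inp : Inp q.dat (ncl C V) V V₁ where
  VC := q.V_le_C
  VJ := le_ncl C V
  normJ _ hc _ hj := conj_mem_ncl hc hj
  V1W := le_ncl C V₁
  gen _ hw := hw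
  com _ hw _ hv := q.com hw hv
  onto v hv hv' := by
    obtain ⟨e, he, he'⟩ := q.exists_e
    obtain ⟨w, hw, h⟩ := q.full v hv hv' e he
    exact ⟨w, hw, by rwa [h]⟩
  four := q.four
  ex := q.exists_e
  two a ha b hb ha' hb' := by
    have h := mul_mem_iff_of_index_two q.index_inf (a := ⟨a, ha⟩) (b := ⟨b, hb⟩)
    have h1 : (⟨a, ha⟩ : V₁) ∉ q.dat.Wc.subgroupOf V₁ := ha'
    have h2 : (⟨b, hb⟩ : V₁) ∉ q.dat.Wc.subgroupOf V₁ := hb'
    have h3 := h.2 (by simp [h1, h2])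
    exact h3
  small w hw hall := by
    by_contra hcon
    have h1 : w ∉ centralizer (V : Set G) := fun h => hcon fun v hv =>
      mem_centralizer_iff.1 h v hv
    obtain ⟨e, he, he'⟩ := q.exists_e
    have hwQ := q.W_le_Q hw
    obtain ⟨v, hv, h2⟩ := q.surj w (q.Q_le_S hwQ) (q.Q_le hwQ) h1 e he
    exact he' (h2 ▸ hall v hv)
  big w hw hall := by
    refine mem_inf.2 ⟨hw, ?_⟩
    rw [ncl, centralizer_closure, mem_centralizer_iff]
    rintro _ ⟨c, hc, v, hv, rfl⟩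
    exact hall c hc v hv

end Quad

end Cfsg.Agent.Omega.NO1.NatA
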