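import Cfsg.Agent.Omega.NO1.NatFiveF
import Cfsg.Agent.Omega.NO1.Nat.Space
import Cfsg.Agent.Omega.NO1.Nat.SixIn
import Cfsg.Agent.Lib.SylowNormalInf

/-!
# THEOREM NAT (#13408), step (5): from the output `Quad` of (0)-(3) to the input `SixIn` of (6)
-/

set_option autoImplicit false
set_option linter.unusedSectionVars false

namespace Cfsg.Agent.Omega.NO1.NatA.Quad

open Subgroup Cfsg Cfsg.Agent.ZN Cfsg.Agent.Omega.MinPar Cfsg.Agent.Omega.Frame
open Cfsg.Agent.Omega.NO1.NatQuot Cfsg.Agent.Omega.NO1.NatFive Cfsg.Agent.Omega.Transv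

universe u

variable {G : Type u} [Group G] [Finite G] {S : Sylow 2 G} {P : Subgroup G} {z : G} {V V₁ C Q : Subgroup G}
variable (q : Quad S P z V V₁ C Q)
include q

theorem V1_iff {e : G} (he : e ∈ V₁) (he' : e ∉ q.dat.Wc) (x : G) :
    x ∈ V₁ ↔ x = 1 ∨ x = z ∨ x = e ∨ x = e * z := by
  constructor
  · intro hx
    by_cases h : x ∈ q.dat.Wc
    · rcases q.inf_Wc hx h with h1 | h1
      · exact Or.inl h1
      · exact Or.inr (Or.inl h1)
    · have h1 := q.inp.two e he x hx he' h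
      have hee := q.V_sq (q.V1_le_V he)
      rcases q.inf_Wc (mul_mem he hx) h1 with h2 | h2
      · right; right; left
        have h3 : x = e * (e * x) := by rw [← mul_assoc, hee, one_mul]
        rw [h3, h2, mul_one]
      · right; right; right
        have h3 : x = e * (e * x) := by rw [← mul_assoc, hee, one_mul]
        rw [h3, h2]
  · rintro (h | h | h | h)
    · rw [h]; exact one_mem _
    · rw [h]; exact q.z_mem
    · rw [h]; exact he
    · rw [h]; exact mul_mem he q.z_mem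

theorem z_comm {c : G} (hc : c ∈ C) : c * z = z * c := by
  rw [q.C_eq] at hc
  exact (mem_centralizer_iff.1 hc z rfl).symm

/-- the configuration of (5) -/
theorem fv {e : G} (he : e ∈ V₁) (he' : e ∉ q.dat.Wc) :
    Fv q.dat.C (ncl C V) V V₁ q.dat.W q.dat.Wc z e q.dat.p where
  JC := q.J_le_C
  Jn _ hc _ hx := conj_mem_ncl hc hx
  VJ := le_ncl C V
  Jgen _ h := ncl_le h
  V1V := q.V1_le_V
  V1W := le_ncl C V₁
  V1_iff := q.V1_iff he he'
  Wn _ hc _ hw := conj_mem_ncl hc hw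
  Wcomm _ ha _ hb := q.W_comm ha hb
  Wsq := q.W_sq
  Wgen _ h := ncl_le h
  WcW := inf_le_left
  WcJ _ hw x hx := mem_centralizer_iff.1 hw.2 x hx
  zWc := q.z_mem_Wc
  zC _ hc := q.z_comm hc
  comm_mem _ hv _ hw := q.com hw hv
  comm_surj := q.full
  four := by
    obtain ⟨v, hv, v', hv', h1, h2, h3⟩ := q.four
    refine ⟨v, hv, v', hv', h1, h2, ?_⟩
    rwa [inv_eq_of_mul_eq_one_left (q.V_sq hv)] at h3
  cl_mul _ ha _ hb := q.dat.p_mul ha hb
  cl_ker _ ha := q.dat.p_ker ha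
  cl_smul c _ ha := q.dat.p_act c ha
  exists_cl := q.dat.p_surj
  act v hv := by
    obtain ⟨φ, -, h⟩ := q.inp.exists_phi he he' (v := v) hv
    exact ⟨φ, h⟩
  cfg := q.inp.cfg he he'

theorem S_le_C : (S : Subgroup G) ≤ C := by
  rw [q.CC_eq]; exact Cfg.S_le_CC S

theorem S_norm_V {s v : G} (hs : s ∈ (S : Subgroup G)) (hv : v ∈ V) : s * v * s⁻¹ ∈ V := by
  have h1 := Cfg.P_norm_V S P (q.cfg.S_le hs)
  rw [q.V_eq] at hv ⊢
  exact conj_nm h1 hv

theorem not_dvd : ¬ 2 ∣ ((S : Subgroup G) ⊓ (centralizer (V₁ : Set G) ⊓ ncl C V)).relIndex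
    (centralizer (V₁ : Set G) ⊓ ncl C V) := by
  have hf : Fact (Nat.Prime 2) := ⟨Nat.prime_two⟩
  set N := centralizer (V₁ : Set G) ⊓ ncl C V with hN
  have hSN : (S : Subgroup G) ≤ normalizer (N : Set G) := by
    have key : ∀ s ∈ (S : Subgroup G), ∀ n ∈ N, s * n * s⁻¹ ∈ N := by
      intro s hs n hn
      refine mem_inf.2 ⟨?_, conj_mem_ncl (q.S_le_C hs) hn.2⟩
      rw [mem_centralizer_iff]
      intro y hy
      have h1 : s⁻¹ * y * s ∈ V₁ := by
        have := conj_nm (q.S_le (inv_mem hs)) hy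
        rwa [inv_inv] at this
      have h2 := mem_centralizer_iff.1 hn.1 _ h1
      have h3 : s * (s⁻¹ * y * s * n) * s⁻¹ = s * (n * (s⁻¹ * y * s)) * s⁻¹ := by rw [h2]
      have e1 : s * (s⁻¹ * y * s * n) * s⁻¹ = y * (s * n * s⁻¹) := by group
      have e2 : s * (n * (s⁻¹ * y * s)) * s⁻¹ = s * n * s⁻¹ * y := by group
      rwa [e1, e2] at h3
    intro s hs
    rw [mem_normalizer_iff]
    intro n
    refine ⟨key s hs n, fun h => ?_⟩
    have h1 := key s⁻¹ (inv_mem hs) _ h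
    have e : s⁻¹ * (s * n * s⁻¹) * s⁻¹⁻¹ = n := by group
    rwa [e] at h1
  have hnor : (N.subgroupOf (normalizer (N : Set G))).Normal := inferInstance
  have h1 := Lib.SylowNormalInf.not_dvd_relIndex (S.subtype hSN) (N.subgroupOf (normalizer (N : Set G)))
  rw [Sylow.coe_subtype, relIndex_subgroupOf le_normalizer] at h1
  rwa [inf_relIndex_right]

/-- the action of `S` -/
theorem sy {e : G} (he : e ∈ V₁) (he' : e ∉ q.dat.Wc) :
    Sy (S : Subgroup G) q.dat.C (ncl C V) V V₁ q.dat.W z e where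
  SC := q.S_le_C
  SV _ hs _ hv := q.S_norm_V hs hv
  SV1 _ hs _ hv := conj_nm (q.S_le hs) hv
  SHV s hs hse v hv := by
    have h1 : s ∈ centralizer (V₁ : Set G) :=
      ((q.fv he he').mem_cent (x := ⟨s, q.S_le_C hs⟩)).2 hse
    have h2 := q.comm s hs h1 v hv
    have h3 : s * v * s⁻¹ * v⁻¹ = (v * s * v⁻¹ * s⁻¹)⁻¹ := by group
    rw [h3]
    exact inv_mem h2
  two := S.isPGroup'
  Sz w hw hw1 hws := by
    have h1 : w ∈ zc (S : Subgroup G) :=
      ZN.mem_zc.2 ⟨q.Q_le_S (q.W_le_Q hw), hws, by rw [pow_two]; exact q.W_sq w hw⟩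
    rw [q.Z_eq] at h1
    obtain ⟨n, rfl⟩ := mem_zpowers_iff.1 h1
    have h2 : z ^ (2 : ℤ) = 1 := by rw [zpow_two]; exact q.z_sq
    rcases Int.even_or_odd' n with ⟨k, rfl | rfl⟩
    · rw [zpow_mul, h2, one_zpow] at hw1
      exact absurd rfl hw1
    · rw [zpow_add, zpow_mul, h2, one_zpow, one_mul, zpow_one]
  odd := q.not_dvd

/-- `κ = 0` -/
theorem kz {e : G} (he : e ∈ V₁) (he' : e ∉ q.dat.Wc) : (q.fv he he').Kz := by
  by_contra hcon
  unfold Fv.Kz at hcon
  push Not at hcon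
  obtain ⟨c, hc, m, hm, h1⟩ := hcon
  have hz := (q.fv he he').z_mem_WP (q.sy he he') ⟨c, hc, m, hm, h1⟩
  refine (q.fv he he').parity (q.sy he he') fun r hr hr0 _ ψ hψ hψp => ?_
  obtain ⟨-, x, hx, hxr⟩ := (q.fv he he').mem_Phi hψ
  exact (q.fv he he').lift_A hz hx hr hψ hψp hxr

/-- **step (5)** -/
theorem six : ∃ (M : Subgroup G) (ε : G → Fin 3 → ZMod 2), Nat.SixIn.SixIn S z V V₁ M ε := by
  classical
  obtain ⟨e, he, he'⟩ := q.exists_e
  have F := q.fv he he'
  have Y := q.sy he he'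
  have hB := q.kz he he'
  have hfr := F.finrank_eq hB Y
  have hfin : Module.Finite (ZMod 2) F.W1 := Module.Finite.of_finite
  obtain ⟨b⟩ : Nonempty (F.W1 ≃ₗ[ZMod 2] (Fin 3 → ZMod 2)) := by
    refine ⟨LinearEquiv.ofFinrankEq _ _ ?_⟩
    rw [hfr, Module.finrank_fin_fun]
  let M : Subgroup G := Fv.M1 (ncl C V) V₁
  let ε : G → Fin 3 → ZMod 2 := fun g => if h : q.dat.p g ∈ F.W1 then b ⟨q.dat.p g, h⟩ else 0
  have hε : ∀ g (h : q.dat.p g ∈ F.W1), ε g = b ⟨q.dat.p g, h⟩ := fun g h => dif_pos h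
  have hMC : ∀ c ∈ C, (∀ u ∈ V₁, c * u * c⁻¹ ∈ V₁) → ∀ m ∈ M, c * m * c⁻¹ ∈ M := fun c hc h m hm =>
    Fv.M1_conj (fun x hx => conj_mem_ncl hc hx) h hm
  have hnorm : ∀ A : Subgroup G, (∀ c ∈ A, ∀ m ∈ M, c * m * c⁻¹ ∈ M) → A ≤ normalizer (M : Set G) := by
    intro A hA s hs
    rw [mem_normalizer_iff]
    intro n
    refine ⟨hA s hs n, fun h => ?_⟩
    have h1 := hA s⁻¹ (inv_mem hs) _ h
    have e : s⁻¹ * (s * n * s⁻¹) * s⁻¹⁻¹ = n := by group
    rwa [e] at h1
  have hSV : (S : Subgroup G) ≤ normalizer (V : Set G) := by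
    rw [q.V_eq]
    exact q.cfg.S_le.trans (Cfg.P_norm_V S P)
  have hcent : centralizer (V₁ : Set G) ≤ C := by
    rw [q.C_eq]
    exact centralizer_le (Set.singleton_subset_iff.2 q.z_mem)
  have hchar : IsCharacteristicTwoType G := q.cfg.ctx.char2
  have hJM : ∀ x ∈ ncl C V, ∀ m ∈ M, x * m * x⁻¹ ∈ M := fun x hx m hm => Fv.M1_conj_J hx hm
  refine ⟨M, ε, ?_⟩
  exact {
    char2 := hchar
    zc_eq := q.Z_eq
    z_ne := q.z_ne
    z_sq := q.z_sq
    V_comm := fun x hx y hy => q.V_comm hx hy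
    V_sq := fun x hx => q.V_sq hx
    V_card := q.card_V
    V₁_le := q.V1_le_V
    V₁_card := q.card_V1
    z_mem := q.z_mem
    S_V := hSV
    S_V₁ := q.S_le
    tor := by
      obtain ⟨t, htP, -, htV1, -, ht, -⟩ := q.tor
      refine ⟨t, ?_, htV1, fun h => ?_⟩
      · rw [q.V_eq]; exact Cfg.P_norm_V S P htP
      · exact q.z_ne (ht z q.z_mem (mul_inv_eq_iff_eq_mul.1 h))
    V_le := q.V_le_R
    quad := by
      intro v hv r hr
      have hrS : r ∈ (S : Subgroup G) := by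
        have hf : Fact (Nat.Prime 2) := ⟨Nat.prime_two⟩
        have hnc : (S : Subgroup G) ≤ normalizer (centralizer (V₁ : Set G) : Set G) := by
          refine q.S_le.trans ?_
          intro s hs
          have key : ∀ s ∈ normalizer (V₁ : Set G), ∀ n ∈ centralizer (V₁ : Set G),
              s * n * s⁻¹ ∈ centralizer (V₁ : Set G) := by
            intro s hs n hn
            rw [mem_centralizer_iff]
            intro y hy
            have h1 : s⁻¹ * y * s ∈ V₁ := by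
              have := conj_nm (inv_mem hs) hy
              rwa [inv_inv] at this
            have h2 := mem_centralizer_iff.1 hn _ h1
            have h3 : s * (s⁻¹ * y * s * n) * s⁻¹ = s * (n * (s⁻¹ * y * s)) * s⁻¹ := by rw [h2]
            have e1 : s * (s⁻¹ * y * s * n) * s⁻¹ = y * (s * n * s⁻¹) := by group
            have e2 : s * (n * (s⁻¹ * y * s)) * s⁻¹ = s * n * s⁻¹ * y := by group
            rwa [e1, e2] at h3
          rw [mem_normalizer_iff]
          intro n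
          refine ⟨key s hs n, fun h => ?_⟩
          have h1 := key s⁻¹ (inv_mem hs) _ h
          have e : s⁻¹ * (s * n * s⁻¹) * s⁻¹⁻¹ = n := by group
          rwa [e] at h1
        have hno := hnc.trans (ZN.normalizer_le_normalizer_o2 _)
        have h1 : IsPGroup 2 ((S : Subgroup G) ⊔ o2 (centralizer (V₁ : Set G)) : Subgroup G) :=
          IsPGroup.to_sup_of_normal_right' S.isPGroup' (ZN.isPGroup_o2 _) hno
        have h2 := S.is_maximal' h1 le_sup_left
        have h3 : r ∈ (S : Subgroup G) ⊔ o2 (centralizer (V₁ : Set G)) := mem_sup_right hr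
        rw [h2] at h3
        exact h3
      exact q.comm r hrS (o2_le _ hr) v hv
    M_comm := fun x hx y hy => q.W_comm (F.M1_le hx) (F.M1_le hy)
    M_sq := fun x hx => q.W_sq x (F.M1_le hx)
    M_card := F.card_M1 hB Y q.z_ne
    V₁_le_M := F.V1_le
    H_M := hnorm _ fun c hc m hm => hMC c (hcent hc) (fun u hu => by
      have h1 := mem_centralizer_iff.1 hc u hu
      rw [← h1, mul_inv_cancel_right]
      exact hu) m hm
    S_M := hnorm _ fun c hc m hm => hMC c (q.S_le_C hc) (fun u hu => conj_nm (q.S_le hc) hu) m hm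
    V_M := fun v hv hv1 m hm h => F.cent_M1 hB Y q.z_ne q.card_V1 (v := ⟨v, q.V_le_C hv⟩) hv hv1
      (fun y hy => q.V_comm hv (q.V1_le_V hy)) hm h
    e_mul := fun x hx y hy => by
      rw [hε _ (F.cl_M1 hx), hε _ (F.cl_M1 hy), hε _ (F.cl_M1 (mul_mem hx hy)), ← map_add]
      congr 1
      exact Subtype.ext (q.dat.p_mul (F.M1_le hx) (F.M1_le hy))
    e_z := by
      have h1 : q.dat.p z = 0 := F.cl_z
      have h2 : q.dat.p z ∈ F.W1 := by rw [h1]; exact zero_mem _
      rw [hε z h2]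
      have h3 : (⟨q.dat.p z, h2⟩ : F.W1) = 0 := Subtype.ext h1
      rw [h3, map_zero]
    e_ker := fun x hx h => by
      rw [hε _ (F.cl_M1 hx), LinearEquiv.map_eq_zero_iff] at h
      exact F.M1_ker hB hx (congrArg Subtype.val h)
    faith := by
      intro c hc h m hm
      have hcC : c ∈ C := by rw [q.C_eq]; exact hc.1
      have hcn : ∀ m ∈ M, c * m * c⁻¹ ∈ M := fun m hm => conj_nm hc.2 hm
      have h1 := F.faith hB hcC hcn (fun m hm => by
        have h2 := h m hm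
        rw [hε _ (F.cl_M1 hm), hε _ (F.cl_M1 (hcn m hm))] at h2
        exact congrArg Subtype.val (b.injective h2)) hm
      exact mul_inv_eq_iff_eq_mul.1 h1
    full := by
      intro i j hij
      -- `q₀ = b⁻¹ eᵢ`, `χ = j`-th coordinate
      have hq0 : (b.symm (Pi.single i 1) : F.W1) ≠ 0 := by
        intro h
        rw [LinearEquiv.map_eq_zero_iff] at h
        have h1 := congrFun h i
        rw [Pi.single_eq_same] at h1
        exact one_ne h1
      let χ0 : F.W1 →ₗ[ZMod 2] ZMod 2 := (LinearMap.proj j).comp b.toLinearMap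
      obtain ⟨χ, hχ⟩ := LinearMap.exists_extend χ0
      have hχv : ∀ m : F.W1, χ (m : q.dat.Q) = b m j := fun m =>
        congrArg (fun f : F.W1 →ₗ[ZMod 2] ZMod 2 => f m) hχ
      obtain ⟨x, hx, a, ha, h1⟩ := F.full hB (q := (b.symm (Pi.single i 1) : F.W1)) (SetLike.coe_mem _)
        (fun h => hq0 (Subtype.ext h)) χ (by
          rw [hχv, LinearEquiv.apply_symm_apply, Pi.single_eq_of_ne hij.symm])
        ⟨(b.symm (Pi.single j 1) : F.W1), SetLike.coe_mem _, by
          rw [hχv, LinearEquiv.apply_symm_apply, Pi.single_eq_same]⟩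
      have hxC1 : (x : G) ∈ Nat.SixIn.C₁ z M := by
        refine ⟨?_, ?_⟩
        · have := x.2
          rw [← q.C_eq]
          exact this
        · exact hnorm (ncl C V) hJM hx
      refine ⟨(x : G) * a * (x : G)⁻¹, subset_closure ⟨x, hxC1, a, ha, rfl⟩, fun m hm => ?_⟩
      have hg : (x : G) * a * (x : G)⁻¹ ∈ ncl C V := mul_mem (mul_mem hx (le_ncl C V ha)) (inv_mem hx)
      have h2 := h1 m hm
      rw [hε _ (F.cl_M1 hm), hε _ (F.cl_M1 (hJM _ hg m hm))]
      have h3 : (⟨q.dat.p ((x : G) * a * (x : G)⁻¹ * m * ((x : G) * a * (x : G)⁻¹)⁻¹),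
          F.cl_M1 (hJM _ hg m hm)⟩ : F.W1) =
          ⟨q.dat.p m, F.cl_M1 hm⟩ + (b ⟨q.dat.p m, F.cl_M1 hm⟩ j) • b.symm (Pi.single i 1) := by
        apply Subtype.ext
        rw [Submodule.coe_add, Submodule.coe_smul]
        rw [← hχv]
        exact h2
      rw [h3, map_add, map_smul, LinearEquiv.apply_symm_apply]
      congr 1
      ext k
      rw [Pi.smul_apply, smul_eq_mul]
      by_cases hk : k = i
      · subst hk
        rw [Pi.single_eq_same, Pi.single_eq_same, mul_one]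
      · rw [Pi.single_eq_of_ne hk, Pi.single_eq_of_ne hk, mul_zero] }

end Cfsg.Agent.Omega.NO1.NatA.Quad
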