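import Cfsg.Agent.Omega.NO1.Nat.A3

/-!
# THEOREM NAT (#13408): the statement `NatOne` from `Quad → False`

`QuadFalse` : (4)-(7) of #13408.  `ty_of` : `Cfg S P`, `V_P` one natural `SL₂(F)`-module ⟹ `Ty S P` (type `Nat4`).
-/

set_option autoImplicit false

namespace Cfsg.Agent.Omega.NO1.NatA

open Subgroup Cfsg Cfsg.Agent.ZN Cfsg.Agent.Omega.MinPar Cfsg.Agent.Omega.Frame
open Cfsg.Agent.Omega.FFThm (NatK)
open Cfsg.Agent.Omega.FrameFF (cv)

universe u

/-- (4)-(7) of THEOREM NAT: the quadratic case is impossible. -/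
def QuadFalse : Prop :=
  ∀ (G : Type u) [Group G] [Finite G] (S : Sylow 2 G) (P : Subgroup G) (z : G) (V V₁ C Q : Subgroup G),
    Quad S P z V V₁ C Q → False

theorem ty_of (hQ : QuadFalse.{u}) {G : Type u} [Group G] [Finite G] {S : Sylow 2 G} {P : Subgroup G}
    (h : Cfg S P) {F : Type} [Field F] [Finite F] [CharP F 2]
    (N : NatK F (S : Subgroup G) P (zl (S : Subgroup G) P) (cv (S : Subgroup G) P) 1) :
    Ty (S : Subgroup G) P := by
  have hcv : cv (S : Subgroup G) P = ⊥ := h.one.cen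
  rw [hcv] at N
  rcases exists_quad h N with h1 | ⟨z, V, V₁, C, Q, h1⟩
  · exact .nat4 h1
  · exact (hQ G S P z V V₁ C Q h1).elim

end Cfsg.Agent.Omega.NO1.NatA
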