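import Cfsg.Agent.Omega.NO1.Nat.SevenB
import Cfsg.Agent.Omega.NOne.LemmaT

/-!
# THEOREM NAT (#13408), step (7)

* `Q_le_M` : `Q₁ = M`;
* `SixIn.false` : the configuration `SixIn` is impossible if `G` has sectional 2-rank at least 5.
-/

set_option autoImplicit false
set_option linter.unusedSectionVars false

namespace Cfsg.Agent.Omega.NO1.Nat.Seven

open Subgroup Cfsg Cfsg.Agent.ZN Cfsg.Agent.Omega.MinPar
open Cfsg.Agent.Omega.NO1.Nat.SixIn (SixIn C₁ J₁)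
open Cfsg.Agent.Omega.NO1.Nat.SixA Cfsg.Agent.Omega.NO1.Nat.SixB Cfsg.Agent.Omega.NO1.Nat.SixC
open Cfsg.Agent.Omega.NO1.Nat.SevenA Cfsg.Agent.Omega.NO1.Nat.SevenB

universe u

variable {G : Type u} [Group G] [Finite G] {S : Sylow 2 G} {z : G} {V V₁ M : Subgroup G}
  {e : G → Fin 3 → ZMod 2} (h : SixIn S z V V₁ M e)
include h

/-- an element of `Q₁ - M` which is central of order 2 in `S/M` -/
theorem exists_x (hQM : ¬ o2 (centralizer (M : Set G)) ≤ M) :
    ∃ x ∈ o2 (centralizer (M : Set G)), x ∉ M ∧ x * x ∈ M ∧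
      ∀ s ∈ (S : Subgroup G), s * x * s⁻¹ * x⁻¹ ∈ M := by
  have hp : Fact (Nat.Prime 2) := ⟨Nat.prime_two⟩
  set Q := o2 (centralizer (M : Set G)) with hQ
  have hMn : (M.subgroupOf (S : Subgroup G)).Normal :=
    (normal_subgroupOf_iff_le_normalizer (M_le_S h)).2 h.S_M
  have hQn : (Q.subgroupOf (S : Subgroup G)).Normal :=
    (normal_subgroupOf_iff_le_normalizer (Q_le_S h)).2 ((S_le_C₁ h).trans (C₁_norm_Q h))
  let p := QuotientGroup.mk' (M.subgroupOf (S : Subgroup G))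
  have hp1 : Function.Surjective p := QuotientGroup.mk'_surjective _
  have hpk : ∀ y : (S : Subgroup G), p y = 1 → (y : G) ∈ M := fun y hy => (QuotientGroup.eq_one_iff y).1 hy
  have hN : ((Q.subgroupOf (S : Subgroup G)).map p).Normal := hQn.map p hp1
  have hne : (Q.subgroupOf (S : Subgroup G)).map p ≠ ⊥ := by
    intro h0
    apply hQM
    intro x hx
    have hxS := Q_le_S h hx
    have h1 : p ⟨x, hxS⟩ ∈ (Q.subgroupOf (S : Subgroup G)).map p := ⟨⟨x, hxS⟩, hx, rfl⟩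
    rw [h0, mem_bot] at h1
    exact hpk _ h1
  have hSp : IsPGroup 2 ((S : Subgroup G) ⧸ M.subgroupOf (S : Subgroup G)) :=
    S.isPGroup'.of_surjective p hp1
  obtain ⟨y, hy, hyc, hyo⟩ := Involutions.NormalFour.exists_mem_center_of_normal hSp _ hne
  obtain ⟨⟨x, hxS⟩, hx, rfl⟩ := hy
  refine ⟨x, hx, ?_, ?_, ?_⟩
  · intro hxM
    have h1 : p ⟨x, hxS⟩ = 1 := (QuotientGroup.eq_one_iff _).2 hxM
    rw [h1, orderOf_one] at hyo
    omega
  · have h1 := pow_orderOf_eq_one (p ⟨x, hxS⟩)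
    rw [hyo, ← map_pow] at h1
    have h2 := hpk _ h1
    rw [pow_two] at h2
    exact h2
  · intro s hs
    have h1 := (mem_center_iff.1 hyc) (p ⟨s, hs⟩)
    have h2 : p (⟨s, hs⟩ * ⟨x, hxS⟩ * ⟨s, hs⟩⁻¹ * ⟨x, hxS⟩⁻¹) = 1 := by
      rw [map_mul, map_mul, map_mul, map_inv, map_inv, h1]
      group
    exact hpk _ h2

theorem Q_le_M : o2 (centralizer (M : Set G)) ≤ M := by
  by_contra hQM
  obtain ⟨x, hx, hxM, hx2, hxS⟩ := exists_x h hQM
  set Q := o2 (centralizer (M : Set G)) with hQ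
  have hMQ : ∀ m ∈ M, ∀ q ∈ Q, q * m = m * q := fun m hm q hq => ((mem_Q h).1 hq).2 m hm
  -- `J_N` acts on `Q/M` trivially
  have hJq : ∀ j ∈ JN V M, ∀ q ∈ Q, ∃ m ∈ M, j * q * j⁻¹ = q * m := by
    intro j hj q hq
    have h1 := inv_mem (comm_Q h j hj q hq)
    refine ⟨_, h1, ?_⟩
    rw [hMQ _ h1 q hq]
    group
  have hQn : JN V M ≤ normalizer (Q : Set G) := (JN_le h).trans N_norm_Q
  -- `x² = 1`
  have hxx : x * x = 1 := by
    apply fix_JN h hx2
    intro j hj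
    obtain ⟨m, hm, hjx⟩ := hJq j hj x hx
    have h1 : j * (x * x) * j⁻¹ = x * x := by
      calc j * (x * x) * j⁻¹ = (j * x * j⁻¹) * (j * x * j⁻¹) := by group
        _ = x * m * (x * m) := by rw [hjx]
        _ = x * (m * x) * m := by group
        _ = x * (x * m) * m := by rw [hMQ m hm x hx]
        _ = x * x * (m * m) := by group
        _ = x * x := by rw [h.M_sq m hm, mul_one]
    exact mul_inv_eq_iff_eq_mul.1 h1
  -- `x ∈ Z(Q)`
  have hxQ : ∀ q ∈ Q, x * q = q * x := by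
    intro q hq
    have hc : q * x * q⁻¹ * x⁻¹ ∈ M := hxS q (Q_le_S h hq)
    have h1 : q * x * q⁻¹ * x⁻¹ = 1 := by
      apply fix_JN h hc
      intro j hj
      obtain ⟨m, hm, hjx⟩ := hJq j hj x hx
      obtain ⟨n, hn, hjq⟩ := hJq j hj q hq
      have h2 : j * (q * x * q⁻¹ * x⁻¹) * j⁻¹ = q * x * q⁻¹ * x⁻¹ := by
        calc j * (q * x * q⁻¹ * x⁻¹) * j⁻¹
            = (j * q * j⁻¹) * (j * x * j⁻¹) * (j * q * j⁻¹)⁻¹ * (j * x * j⁻¹)⁻¹ := by group
          _ = (q * n) * (x * m) * (q * n)⁻¹ * (x * m)⁻¹ := by rw [hjx, hjq]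
          _ = q * (n * x) * (m * n⁻¹) * q⁻¹ * m⁻¹ * x⁻¹ := by group
          _ = q * (x * n) * (n⁻¹ * m) * q⁻¹ * m⁻¹ * x⁻¹ := by
            rw [hMQ n hn x hx, h.M_comm m hm _ (inv_mem hn)]
          _ = q * x * (m * q⁻¹) * m⁻¹ * x⁻¹ := by group
          _ = q * x * (q⁻¹ * m) * m⁻¹ * x⁻¹ := by rw [hMQ m hm _ (inv_mem hq)]
          _ = _ := by group
      exact mul_inv_eq_iff_eq_mul.1 h2
    calc x * q = (q * x * q⁻¹ * x⁻¹)⁻¹ * (q * x) := by group
      _ = q * x := by rw [h1]; group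
  -- the coset `X = xM`
  set X : Set G := {y | x⁻¹ * y ∈ M} with hX
  have hXQ : ∀ y ∈ X, y ∈ Q := fun y hy => by
    have := mul_mem hx (M_le_Q h hy)
    rwa [mul_inv_cancel_left] at this
  have hXc : ∀ y ∈ X, ∀ q ∈ Q, y * q = q * y := by
    intro y hy q hq
    have h1 := hMQ _ hy q hq
    calc y * q = x * (x⁻¹ * y * q) := by group
      _ = x * (q * (x⁻¹ * y)) := by rw [h1]
      _ = (x * q) * (x⁻¹ * y) := by group
      _ = (q * x) * (x⁻¹ * y) := by rw [hxQ q hq]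
      _ = q * y := by group
  have hXcard : X.ncard = 16 := by
    have h1 : X = (fun m => x * m) '' (M : Set G) := by
      ext y
      constructor
      · intro hy
        exact ⟨x⁻¹ * y, hy, by simp⟩
      · rintro ⟨m, hm, rfl⟩
        change x⁻¹ * (x * m) ∈ M
        rwa [inv_mul_cancel_left]
    rw [h1, Set.ncard_image_of_injective _ (mul_right_injective x)]
    rw [← h.M_card]; rfl
  have hXJ : ∀ j ∈ JN V M, ∀ y ∈ X, j * y * j⁻¹ ∈ X := by
    intro j hj y hy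
    obtain ⟨m, hm, hjx⟩ := hJq j hj x hx
    have h1 := conj_mem (JN_le h hj) hy
    have h2 : x⁻¹ * (j * y * j⁻¹) = m * (j * (x⁻¹ * y) * j⁻¹) := by
      calc x⁻¹ * (j * y * j⁻¹) = x⁻¹ * (j * x * j⁻¹) * (j * (x⁻¹ * y) * j⁻¹) := by group
        _ = m * (j * (x⁻¹ * y) * j⁻¹) := by rw [hjx]; group
    change x⁻¹ * (j * y * j⁻¹) ∈ M
    rw [h2]
    exact mul_mem hm h1
  have hXS : ∀ s ∈ (S : Subgroup G), ∀ y ∈ X, s * y * s⁻¹ ∈ X := by
    intro s hs y hy
    have h1 := conj_mem (h.S_M hs) hy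
    have h2 := conj_mem' (h.S_M (Q_le_S h hx)) (hxS s hs)
    have h3 := mul_mem h2 h1
    change x⁻¹ * (s * y * s⁻¹) ∈ M
    rwa [show x⁻¹ * (s * x * s⁻¹ * x⁻¹) * x * (s * (x⁻¹ * y) * s⁻¹) = x⁻¹ * (s * y * s⁻¹) by
      group] at h3
  -- number of fixed points
  have hfixX : ∀ f y₀ : G, y₀ ∈ X → f * y₀ = y₀ * f →
      {y ∈ X | f * y = y * f}.ncard = Nat.card ↥(M ⊓ centralizer ({f} : Set G)) := by
    intro f y₀ hy₀ hfy
    have h1 : {y ∈ X | f * y = y * f} =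
        (fun m => y₀ * m) '' ((M ⊓ centralizer ({f} : Set G) : Subgroup G) : Set G) := by
      ext y
      constructor
      · rintro ⟨hy, hy'⟩
        refine ⟨y₀⁻¹ * y, mem_inf.2 ⟨?_, ?_⟩, by simp⟩
        · have := mul_mem (inv_mem (show x⁻¹ * y₀ ∈ M from hy₀)) (show x⁻¹ * y ∈ M from hy)
          rwa [show (x⁻¹ * y₀)⁻¹ * (x⁻¹ * y) = y₀⁻¹ * y by group] at this
        · rw [mem_centralizer_singleton_iff]
          have h2 : y₀⁻¹ * f = f * y₀⁻¹ := by
            calc y₀⁻¹ * f = y₀⁻¹ * (f * y₀) * y₀⁻¹ := by group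
              _ = y₀⁻¹ * (y₀ * f) * y₀⁻¹ := by rw [hfy]
              _ = f * y₀⁻¹ := by group
          rw [mul_assoc, ← hy', ← mul_assoc, h2, mul_assoc]
      · rintro ⟨m, hm, rfl⟩
        obtain ⟨hm1, hm2⟩ := mem_inf.1 hm
        rw [mem_centralizer_singleton_iff] at hm2
        refine ⟨?_, ?_⟩
        · change x⁻¹ * (y₀ * m) ∈ M
          rw [← mul_assoc]
          exact mul_mem hy₀ hm1
        · dsimp only
          rw [← mul_assoc, hfy, mul_assoc, ← hm2, mul_assoc]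
    rw [h1, Set.ncard_image_of_injective _ (mul_right_injective y₀)]
    rfl
  -- the 5-element
  have hp5 : Fact (Nat.Prime 5) := ⟨by norm_num⟩
  have hp7 : Fact (Nat.Prime 7) := ⟨by norm_num⟩
  obtain ⟨f, hf, ⟨kf, hkf⟩, hfD⟩ := exists_five h
  obtain ⟨g, hg, ⟨kg, hkg⟩, hgD⟩ := exists_seven h
  have hcf : Nat.card ↥(M ⊓ centralizer ({f} : Set G)) = 1 := by
    obtain ⟨h1, j, hj, hj'⟩ := card_fix h hkf (JN_le h hf) hfD
    rw [hj'] at h1 ⊢
    unfold Nat.ModEq at h1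
    interval_cases j <;> first | (exfalso; revert h1; decide) | norm_num
  have hcg : Nat.card ↥(M ⊓ centralizer ({g} : Set G)) = 2 := by
    obtain ⟨h1, j, hj, hj'⟩ := card_fix h hkg (JN_le h hg) hgD
    rw [hj'] at h1 ⊢
    unfold Nat.ModEq at h1
    interval_cases j <;> first | (exfalso; revert h1; decide) | norm_num
  have h5 := fixmod hkf X fun y hy => hXJ f hf y hy
  obtain ⟨y₀, hy₀, hfy⟩ : {y ∈ X | f * y = y * f}.Nonempty := by
    rw [← Set.ncard_pos (Set.toFinite _)]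
    rw [hXcard] at h5
    unfold Nat.ModEq at h5
    omega
  have hy₀Q := hXQ y₀ hy₀
  -- the orbit of `y₀`
  set O : Set G := {y | ∃ j ∈ JN V M, j * y₀ * j⁻¹ = y} with hO
  have hOX : O ⊆ X := by
    rintro _ ⟨j, hj, rfl⟩
    exact hXJ j hj y₀ hy₀
  have hOJ : ∀ j ∈ JN V M, ∀ y ∈ O, j * y * j⁻¹ ∈ O := by
    rintro j hj _ ⟨k, hk, rfl⟩
    exact ⟨j * k, mul_mem hj hk, by group⟩
  have hOcard : O.ncard ≤ 16 := by
    rw [← hXcard]
    exact Set.ncard_le_ncard hOX (Set.toFinite _)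
  have hO5 := fixmod hkf O fun y hy => hOJ f hf y hy
  have hO5' : {y ∈ O | f * y = y * f}.ncard = 1 := by
    apply le_antisymm
    · rw [← hcf, ← hfixX f y₀ hy₀ hfy]
      exact Set.ncard_le_ncard (fun y hy => ⟨hOX hy.1, hy.2⟩) (Set.toFinite _)
    · rw [Nat.one_le_iff_ne_zero, ← Nat.pos_iff_ne_zero, Set.ncard_pos (Set.toFinite _)]
      exact ⟨y₀, ⟨1, one_mem _, by group⟩, hfy⟩
  have hO7 := fixmod hkg O fun y hy => hOJ g hg y hy
  have hO7' : {y ∈ O | g * y = y * g}.ncard ≤ 2 := by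
    rcases Set.eq_empty_or_nonempty {y ∈ O | g * y = y * g} with h1 | ⟨y₁, hy₁, hgy⟩
    · rw [h1, Set.ncard_empty]; omega
    · rw [← hcg, ← hfixX g y₁ (hOX hy₁) hgy]
      exact Set.ncard_le_ncard (fun y hy => ⟨hOX hy.1, hy.2⟩) (Set.toFinite _)
  -- `|O| ≠ 16`
  have hO16 : O.ncard ≠ 16 := by
    intro h16
    rw [hO, ← orb] at h16
    have h1 : 16 ∣ Q.relIndex (JN V M) := by
      rw [← h16]
      refine relIndex_dvd_of_le_left _ fun q hq => ?_
      rw [mem_centralizer_singleton_iff]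
      exact (hXc y₀ hy₀ q hq).symm
    have h2 : ¬ 2 ∣ Q.relIndex (JN V M ⊓ centralizer (M : Set G)) := by
      intro hdvd
      have hp2 : Fact (Nat.Prime 2) := ⟨Nat.prime_two⟩
      obtain ⟨b, hb, hbQ, k, hk⟩ := exists_pel hdvd
      obtain ⟨hb1, hb2⟩ := mem_inf.1 hb
      exact hbQ (mem_Q_of_two h hb1 hb2 hk)
    have h3 : (centralizer (M : Set G)).relIndex (JN V M) ∣ 2520 := by
      rw [← relIndex_DN h]
      exact relIndex_dvd_of_norm (JN_le h) N_norm_JN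
    have h4 : Q.relIndex (JN V M) = Q.relIndex (JN V M ⊓ centralizer (M : Set G)) *
        (centralizer (M : Set G)).relIndex (JN V M) := by
      have h5 : (Q ⊓ JN V M) ≤ JN V M ⊓ centralizer (M : Set G) :=
        le_inf inf_le_right (inf_le_left.trans (ZN.o2_le _))
      have h6 := relIndex_mul_relIndex (Q ⊓ JN V M) (JN V M ⊓ centralizer (M : Set G)) (JN V M) h5
        inf_le_left
      rw [inf_relIndex_right, inf_relIndex_left] at h6
      rw [← h6]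
      congr 1
      have h7 : Q ⊓ JN V M = Q ⊓ (JN V M ⊓ centralizer (M : Set G)) := by
        apply le_antisymm
        · exact le_inf inf_le_left h5
        · exact le_inf inf_le_left (inf_le_right.trans inf_le_left)
      rw [h7, inf_relIndex_right]
    rw [h4] at h1
    have h5 : Nat.Coprime 16 (Q.relIndex (JN V M ⊓ centralizer (M : Set G))) := by
      rw [show 16 = 2 ^ 4 by norm_num]
      exact Nat.Coprime.pow_left 4 ((Nat.Prime.coprime_iff_not_dvd Nat.prime_two).2 h2)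
    have h6 := (h5.dvd_of_dvd_mul_left h1).trans h3
    omega
  have hO1 : O.ncard = 1 := by
    rw [hO5'] at hO5
    have key : ∀ a b : ℕ, a ≤ 16 → a ≠ 16 → a % 5 = 1 % 5 → a % 7 = b % 7 → b ≤ 2 → a = 1 := by
      intro a b h1 h2 h3 h4 h5
      clear * - h1 h2 h3 h4 h5
      interval_cases a <;> first | rfl | (exfalso; omega)
    exact key _ _ hOcard hO16 hO5 hO7 hO7'
  -- `y₀` is centralised by `J_N`
  have hy₀J : ∀ j ∈ JN V M, j * y₀ = y₀ * j := by
    intro j hj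
    obtain ⟨a, ha⟩ := Set.ncard_eq_one.1 hO1
    have h1 : y₀ ∈ O := ⟨1, one_mem _, by group⟩
    have h2 : j * y₀ * j⁻¹ ∈ O := ⟨j, hj, rfl⟩
    rw [ha, Set.mem_singleton_iff] at h1 h2
    rw [← h1] at h2
    exact mul_inv_eq_iff_eq_mul.1 h2
  -- and by `S`
  have hy₀S : ∀ s ∈ (S : Subgroup G), s * y₀ = y₀ * s := by
    intro s hs
    have h1 : x⁻¹ * (s * y₀ * s⁻¹) ∈ M := hXS s hs y₀ hy₀
    have h2 := mul_mem (inv_mem (show x⁻¹ * y₀ ∈ M from hy₀)) h1
    rw [show (x⁻¹ * y₀)⁻¹ * (x⁻¹ * (s * y₀ * s⁻¹)) = y₀⁻¹ * (s * y₀ * s⁻¹) by group] at h2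
    have h3 : y₀⁻¹ * (s * y₀ * s⁻¹) = 1 := by
      apply fix_JN h h2
      intro j hj
      have h4 := hy₀J j hj
      have h5 := hy₀J _ (conj_mem' (N_norm_JN (h.S_M hs)) hj)
      have h6 : j * (s * y₀ * s⁻¹) = s * y₀ * s⁻¹ * j := by
        calc j * (s * y₀ * s⁻¹) = s * (s⁻¹ * j * s * y₀) * s⁻¹ := by group
          _ = s * (y₀ * (s⁻¹ * j * s)) * s⁻¹ := by rw [h5]
          _ = _ := by group
      have h7 : j * y₀⁻¹ = y₀⁻¹ * j := by
        calc j * y₀⁻¹ = y₀⁻¹ * (y₀ * j) * y₀⁻¹ := by group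
          _ = y₀⁻¹ * (j * y₀) * y₀⁻¹ := by rw [h4]
          _ = _ := by group
      calc j * (y₀⁻¹ * (s * y₀ * s⁻¹)) = (j * y₀⁻¹) * (s * y₀ * s⁻¹) := by group
        _ = (y₀⁻¹ * j) * (s * y₀ * s⁻¹) := by rw [h7]
        _ = y₀⁻¹ * (j * (s * y₀ * s⁻¹)) := by group
        _ = y₀⁻¹ * (s * y₀ * s⁻¹ * j) := by rw [h6]
        _ = _ := by group
    have h4 : s * y₀ * s⁻¹ = y₀ := by
      have := inv_mul_eq_one.1 h3
      exact this.symm
    exact mul_inv_eq_iff_eq_mul.1 h4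
  have hy₀2 : y₀ * y₀ = 1 := by
    have h1 : x⁻¹ * y₀ * x = x * (x⁻¹ * y₀) := (hMQ _ hy₀ x hx).symm
    have h2 := h.M_sq _ hy₀
    calc y₀ * y₀ = x * (x⁻¹ * y₀) * (x * (x⁻¹ * y₀)) := by group
      _ = x * (x⁻¹ * y₀) * (x⁻¹ * y₀ * x) := by rw [h1]
      _ = x * (x⁻¹ * y₀ * (x⁻¹ * y₀)) * x := by group
      _ = 1 := by rw [h2, mul_one, hxx]
  apply hxM
  have hy₀M : y₀ ∈ M := by
    rcases mem_zc h (mem_zc_of h (Q_le_S h hy₀Q) hy₀2 hy₀S) with h1 | h1
    · rw [h1]; exact one_mem _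
    · rw [h1]; exact z_mem_M h
  have h1 := mul_mem hy₀M (inv_mem (show x⁻¹ * y₀ ∈ M from hy₀))
  rwa [show y₀ * (x⁻¹ * y₀)⁻¹ = x by group] at h1

/-- `C_G(M) = M` -/
theorem D_le_M : centralizer (M : Set G) ≤ M := by
  have hQ : o2 (centralizer (M : Set G)) = M := le_antisymm (Q_le_M h) (M_le_Q h)
  have hM1 : M ≠ ⊥ := by
    intro h0
    have := h.M_card
    rw [h0, Subgroup.card_bot] at this
    omega
  have h1 := NOne.LemmaT.char2_of_normal
    (MinSimple.Basic.char2_normalizer h.char2 (M_isPGroup h) hM1)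
    (centralizer_le_normalizer (M : Set G)) norm_cent
  rw [hQ] at h1
  exact (le_inf le_rfl le_rfl).trans h1

theorem relIndex_S : M.relIndex (S : Subgroup G) ≤ 8 := by
  have hD : centralizer (M : Set G) = M := le_antisymm (D_le_M h) (M_le_D h)
  have hp : Fact (Nat.Prime 2) := ⟨Nat.prime_two⟩
  have h1 := relIndex_mul_relIndex M (S : Subgroup G) (C₁ z M) (M_le_S h) (S_le_C₁ h)
  have h2 := relIndex_D h
  rw [hD] at h2
  rw [h2] at h1
  obtain ⟨n, hn⟩ := IsPGroup.iff_card.1 S.isPGroup'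
  have h3 : M.relIndex (S : Subgroup G) ∣ 2 ^ n := by
    rw [← hn]
    exact relIndex_dvd_card _ _
  obtain ⟨k, -, hk⟩ := (Nat.dvd_prime_pow Nat.prime_two).1 h3
  rw [hk] at h1 ⊢
  have h4 : k ≤ 3 := by
    by_contra hlt
    push Not at hlt
    have h5 : 16 ∣ 2 ^ k := by
      rw [show 16 = 2 ^ 4 by norm_num]
      exact pow_dvd_pow 2 hlt
    have h6 : 16 ∣ 168 := by
      rw [← h1]
      exact h5.mul_right _
    omega
  calc 2 ^ k ≤ 2 ^ 3 := Nat.pow_le_pow_right (by norm_num) h4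
    _ = 8 := by norm_num

/-- no transvections on `M` -/
theorem no_transv {s : G} (hs : s ∈ (S : Subgroup G)) (hsM : s ∉ M) :
    Nat.card ↥(M ⊓ centralizer ({s} : Set G)) ≤ 4 := by
  by_contra hlt
  push Not at hlt
  have hsN := h.S_M hs
  have h1 : 8 ≤ Nat.card ↥(M ⊓ centralizer ({s} : Set G)) := by
    have h4 : Nat.card ↥(M ⊓ centralizer ({s} : Set G)) ∣ 2 ^ 4 := by
      have := Subgroup.card_dvd_of_le (inf_le_left : M ⊓ centralizer ({s} : Set G) ≤ M)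
      rwa [h.M_card] at this
    obtain ⟨j, hj, hj'⟩ := (Nat.dvd_prime_pow Nat.prime_two).1 h4
    rw [hj'] at hlt ⊢
    interval_cases j <;> omega
  have hval : ∀ m ∈ M, s * m * s⁻¹ * m⁻¹ ∈ M := fun m hm => mul_mem (conj_mem hsN hm) (inv_mem hm)
  let f : M →* M :=
    { toFun := fun m => ⟨s * m * s⁻¹ * (m : G)⁻¹, hval m m.2⟩
      map_one' := by
        apply Subtype.ext; simp
      map_mul' := fun x y => by
        apply Subtype.ext
        have h2 := h.M_comm _ (hval y y.2) _ (inv_mem x.2)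
        change s * (x * y) * s⁻¹ * ((x : G) * y)⁻¹ =
          (s * x * s⁻¹ * (x : G)⁻¹) * (s * y * s⁻¹ * (y : G)⁻¹)
        calc s * (x * y) * s⁻¹ * ((x : G) * y)⁻¹
            = s * x * s⁻¹ * (s * y * s⁻¹ * (y : G)⁻¹ * (x : G)⁻¹) := by group
          _ = s * x * s⁻¹ * ((x : G)⁻¹ * (s * y * s⁻¹ * (y : G)⁻¹)) := by rw [h2]
          _ = _ := by group }
  have hk : 8 ≤ Nat.card f.ker := by
    have h3 : M ⊓ centralizer ({s} : Set G) ≤ f.ker.map M.subtype := by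
      intro m hm
      obtain ⟨hm1, hm2⟩ := mem_inf.1 hm
      rw [mem_centralizer_singleton_iff] at hm2
      refine ⟨⟨m, hm1⟩, MonoidHom.mem_ker.2 (Subtype.ext ?_), rfl⟩
      change s * m * s⁻¹ * m⁻¹ = 1
      rw [← hm2]; group
    have h4 := Subgroup.card_le_of_le h3
    rw [Subgroup.card_map_of_injective M.subtype_injective] at h4
    exact h1.trans h4
  have h2 : Nat.card f.ker * Nat.card f.range = 16 := by
    rw [← h.M_card, ← Subgroup.index_ker f]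
    exact f.ker.card_mul_index
  have h3 : Nat.card f.range ≤ 2 := by
    by_contra h4
    push Not at h4
    have : 8 * 3 ≤ Nat.card f.ker * Nat.card f.range := Nat.mul_le_mul hk h4
    omega
  -- the centre of the transvection
  have hex : ∃ c ∈ M, c ≠ 1 ∧ ∀ m ∈ M, s * m * s⁻¹ * m⁻¹ = 1 ∨ s * m * s⁻¹ * m⁻¹ = c := by
    by_contra hcon
    push Not at hcon
    apply hsM
    apply D_le_M h
    refine cent_iff.2 fun m hm => ?_
    by_contra hne
    have hc1 : s * m * s⁻¹ * m⁻¹ ≠ 1 := fun h5 => hne (by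
      calc s * m = s * m * s⁻¹ * m⁻¹ * (m * s) := by group
        _ = m * s := by rw [h5, one_mul])
    obtain ⟨m', hm', h5, h6⟩ := hcon _ (hval m hm) hc1
    have h7 : ({1, ⟨_, hval m hm⟩, ⟨_, hval m' hm'⟩} : Set M) ⊆ f.range := by
      rintro y (rfl | rfl | rfl)
      · exact one_mem _
      · exact ⟨⟨m, hm⟩, rfl⟩
      · exact ⟨⟨m', hm'⟩, rfl⟩
    have h8 : ({1, ⟨_, hval m hm⟩, ⟨_, hval m' hm'⟩} : Set M).ncard = 3 := by
      have ha : (1 : M) ≠ ⟨_, hval m hm⟩ := fun h9 => hc1 (congrArg Subtype.val h9).symm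
      have hb : (1 : M) ≠ ⟨_, hval m' hm'⟩ := fun h9 => h5 (congrArg Subtype.val h9).symm
      have hc : (⟨_, hval m hm⟩ : M) ≠ ⟨_, hval m' hm'⟩ := fun h9 => h6 (congrArg Subtype.val h9).symm
      rw [Set.ncard_insert_of_notMem (by simp only [Set.mem_insert_iff, Set.mem_singleton_iff, not_or]; exact ⟨ha, hb⟩)
        (Set.toFinite _), Set.ncard_pair hc]
    have h9 := Set.ncard_le_ncard h7 (Set.toFinite _)
    rw [h8] at h9
    have h10 : (f.range : Set M).ncard = Nat.card f.range := rfl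
    omega
  obtain ⟨c, hc, hc1, hcs⟩ := hex
  obtain ⟨n, hn, hnc⟩ := N_tran h hc hc1
  have hs'N : n⁻¹ * s * n ∈ normalizer (M : Set G) := mul_mem (mul_mem (inv_mem hn) hsN) hn
  have hs' : ∀ m ∈ M, (n⁻¹ * s * n) * m * (n⁻¹ * s * n)⁻¹ * m⁻¹ = 1 ∨
      (n⁻¹ * s * n) * m * (n⁻¹ * s * n)⁻¹ * m⁻¹ = z := by
    intro m hm
    have h5 : (n⁻¹ * s * n) * m * (n⁻¹ * s * n)⁻¹ * m⁻¹ =
        n⁻¹ * (s * (n * m * n⁻¹) * s⁻¹ * (n * m * n⁻¹)⁻¹) * n := by group
    rcases hcs _ (conj_mem hn hm) with h6 | h6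
    · left; rw [h5, h6]; group
    · right; rw [h5, h6, ← hnc]; group
  have hs'C : n⁻¹ * s * n ∈ C₁ z M := by
    refine mem_inf.2 ⟨?_, hs'N⟩
    rw [mem_centralizer_singleton_iff]
    rcases hs' z (z_mem_M h) with h5 | h5
    · calc n⁻¹ * s * n * z = ((n⁻¹ * s * n) * z * (n⁻¹ * s * n)⁻¹ * z⁻¹) * (z * (n⁻¹ * s * n)) := by
            group
        _ = z * (n⁻¹ * s * n) := by rw [h5, one_mul]
    · exfalso
      have h6 : (n⁻¹ * s * n) * z * (n⁻¹ * s * n)⁻¹ = z * z := by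
        calc (n⁻¹ * s * n) * z * (n⁻¹ * s * n)⁻¹ = ((n⁻¹ * s * n) * z * (n⁻¹ * s * n)⁻¹ * z⁻¹) * z := by
              group
          _ = z * z := by rw [h5]
      rw [h.z_sq] at h6
      exact h.z_ne (conj_eq_one_iff.1 h6)
  have h5 := h.faith _ hs'C (fun m hm => by
    have h6 := conj_mem hs'N hm
    rcases hs' m hm with h7 | h7
    · congr 1
      exact mul_inv_eq_one.1 h7
    · rw [mul_inv_eq_iff_eq_mul.1 h7, h.e_mul z (z_mem_M h) m hm, h.e_z, zero_add])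
  apply hsM
  apply D_le_M h
  refine cent_iff.2 fun m hm => ?_
  have h6 := h5 _ (conj_mem' hn hm)
  calc s * m = n * (n⁻¹ * s * n * (n⁻¹ * m * n)) * n⁻¹ := by group
    _ = n * (n⁻¹ * m * n * (n⁻¹ * s * n)) * n⁻¹ := by rw [h6]
    _ = m * s := by group

/-- `S/M` is not elementary abelian -/
theorem exists_sq : ∃ s ∈ (S : Subgroup G), s * s ∉ M := by
  let A : Matrix (Fin 3) (Fin 3) (ZMod 2) := !![1, 1, 0; 0, 1, 1; 0, 0, 1]
  have hA4 : A * A * A * A = 1 := by decide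
  have hA2 : A * A ≠ 1 := by decide
  have hdet : A.det ≠ 0 := by
    intro h0
    have h1 := congrArg Matrix.det hA4
    rw [Matrix.det_mul, h0, mul_zero, Matrix.det_one] at h1
    exact zero_ne_one h1
  obtain ⟨g, hg, hg'⟩ := full_mat h A hdet
  set gc : C₁ z M := ⟨g, J_le_C₁ h hg⟩ with hgc
  have ha : (act h gc).1 = A := mat_ext h fun m hm => by
    rw [act_apply h gc hm]; exact hg' m hm
  have ha4 : act h gc ^ 4 = 1 := Units.ext (by
    rw [Units.val_pow_eq_pow_val, ha]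
    calc A ^ 4 = A * A * A * A := by rw [pow_succ, pow_succ, pow_two]
      _ = 1 := hA4)
  have ha2 : act h gc ^ 2 ≠ 1 := fun h0 => hA2 (by
    have h1 := congrArg Units.val h0
    rw [Units.val_pow_eq_pow_val, ha, pow_two] at h1
    exact h1)
  obtain ⟨a, b, hb, hab⟩ := Nat.exists_eq_two_pow_mul_odd (orderOf_pos gc).ne'
  have h1 : (gc ^ b) ^ 2 ^ a = 1 := by
    rw [← pow_mul, mul_comm, ← hab, pow_orderOf_eq_one]
  have h2 : act h (gc ^ b * gc ^ b) ≠ 1 := by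
    rw [← pow_add, map_pow]
    obtain ⟨k, rfl⟩ := hb
    rw [show 2 * k + 1 + (2 * k + 1) = 4 * k + 2 by ring, pow_add, pow_mul, ha4, one_pow, one_mul]
    exact ha2
  have h3 : g ^ b * g ^ b ∉ M := by
    intro h4
    apply h2
    rw [← MonoidHom.mem_ker, ker_act h, mem_subgroupOf]
    exact M_le_D h h4
  have hp : Fact (Nat.Prime 2) := ⟨Nat.prime_two⟩
  obtain ⟨x, hx, hxS⟩ := exists_conj_mem (p := 2) S (S_le_C₁ h) (c := g ^ b) (pow_mem gc.2 b) (k := a)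
    (congrArg Subtype.val h1)
  refine ⟨_, hxS, fun h4 => h3 ?_⟩
  have h5 := conj_mem' hx.2 h4
  rwa [show x⁻¹ * (x * g ^ b * x⁻¹ * (x * g ^ b * x⁻¹)) * x = g ^ b * g ^ b by group] at h5

/-- **Steps (6), (7) of THEOREM NAT**: the configuration `SixIn` is impossible if `G` has sectional 2-rank at
least 5. -/
theorem false (hr : ¬ SectionalPRankLE 2 4 G) : False :=
  hr (rank_of S h.M_card h.S_M h.M_comm (relIndex_S h) (M_le_S h) (fun _ hs hsM => no_transv h hs hsM)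
    (exists_sq h))

end Cfsg.Agent.Omega.NO1.Nat.Seven
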