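import Cfsg.Agent.Omega.NO1.Nat.SevenA
import Cfsg.Agent.Involutions.NormalFour

/-!
# THEOREM NAT (#13408), step (7): `Q₁ = M`

`N = N_G(M)` is transitive on `M^#`, `J_N = ⟨V^N⟩`; a counting argument for the action of `J_N` on a coset of `M`
in `Q₁` gives `Q₁ = M`.
-/

set_option autoImplicit false
set_option linter.unusedSectionVars false

namespace Cfsg.Agent.Omega.NO1.Nat.SevenB

open Subgroup Cfsg Cfsg.Agent.ZN Cfsg.Agent.Omega.MinPar
open Cfsg.Agent.Omega.NO1.Nat.SixIn (SixIn C₁ J₁)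
open Cfsg.Agent.Omega.NO1.Nat.SixA Cfsg.Agent.Omega.NO1.Nat.SixB Cfsg.Agent.Omega.NO1.Nat.SixC
open Cfsg.Agent.Omega.NO1.Nat.SevenA

universe u

variable {G : Type u} [Group G] [Finite G] {S : Sylow 2 G} {z : G} {V V₁ M : Subgroup G}
  {e : G → Fin 3 → ZMod 2}

/-- `J_N = ⟨V^N⟩`, `N = N_G(M)` -/
def JN (V M : Subgroup G) : Subgroup G :=
  closure {x | ∃ n ∈ normalizer (M : Set G), ∃ v ∈ V, x = n * v * n⁻¹}

section

variable (h : SixIn S z V V₁ M e)
include h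

theorem mem_zc {x : G} (hx : x ∈ zc (S : Subgroup G)) : x = 1 ∨ x = z := by
  rw [h.zc_eq] at hx
  obtain ⟨k, rfl⟩ := mem_zpowers_iff.1 hx
  rcases Int.even_or_odd k with hk | hk
  · left
    obtain ⟨j, rfl⟩ := hk
    rw [← two_mul, zpow_mul, zpow_ofNat, pow_two, h.z_sq, one_zpow]
  · right
    obtain ⟨j, rfl⟩ := hk
    rw [zpow_add, zpow_mul, zpow_ofNat, pow_two, h.z_sq, one_zpow, one_mul, zpow_one]

theorem mem_zc_of {x : G} (hx : x ∈ (S : Subgroup G)) (hx2 : x * x = 1)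
    (hc : ∀ s ∈ (S : Subgroup G), s * x = x * s) : x ∈ zc (S : Subgroup G) :=
  subset_closure ⟨mem_inf.2 ⟨hx, cent_iff.2 fun s hs => (hc s hs).symm⟩, by
    rw [pow_two]; exact hx2⟩

theorem V_le_S : V ≤ (S : Subgroup G) := le_of_le_normalizer S (V_isPGroup h) h.S_V

theorem M_le_S : M ≤ (S : Subgroup G) := le_of_le_normalizer S (M_isPGroup h) h.S_M

theorem Q_le_S : o2 (centralizer (M : Set G)) ≤ (S : Subgroup G) :=
  le_of_le_normalizer S (ZN.isPGroup_o2 _) ((S_le_C₁ h).trans (C₁_norm_Q h))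

/-- `S` moves `V₁/⟨z⟩` -/
theorem S_moves {w : G} (hw : w ∈ V₁) (h1 : w ≠ 1) (h2 : w ≠ z) :
    ∃ s ∈ (S : Subgroup G), s * w * s⁻¹ = w * z := by
  by_contra hcon
  push Not at hcon
  have h3 : ∀ s ∈ (S : Subgroup G), s * w = w * s := by
    intro s hs
    rcases V₁_cases h hw h1 h2 (conj_mem (h.S_V₁ hs) hw) with h4 | h4 | h4 | h4
    · exact absurd (conj_eq_one_iff.1 h4) h1
    · exfalso
      apply h2
      have h5 := mem_centralizer_singleton_iff.1 (S_le_z h hs)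
      calc w = s⁻¹ * (s * w * s⁻¹) * s := by group
        _ = s⁻¹ * (z * s) := by rw [h4]; group
        _ = s⁻¹ * (s * z) := by rw [h5]
        _ = z := by group
    · exact mul_inv_eq_iff_eq_mul.1 h4
    · exact absurd h4 (hcon s hs)
  rcases mem_zc h (mem_zc_of h (V_le_S h (h.V₁_le hw)) (h.V_sq w (h.V₁_le hw)) h3) with h4 | h4
  · exact h1 h4
  · exact h2 h4

/-! ### `J_N` -/

theorem V_le_N : V ≤ normalizer (M : Set G) := fun _ hv => (V_le_C₁ h hv).2

theorem JN_le : JN V M ≤ normalizer (M : Set G) := by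
  rw [JN, closure_le]
  rintro _ ⟨n, hn, v, hv, rfl⟩
  exact mul_mem (mul_mem hn (V_le_N h hv)) (inv_mem hn)

omit h [Finite G] in
theorem N_norm_JN : normalizer (M : Set G) ≤ normalizer (JN V M : Set G) := by
  refine le_normalizer_of fun g hg x hx => ?_
  have h1 : JN V M ≤ (JN V M).comap (MulAut.conj g).toMonoidHom := by
    conv_lhs => rw [JN]
    rw [closure_le]
    rintro _ ⟨n, hn, v, hv, rfl⟩
    change g * (n * v * n⁻¹) * g⁻¹ ∈ JN V M
    exact subset_closure ⟨g * n, mul_mem hg hn, v, hv, by group⟩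
  exact h1 hx

omit h [Finite G] in
theorem J₁_le_JN : J₁ z V M ≤ JN V M := by
  rw [J₁, closure_le]
  rintro _ ⟨c, hc, v, hv, rfl⟩
  exact subset_closure ⟨c, hc.2, v, hv, rfl⟩

omit h [Finite G] in
theorem V_le_JN : V ≤ JN V M := fun v hv => subset_closure ⟨1, one_mem _, v, hv, by group⟩

omit h [Finite G] in
theorem N_norm_D : normalizer (M : Set G) ≤ normalizer (centralizer (M : Set G) : Set G) := norm_cent

omit h in
theorem N_norm_Q : normalizer (M : Set G) ≤ normalizer (o2 (centralizer (M : Set G)) : Set G) :=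
  fun _ hg => ZN.normalizer_le_normalizer_o2 _ (norm_cent hg)

/-- `[D₁,J_N] ≤ Q₁` -/
theorem comm_D : ∀ j ∈ JN V M, ∀ d ∈ centralizer (M : Set G),
    d * j * d⁻¹ * j⁻¹ ∈ o2 (centralizer (M : Set G)) := by
  refine comm_closure ?_ ?_
  · rintro _ ⟨n, hn, v, hv, rfl⟩
    exact N_norm_Q (mul_mem (mul_mem hn (V_le_N h hv)) (inv_mem hn))
  · rintro _ ⟨n, hn, v, hv, rfl⟩ d hd
    have h1 := conj_mem' (N_norm_D hn) hd
    have h2 : n⁻¹ * d * n * v * (n⁻¹ * d * n)⁻¹ * v⁻¹ ∈ o2 (centralizer (M : Set G)) := by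
      rw [Q_eq h]
      refine mem_inf.2 ⟨?_, ?_⟩
      · exact mul_mem (conj_mem (ZN.le_normalizer_o2 _ (D_le_H h h1)) (h.V_le hv))
          (inv_mem (h.V_le hv))
      · have h3 := conj_mem (N_norm_D (V_le_N h hv)) (inv_mem h1)
        have h4 := mul_mem h1 h3
        rwa [show n⁻¹ * d * n * (v * (n⁻¹ * d * n)⁻¹ * v⁻¹) =
          n⁻¹ * d * n * v * (n⁻¹ * d * n)⁻¹ * v⁻¹ by group] at h4
    have h3 := conj_mem (N_norm_Q hn) h2
    rwa [show n * (n⁻¹ * d * n * v * (n⁻¹ * d * n)⁻¹ * v⁻¹) * n⁻¹ =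
      d * (n * v * n⁻¹) * d⁻¹ * (n * v * n⁻¹)⁻¹ by group] at h3

/-- `[Q₁,J_N] ≤ M` -/
theorem comm_Q : ∀ j ∈ JN V M, ∀ q ∈ o2 (centralizer (M : Set G)), q * j * q⁻¹ * j⁻¹ ∈ M := by
  refine comm_closure ?_ ?_
  · rintro _ ⟨n, hn, v, hv, rfl⟩
    exact mul_mem (mul_mem hn (V_le_N h hv)) (inv_mem hn)
  · rintro _ ⟨n, hn, v, hv, rfl⟩ q hq
    have h1 := conj_mem' (N_norm_Q hn) hq
    have h2 := inv_mem (h.quad v hv _ (mem_R_of_Q h h1))
    have h3 := conj_mem hn (h.V₁_le_M h2)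
    rwa [show n * (v * (n⁻¹ * q * n) * v⁻¹ * (n⁻¹ * q * n)⁻¹)⁻¹ * n⁻¹ =
      q * (n * v * n⁻¹) * q⁻¹ * (n * v * n⁻¹)⁻¹ by group] at h3

/-- `N` is transitive on `M^#` -/
theorem N_tran {m : G} (hm : m ∈ M) (hm1 : m ≠ 1) :
    ∃ n ∈ normalizer (M : Set G), n * z * n⁻¹ = m := by
  obtain ⟨t, htM, ht₁, htz⟩ := step6 h
  have hw : t * z * t⁻¹ ∈ V₁ := conj_mem ht₁ h.z_mem
  have hw1 : t * z * t⁻¹ ≠ 1 := fun h1 => h.z_ne (conj_eq_one_iff.1 h1)
  by_cases hem : e m = 0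
  · rcases h.e_ker m hm hem with h1 | h1
    · exact absurd h1 hm1
    · exact ⟨1, one_mem _, by rw [h1]; group⟩
  · obtain ⟨g, hg, hg'⟩ := tran h (h.V₁_le_M hw) (e_ne h (h.V₁_le_M hw) hw1 htz) hem
    have hgC := J_le_C₁ h hg
    rcases e_eq h (conj_mem hgC.2 (h.V₁_le_M hw)) hm hg' with h2 | h2
    · exact ⟨g * t, mul_mem hgC.2 htM, by rw [h2]; group⟩
    · obtain ⟨s, hs, hs'⟩ := S_moves h hw hw1 htz
      refine ⟨g * s * t, mul_mem (mul_mem hgC.2 (h.S_M hs)) htM, ?_⟩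
      have h3 := C₁_z h hgC
      calc g * s * t * z * (g * s * t)⁻¹ = g * (s * (t * z * t⁻¹) * s⁻¹) * g⁻¹ := by group
        _ = g * (t * z * t⁻¹ * z) * g⁻¹ := by rw [hs']
        _ = g * (t * z * t⁻¹) * g⁻¹ * (g * z * g⁻¹) := by group
        _ = m := by rw [h3, h2]

/-- `C_M(J_N) = 1` -/
theorem fix_JN {m : G} (hm : m ∈ M) (hc : ∀ j ∈ JN V M, j * m = m * j) : m = 1 := by
  by_contra hm1
  obtain ⟨n, hn, hnm⟩ := N_tran h hm hm1
  have h1 : ∀ m' ∈ M, ∀ j ∈ JN V M, j * m' = m' * j := by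
    intro m' hm' j hj
    by_cases h1 : m' = 1
    · rw [h1]; simp
    obtain ⟨n', hn', hnm'⟩ := N_tran h hm' h1
    have hk : n * n'⁻¹ ∈ normalizer (M : Set G) := mul_mem hn (inv_mem hn')
    have h2 := hc _ (conj_mem (N_norm_JN hk) hj)
    have h3 : (n * n'⁻¹)⁻¹ * m * (n * n'⁻¹) = m' := by rw [← hnm, ← hnm']; group
    calc j * m' = (n * n'⁻¹)⁻¹ * (n * n'⁻¹ * j * (n * n'⁻¹)⁻¹ * m) * (n * n'⁻¹) := by
          rw [← h3]; group
      _ = (n * n'⁻¹)⁻¹ * (m * (n * n'⁻¹ * j * (n * n'⁻¹)⁻¹)) * (n * n'⁻¹) := by rw [h2]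
      _ = m' * j := by rw [← h3]; group
  obtain ⟨v, hv, hv'⟩ := exists_V h
  obtain ⟨m₀, hm₀, hm₀'⟩ := exists_M h
  exact hm₀' (h.V_M v hv hv' m₀ hm₀ (h1 m₀ hm₀ v (V_le_JN hv)))

/-! ### indices -/

/-- `|N : C_N(z)| = 15` -/
theorem relIndex_z : (centralizer ({z} : Set G)).relIndex (normalizer (M : Set G)) = 15 := by
  rw [orb]
  have h1 : {y | ∃ x ∈ normalizer (M : Set G), x * z * x⁻¹ = y} = (M : Set G) \ {1} := by
    ext y
    constructor
    · rintro ⟨x, hx, rfl⟩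
      refine ⟨conj_mem hx (z_mem_M h), fun h2 => h.z_ne (conj_eq_one_iff.1 h2)⟩
    · rintro ⟨hy, hy1⟩
      exact N_tran h hy hy1
  rw [h1, Set.ncard_sdiff_singleton_of_mem (one_mem M)]
  have h2 : (M : Set G).ncard = 16 := by rw [← h.M_card]; rfl
  rw [h2]

/-- `|N : D₁| = 2520` -/
theorem relIndex_DN : (centralizer (M : Set G)).relIndex (normalizer (M : Set G)) = 2520 := by
  have h1 := relIndex_mul_relIndex (centralizer (M : Set G)) (C₁ z M) (normalizer (M : Set G))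
    (D_le_C₁ h) inf_le_right
  rw [relIndex_D h, C₁, inf_relIndex_right, relIndex_z h] at h1
  rw [← h1]

omit h [Finite G] in
/-- `|J : C ∩ J|` divides `|A : C|` for a normal subgroup `J` -/
theorem relIndex_dvd_of_normal {A : Type*} [Group A] [Finite A] (J C : Subgroup A) [J.Normal] :
    C.relIndex J ∣ C.index := by
  have h1 : Nat.card J * J.relIndex (J ⊔ C) = Nat.card ↥(J ⊔ C) := by
    have := relIndex_mul_relIndex ⊥ J (J ⊔ C) bot_le le_sup_left
    rwa [relIndex_bot_left, relIndex_bot_left] at this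
  have h2 : Nat.card ↥(J ⊓ C) * J.relIndex C = Nat.card C := by
    have := relIndex_mul_relIndex ⊥ (J ⊓ C) C bot_le inf_le_right
    rwa [relIndex_bot_left, relIndex_bot_left, inf_relIndex_right] at this
  have h3 : Nat.card ↥(J ⊓ C) * C.relIndex J = Nat.card J := by
    have := relIndex_mul_relIndex ⊥ (J ⊓ C) J bot_le inf_le_left
    rwa [relIndex_bot_left, relIndex_bot_left, inf_relIndex_left] at this
  have h4 : Nat.card C * C.relIndex (J ⊔ C) = Nat.card ↥(J ⊔ C) := by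
    have := relIndex_mul_relIndex ⊥ C (J ⊔ C) bot_le le_sup_right
    rwa [relIndex_bot_left, relIndex_bot_left] at this
  rw [relIndex_sup_left] at h1
  have h5 : Nat.card C * C.relIndex (J ⊔ C) = Nat.card C * C.relIndex J := by
    rw [h4, ← h1, ← h3]
    conv_rhs => rw [← h2]
    ring
  have h6 := Nat.eq_of_mul_eq_mul_left Nat.card_pos h5
  rw [← h6]
  exact relIndex_dvd_index_of_le le_sup_right

omit h [Finite G] in
theorem relIndex_dvd_of_norm [Finite G] {J C N : Subgroup G} (hJ : J ≤ N)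
    (hN : N ≤ normalizer (J : Set G)) : C.relIndex J ∣ C.relIndex N := by
  have h1 : (J.subgroupOf N).Normal := (normal_subgroupOf_iff_le_normalizer hJ).2 hN
  have h2 := relIndex_dvd_of_normal (J.subgroupOf N) (C.subgroupOf N)
  rwa [relIndex_subgroupOf hJ] at h2

omit h [Finite G] in
theorem card_vec_ne : {u : Vec | u ≠ 0}.ncard = 7 := by
  rw [Set.ncard_eq_toFinset_card']
  decide

/-- `|J_N : C(z)| = 15` -/
theorem relIndex_zJ : (centralizer ({z} : Set G)).relIndex (JN V M) = 15 := by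
  obtain ⟨t, htM, ht₁, htz⟩ := step6 h
  have hw : t * z * t⁻¹ ∈ V₁ := conj_mem ht₁ h.z_mem
  have hw1 : t * z * t⁻¹ ≠ 1 := fun h1 => h.z_ne (conj_eq_one_iff.1 h1)
  have h1 : (centralizer ({z} : Set G)).relIndex (JN V M) ∣ 15 := by
    rw [← relIndex_z h]
    exact relIndex_dvd_of_norm (JN_le h) N_norm_JN
  have h2 : 7 ≤ (centralizer ({z} : Set G)).relIndex (JN V M) := by
    rw [orb, ← card_vec_ne]
    have h3 : {u : Vec | u ≠ 0} ⊆
        (fun y => e (t * y * t⁻¹)) '' {y | ∃ x ∈ JN V M, x * z * x⁻¹ = y} := by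
      intro u hu
      obtain ⟨g, hg, hg'⟩ := tran h (h.V₁_le_M hw) (e_ne h (h.V₁_le_M hw) hw1 htz) hu
      refine ⟨t⁻¹ * g * t * z * (t⁻¹ * g * t)⁻¹, ⟨t⁻¹ * g * t,
        conj_mem' (N_norm_JN htM) (J₁_le_JN hg), rfl⟩, ?_⟩
      dsimp only
      rw [← hg']
      congr 1
      group
    exact (Set.ncard_le_ncard h3 (Set.toFinite _)).trans (Set.ncard_image_le (Set.toFinite _))
  obtain ⟨k, hk⟩ := h1
  have h3 : k < 3 := by
    by_contra h3
    have : 7 * 3 ≤ (centralizer ({z} : Set G)).relIndex (JN V M) * k := Nat.mul_le_mul h2 (by omega)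
    omega
  interval_cases k <;> omega

/-- a 5-element of `J_N` without fixed points on `M` -/
theorem exists_five : ∃ f ∈ JN V M, (∃ k, f ^ 5 ^ k = 1) ∧ f ∉ centralizer (M : Set G) := by
  have hp : Fact (Nat.Prime 5) := ⟨by norm_num⟩
  obtain ⟨f, hf, hf', hk⟩ := exists_pel (p := 5) (A := centralizer ({z} : Set G)) (B := JN V M)
    (by rw [relIndex_zJ h]; norm_num)
  refine ⟨f, hf, hk, fun h1 => hf' ?_⟩
  exact H_le_z h (D_le_H h h1)

/-- a 7-element of `J_N` -/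
theorem exists_seven : ∃ f ∈ JN V M, (∃ k, f ^ 7 ^ k = 1) ∧ f ∉ centralizer (M : Set G) := by
  have hp : Fact (Nat.Prime 7) := ⟨by norm_num⟩
  have h1 : (centralizer (M : Set G)).relIndex (J₁ z V M) = 168 := by
    rw [← relIndex_subgroupOf (J_le_C₁ h), ← ker_act h, relIndex_ker]
    have h2 : ((J₁ z V M).subgroupOf (C₁ z M)).map (act h) = ⊤ := by
      rw [eq_top_iff]
      intro A _
      obtain ⟨g, hg, hg'⟩ := full_mat h A.1 (by
        intro h0
        have h1 := (Matrix.isUnit_iff_isUnit_det A.1).1 A.isUnit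
        rw [h0] at h1
        exact not_isUnit_zero h1)
      refine ⟨⟨g, J_le_C₁ h hg⟩, hg, Units.ext (mat_ext h fun m hm => ?_)⟩
      rw [act_apply h _ hm]
      exact hg' m hm
    rw [h2, Subgroup.card_top, card_gl h]
  obtain ⟨f, hf, hf', hk⟩ := exists_pel (p := 7) (A := centralizer (M : Set G)) (B := J₁ z V M)
    (by rw [h1]; norm_num)
  exact ⟨f, J₁_le_JN hf, hk, hf'⟩

/-- `|C_M(f)|` for a `p`-element -/
theorem card_fix {p : ℕ} [Fact p.Prime] {f : G} {k : ℕ} (hf : f ^ p ^ k = 1)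
    (hN : f ∈ normalizer (M : Set G)) (hD : f ∉ centralizer (M : Set G)) :
    16 ≡ Nat.card ↥(M ⊓ centralizer ({f} : Set G)) [MOD p] ∧
      ∃ j < 4, Nat.card ↥(M ⊓ centralizer ({f} : Set G)) = 2 ^ j := by
  have h1 := fixmod hf (M : Set G) fun x hx => conj_mem hN hx
  have h2 : {x ∈ (M : Set G) | f * x = x * f} = ((M ⊓ centralizer ({f} : Set G) : Subgroup G) : Set G) := by
    ext x
    constructor
    · rintro ⟨hx, hx'⟩
      exact mem_inf.2 ⟨hx, mem_centralizer_singleton_iff.2 hx'.symm⟩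
    · intro hx
      obtain ⟨hx, hx'⟩ := mem_inf.1 hx
      exact ⟨hx, (mem_centralizer_singleton_iff.1 hx').symm⟩
  have h3 : (M : Set G).ncard = 16 := by rw [← h.M_card]; rfl
  rw [h2, h3] at h1
  refine ⟨h1, ?_⟩
  have h4 : Nat.card ↥(M ⊓ centralizer ({f} : Set G)) ∣ 2 ^ 4 := by
    have := Subgroup.card_dvd_of_le (inf_le_left : M ⊓ centralizer ({f} : Set G) ≤ M)
    rwa [h.M_card] at this
  obtain ⟨j, hj, hj'⟩ := (Nat.dvd_prime_pow Nat.prime_two).1 h4
  refine ⟨j, lt_of_le_of_ne hj fun h5 => hD ?_, hj'⟩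
  have h6 : M ⊓ centralizer ({f} : Set G) = M :=
    Subgroup.eq_of_le_of_card_ge inf_le_left (by rw [hj', h5, h.M_card]; norm_num)
  refine cent_iff.2 fun m hm => ?_
  rw [← h6] at hm
  exact (mem_centralizer_singleton_iff.1 (mem_inf.1 hm).2).symm

/-- a 2-element of `J_N ∩ D₁` is in `Q₁` -/
theorem mem_Q_of_two {a : G} (ha : a ∈ JN V M) (haD : a ∈ centralizer (M : Set G)) {k : ℕ}
    (hk : a ^ 2 ^ k = 1) : a ∈ o2 (centralizer (M : Set G)) := by
  have h1 : IsPGroup 2 (zpowers a) := by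
    rintro ⟨g, hg⟩
    refine ⟨k, Subtype.ext ?_⟩
    obtain ⟨n, rfl⟩ := mem_zpowers_iff.1 hg
    change (a ^ n) ^ 2 ^ k = 1
    rw [← zpow_natCast, ← zpow_mul, mul_comm, zpow_mul, zpow_natCast, hk, one_zpow]
  have haN : zpowers a ≤ normalizer (o2 (centralizer (M : Set G)) : Set G) := by
    rw [zpowers_le]
    exact ZN.le_normalizer_o2 _ haD
  have h2 : IsPGroup 2 (zpowers a ⊔ o2 (centralizer (M : Set G)) : Subgroup G) :=
    IsPGroup.to_sup_of_normal_right' h1 (ZN.isPGroup_o2 _) haN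
  have h3 : zpowers a ⊔ o2 (centralizer (M : Set G)) ≤ centralizer (M : Set G) :=
    sup_le (by rwa [zpowers_le]) (ZN.o2_le _)
  have h4 : centralizer (M : Set G) ≤
      normalizer ((zpowers a ⊔ o2 (centralizer (M : Set G)) : Subgroup G) : Set G) := by
    refine le_normalizer_of fun d hd x hx => ?_
    set W := zpowers a ⊔ o2 (centralizer (M : Set G)) with hW
    have h5 : W ≤ W.comap (MulAut.conj d).toMonoidHom := by
      refine sup_le ?_ fun y hy => ?_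
      · rw [zpowers_le]
        change d * a * d⁻¹ ∈ W
        have h6 := comm_D h a ha d hd
        have h7 : d * a * d⁻¹ * a⁻¹ * a ∈ W :=
          mul_mem ((le_sup_right : _ ≤ W) h6) ((le_sup_left : _ ≤ W) (mem_zpowers a))
        rwa [inv_mul_cancel_right] at h7
      · change d * y * d⁻¹ ∈ W
        exact (le_sup_right : _ ≤ W) (conj_mem (ZN.le_normalizer_o2 _ hd) hy)
    exact h5 hx
  exact ZN.le_o2 h3 h2 h4 ((le_sup_left : _ ≤ zpowers a ⊔ o2 (centralizer (M : Set G))) (mem_zpowers a))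

end

end Cfsg.Agent.Omega.NO1.Nat.SevenB
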