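import Cfsg.Agent.Omega.NO1.Nat.SixIn
import Cfsg.Agent.ZN.Facts

/-!
# THEOREM NAT (#13408), steps (6), (7): basic facts

`h : SixIn S z V V₁ M e`, `H = C_G(V₁)`, `R = O₂(H)`, `D₁ = C_G(M)`, `Q₁ = O₂(D₁)`.

* `mat` : the action of `C₁` on `M/⟨z⟩ = F₂³`, `C₁/D₁ = GL₃(2)`, `J₁` covers it;
* `Q₁ = R ∩ D₁`, `R = V Q₁`, `V ∩ Q₁ = V₁`, `[M,v] = V₁`, `[Q₁,J₁] ≤ M`;
* `exists_rho` : an element of odd order of `J₁ ∩ H` without fixed points on `M/V₁`.
-/

set_option autoImplicit false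
set_option linter.unusedSectionVars false

namespace Cfsg.Agent.Omega.NO1.Nat.SixA

open Subgroup Cfsg Cfsg.Agent.ZN
open Cfsg.Agent.Omega.NO1.Nat.SixIn (SixIn C₁ J₁)

universe u

/-! ### generalities -/

section gen

variable {G : Type u} [Group G]

theorem conj_mem {K : Subgroup G} {g x : G} (hg : g ∈ normalizer (K : Set G)) (hx : x ∈ K) :
    g * x * g⁻¹ ∈ K := (mem_normalizer_iff.1 hg x).1 hx

theorem conj_mem' {K : Subgroup G} {g x : G} (hg : g ∈ normalizer (K : Set G)) (hx : x ∈ K) :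
    g⁻¹ * x * g ∈ K := by
  have := conj_mem (inv_mem hg) hx
  rwa [inv_inv] at this

theorem mem_normalizer_of {K : Subgroup G} {g : G} (h1 : ∀ x ∈ K, g * x * g⁻¹ ∈ K)
    (h2 : ∀ x ∈ K, g⁻¹ * x * g ∈ K) : g ∈ normalizer (K : Set G) := by
  rw [mem_normalizer_iff]
  refine fun x => ⟨h1 x, fun hx => ?_⟩
  have := h2 _ hx
  rwa [show g⁻¹ * (g * x * g⁻¹) * g = x by group] at this

theorem le_normalizer_of {K X : Subgroup G} (h1 : ∀ g ∈ X, ∀ x ∈ K, g * x * g⁻¹ ∈ K) :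
    X ≤ normalizer (K : Set G) := fun g hg =>
  mem_normalizer_of (h1 g hg) fun x hx => by
    have := h1 g⁻¹ (inv_mem hg) x hx
    rwa [inv_inv] at this

theorem cent_iff {K : Subgroup G} {x : G} : x ∈ centralizer (K : Set G) ↔ ∀ k ∈ K, x * k = k * x := by
  rw [mem_centralizer_iff]
  exact ⟨fun h k hk => (h k hk).symm, fun h k hk => (h k hk).symm⟩

theorem norm_cent {K : Subgroup G} : normalizer (K : Set G) ≤
    normalizer (centralizer (K : Set G) : Set G) := by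
  refine le_normalizer_of fun g hg x hx => cent_iff.2 fun k hk => ?_
  have h1 := cent_iff.1 hx _ (conj_mem' hg hk)
  calc g * x * g⁻¹ * k = g * (x * (g⁻¹ * k * g)) * g⁻¹ := by group
    _ = g * (g⁻¹ * k * g * x) * g⁻¹ := by rw [h1]
    _ = k * (g * x * g⁻¹) := by group

/-- a commutator relation passes from generators to the group -/
theorem comm_closure {s : Set G} {A B : Subgroup G} (hB : ∀ g ∈ s, g ∈ normalizer (B : Set G))
    (hs : ∀ g ∈ s, ∀ a ∈ A, a * g * a⁻¹ * g⁻¹ ∈ B) :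
    ∀ g ∈ closure s, ∀ a ∈ A, a * g * a⁻¹ * g⁻¹ ∈ B := by
  have hN : closure s ≤ normalizer (B : Set G) := (closure_le _).2 hB
  intro g hg
  induction hg using closure_induction with
  | mem x hx => exact hs x hx
  | one => intro a _; simp
  | mul x y hx hy h1 h2 =>
    intro a ha
    have h3 := conj_mem (hN hx) (h2 a ha)
    have h4 := mul_mem (h1 a ha) h3
    rwa [show a * x * a⁻¹ * x⁻¹ * (x * (a * y * a⁻¹ * y⁻¹) * x⁻¹) =
      a * (x * y) * a⁻¹ * (x * y)⁻¹ by group] at h4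
  | inv x hx h1 =>
    intro a ha
    have h3 := conj_mem' (hN hx) (inv_mem (h1 a ha))
    rwa [show x⁻¹ * (a * x * a⁻¹ * x⁻¹)⁻¹ * x = a * x⁻¹ * a⁻¹ * x⁻¹⁻¹ by group] at h3

end gen

/-! ### vectors -/

abbrev Vec := Fin 3 → ZMod 2

theorem vec_add_self (u : Vec) : u + u = 0 := by
  ext i
  simp [CharTwo.add_self_eq_zero]

theorem exists_dot : ∀ u w : Vec, u ≠ 0 → w ≠ 0 → ∃ φ : Vec, dotProduct φ u = 1 ∧ dotProduct φ w = 1 := by
  decide

theorem exists_mat (u w : Vec) (hu : u ≠ 0) (hw : w ≠ 0) :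
    ∃ A : Matrix (Fin 3) (Fin 3) (ZMod 2), A.det ≠ 0 ∧ A.mulVec u = w := by
  obtain ⟨φ, h1, h2⟩ := exists_dot u w hu hw
  have h3 : ∀ x : ZMod 2, x + x = 0 := by decide
  refine ⟨1 + Matrix.vecMulVec (u + w) φ, ?_, ?_⟩
  · have h4 : (1 + Matrix.vecMulVec (u + w) φ) * (1 + Matrix.vecMulVec (u + w) φ) = 1 := by
      apply Matrix.toLin'.injective
      apply LinearMap.ext
      intro x
      simp only [Matrix.toLin'_apply, ← Matrix.mulVec_mulVec, Matrix.add_mulVec, Matrix.one_mulVec,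
        Matrix.vecMulVec_mulVec, dotProduct_add, dotProduct_smul]
      ext i
      simp [h1, h2, h3]
      have := h3 (dotProduct φ x * u i)
      have := h3 (dotProduct φ x * w i)
      grind
    intro h5
    have h6 := congrArg Matrix.det h4
    rw [Matrix.det_mul, h5, Matrix.det_one] at h6
    simp at h6
  · rw [Matrix.add_mulVec, Matrix.one_mulVec, Matrix.vecMulVec_mulVec, h1]
    ext i
    have := h3 (u i)
    simp
    grind

section six

variable {G : Type u} [Group G] [Finite G] {S : Sylow 2 G} {z : G} {V V₁ M : Subgroup G}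
  {e : G → Fin 3 → ZMod 2} (h : SixIn S z V V₁ M e)

include h

theorem z_mem_M : z ∈ M := h.V₁_le_M h.z_mem

theorem e_one : e 1 = 0 := by
  have h1 := h.e_mul 1 M.one_mem 1 M.one_mem
  rw [mul_one] at h1
  exact left_eq_add.1 h1

theorem e_mul_z {m : G} (hm : m ∈ M) : e (m * z) = e m := by
  rw [h.e_mul m hm z (z_mem_M h), h.e_z, add_zero]

theorem z_inv : z⁻¹ = z := inv_eq_of_mul_eq_one_left h.z_sq

theorem M_inv {m : G} (hm : m ∈ M) : m⁻¹ = m := inv_eq_of_mul_eq_one_left (h.M_sq m hm)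

theorem V_inv {m : G} (hm : m ∈ V) : m⁻¹ = m := inv_eq_of_mul_eq_one_left (h.V_sq m hm)

theorem e_eq {x y : G} (hx : x ∈ M) (hy : y ∈ M) (hxy : e x = e y) : y = x ∨ y = x * z := by
  have h1 : e (x * y) = 0 := by
    rw [h.e_mul x hx y hy, hxy, vec_add_self]
  rcases h.e_ker _ (mul_mem hx hy) h1 with h2 | h2
  · left
    rw [← M_inv h hx]
    exact (inv_eq_of_mul_eq_one_right h2).symm
  · right
    rw [← h2, ← mul_assoc, h.M_sq x hx, one_mul]

theorem e_surj (u : Vec) : ∃ m ∈ M, e m = u := by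
  let f : M →* Multiplicative Vec :=
    { toFun := fun m => Multiplicative.ofAdd (e m)
      map_one' := by
        change Multiplicative.ofAdd (e 1) = 1
        rw [e_one h]; rfl
      map_mul' := fun x y => by
        change Multiplicative.ofAdd (e (x * y : G)) = _
        rw [h.e_mul x x.2 y y.2]; rfl }
  have hk : Nat.card f.ker ≤ 2 := by
    have h1 : (f.ker : Set M) ⊆ {1, ⟨z, z_mem_M h⟩} := by
      intro m hm
      have h2 : e (m : G) = 0 := congrArg Multiplicative.toAdd (MonoidHom.mem_ker.1 hm)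
      rcases h.e_ker m m.2 h2 with h3 | h3
      · left; exact Subtype.ext h3
      · right; exact Subtype.ext h3
    calc Nat.card f.ker = (f.ker : Set M).ncard := rfl
      _ ≤ ({1, ⟨z, z_mem_M h⟩} : Set M).ncard := Set.ncard_le_ncard h1 (Set.toFinite _)
      _ ≤ 2 := by
        have := Set.ncard_insert_le (1 : M) {⟨z, z_mem_M h⟩}
        rwa [Set.ncard_singleton] at this
  have h1 : Nat.card f.ker * Nat.card f.range = 16 := by
    rw [← h.M_card, ← Subgroup.index_ker f]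
    exact f.ker.card_mul_index
  have h2 : 8 ≤ Nat.card f.range := by
    by_contra hlt
    push Not at hlt
    have : Nat.card f.ker * Nat.card f.range ≤ 2 * 7 := Nat.mul_le_mul hk (by omega)
    omega
  have h3 : f.range = ⊤ := by
    apply Subgroup.eq_top_of_le_card
    have h4 : Nat.card (Multiplicative Vec) = 8 := by
      rw [Nat.card_congr Multiplicative.toAdd]
      simp [Vec]
    rw [h4]; exact h2
  obtain ⟨m, hm⟩ : Multiplicative.ofAdd u ∈ f.range := by rw [h3]; trivial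
  exact ⟨m, m.2, congrArg Multiplicative.toAdd hm⟩

/-! ### `H`, `R`, `C₁`, `J₁` -/

theorem H_le_z : centralizer (V₁ : Set G) ≤ centralizer ({z} : Set G) := by
  intro x hx
  rw [mem_centralizer_singleton_iff]
  exact (cent_iff.1 hx z h.z_mem)

theorem H_le_C₁ : centralizer (V₁ : Set G) ≤ C₁ z M := le_inf (H_le_z h) h.H_M

theorem D_le_H : centralizer (M : Set G) ≤ centralizer (V₁ : Set G) := centralizer_le h.V₁_le_M

theorem D_le_C₁ : centralizer (M : Set G) ≤ C₁ z M := (D_le_H h).trans (H_le_C₁ h)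

theorem R_le_H : o2 (centralizer (V₁ : Set G)) ≤ centralizer (V₁ : Set G) := ZN.o2_le _

theorem V_le_H : V ≤ centralizer (V₁ : Set G) := h.V_le.trans (R_le_H h)

theorem V_le_C₁ : V ≤ C₁ z M := (V_le_H h).trans (H_le_C₁ h)

theorem M_le_H : M ≤ centralizer (V₁ : Set G) := fun x hx =>
  cent_iff.2 fun k hk => h.M_comm x hx k (h.V₁_le_M hk)

theorem J_le_C₁ : J₁ z V M ≤ C₁ z M := by
  rw [J₁, closure_le]
  rintro _ ⟨c, hc, v, hv, rfl⟩
  exact mul_mem (mul_mem hc (V_le_C₁ h hv)) (inv_mem hc)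

theorem S_le_z : (S : Subgroup G) ≤ centralizer ({z} : Set G) := by
  have h1 : z ∈ zc (S : Subgroup G) := by rw [h.zc_eq]; exact mem_zpowers z
  have h2 : z ∈ (S : Subgroup G) ⊓ centralizer ((S : Subgroup G) : Set G) := by
    have h3 : zc (S : Subgroup G) ≤ (S : Subgroup G) ⊓ centralizer ((S : Subgroup G) : Set G) :=
      (closure_le _).2 fun x hx => hx.1
    exact h3 h1
  intro s hs
  rw [mem_centralizer_singleton_iff]
  exact (cent_iff.1 h2.2 s hs).symm

theorem S_le_C₁ : (S : Subgroup G) ≤ C₁ z M := le_inf (S_le_z h) h.S_M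

theorem C₁_z {c : G} (hc : c ∈ C₁ z M) : c * z * c⁻¹ = z := by
  have h1 := mem_centralizer_singleton_iff.1 hc.1
  rw [h1]; group

/-- conjugation by `C₁` on `M/⟨z⟩` is well defined -/
theorem wd {c : G} (hc : c ∈ C₁ z M) {x y : G} (hx : x ∈ M) (hy : y ∈ M) (hxy : e x = e y) :
    e (c * x * c⁻¹) = e (c * y * c⁻¹) := by
  rcases e_eq h hx hy hxy with h1 | h1
  · rw [h1]
  · rw [h1, show c * (x * z) * c⁻¹ = c * x * c⁻¹ * (c * z * c⁻¹) by group, C₁_z h hc,
      e_mul_z h (conj_mem hc.2 hx)]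

theorem wd' {c : G} (hc : c ∈ C₁ z M) {x y : G} (hx : x ∈ M) (hy : y ∈ M)
    (hxy : e (c * x * c⁻¹) = e (c * y * c⁻¹)) : e x = e y := by
  have h1 := wd h (inv_mem hc) (conj_mem hc.2 hx) (conj_mem hc.2 hy) hxy
  rwa [show c⁻¹ * (c * x * c⁻¹) * c⁻¹⁻¹ = x by group, show c⁻¹ * (c * y * c⁻¹) * c⁻¹⁻¹ = y by group] at h1

theorem exists_lin {c : G} (hc : c ∈ C₁ z M) :
    ∃ A : Matrix (Fin 3) (Fin 3) (ZMod 2), ∀ m ∈ M, e (c * m * c⁻¹) = A.mulVec (e m) := by
  choose pk hpk hpk' using e_surj h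
  let f : Vec →+ Vec :=
    { toFun := fun u => e (c * pk u * c⁻¹)
      map_zero' := by
        rw [wd h hc (hpk 0) M.one_mem (by rw [hpk', e_one h])]
        simp [e_one h]
      map_add' := fun u w => by
        rw [wd h hc (hpk (u + w)) (mul_mem (hpk u) (hpk w))
          (by rw [hpk', h.e_mul _ (hpk u) _ (hpk w), hpk', hpk']),
          ← h.e_mul _ (conj_mem hc.2 (hpk u)) _ (conj_mem hc.2 (hpk w))]
        congr 1; group }
  refine ⟨LinearMap.toMatrix' (f.toZModLinearMap 2), fun m hm => ?_⟩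
  rw [LinearMap.toMatrix'_mulVec]
  change _ = e (c * pk (e m) * c⁻¹)
  exact wd h hc hm (hpk _) (hpk' _).symm

theorem mat_ext {A B : Matrix (Fin 3) (Fin 3) (ZMod 2)}
    (hAB : ∀ m ∈ M, A.mulVec (e m) = B.mulVec (e m)) : A = B := by
  apply Matrix.toLin'.injective
  apply LinearMap.ext
  intro u
  obtain ⟨m, hm, rfl⟩ := e_surj h u
  rw [Matrix.toLin'_apply, Matrix.toLin'_apply]
  exact hAB m hm

/-- the action of `C₁` on `M/⟨z⟩` -/
theorem exists_act : ∃ f : C₁ z M →* GL (Fin 3) (ZMod 2), ∀ c : C₁ z M, ∀ m ∈ M,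
    e ((c : G) * m * (c : G)⁻¹) = (f c).1.mulVec (e m) := by
  choose A hA using fun c : C₁ z M => exists_lin h c.2
  let f : C₁ z M →* Matrix (Fin 3) (Fin 3) (ZMod 2) :=
    { toFun := A
      map_one' := mat_ext h fun m hm => by
        rw [← hA 1 m hm]; simp
      map_mul' := fun c d => mat_ext h fun m hm => by
        rw [← hA (c * d) m hm, ← Matrix.mulVec_mulVec, ← hA d m hm, ← hA c _ (conj_mem d.2.2 hm)]
        congr 1
        push_cast
        group }
  exact ⟨f.toHomUnits, hA⟩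

/-- the action of `C₁` on `M/⟨z⟩` -/
noncomputable def act : C₁ z M →* GL (Fin 3) (ZMod 2) := (exists_act h).choose

theorem act_apply (c : C₁ z M) {m : G} (hm : m ∈ M) :
    (act h c).1.mulVec (e m) = e ((c : G) * m * (c : G)⁻¹) :=
  ((exists_act h).choose_spec c m hm).symm

theorem ker_act : (act h).ker = (centralizer (M : Set G)).subgroupOf (C₁ z M) := by
  ext c
  rw [MonoidHom.mem_ker, mem_subgroupOf, cent_iff]
  constructor
  · intro h1
    refine h.faith c c.2 fun m hm => ?_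
    rw [← act_apply h c hm, h1]
    simp
  · intro h1
    apply Units.ext
    refine mat_ext h fun m hm => ?_
    rw [act_apply h c hm, h1 m hm]
    simp

theorem full_mat (A : Matrix (Fin 3) (Fin 3) (ZMod 2)) (hA : A.det ≠ 0) :
    ∃ g ∈ J₁ z V M, ∀ m ∈ M, e (g * m * g⁻¹) = A.mulVec (e m) := by
  refine Matrix.diagonal_transvection_induction_of_det_ne_zero
    (fun A => ∃ g ∈ J₁ z V M, ∀ m ∈ M, e (g * m * g⁻¹) = A.mulVec (e m)) A hA ?_ ?_ ?_
  · intro D hD
    have h1 : Matrix.diagonal D = 1 := by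
      rw [Matrix.det_diagonal, Finset.prod_ne_zero_iff] at hD
      have h2 : D = 1 := by
        ext i
        have h3 := hD i (Finset.mem_univ i)
        have h4 : ∀ x : ZMod 2, x ≠ 0 → x = 1 := by decide
        rw [h4 _ h3]; rfl
      rw [h2]; exact Matrix.diagonal_one
    exact ⟨1, one_mem _, fun m _ => by rw [h1]; simp⟩
  · rintro ⟨i, j, hij, c⟩
    have h4 : ∀ x : ZMod 2, x = 0 ∨ x = 1 := by decide
    rcases h4 c with rfl | rfl
    · exact ⟨1, one_mem _, fun m _ => by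
        simp [Matrix.TransvectionStruct.toMatrix]⟩
    · obtain ⟨g, hg, hg'⟩ := h.full i j hij
      refine ⟨g, hg, fun m hm => ?_⟩
      rw [hg' m hm]
      simp only [Matrix.TransvectionStruct.toMatrix, Matrix.transvection, Matrix.add_mulVec,
        Matrix.one_mulVec]
      congr 1
      ext k
      rw [Matrix.single_mulVec]
      simp [Pi.single]
  · rintro A B - - ⟨a, ha, ha'⟩ ⟨b, hb, hb'⟩
    refine ⟨a * b, mul_mem ha hb, fun m hm => ?_⟩
    rw [← Matrix.mulVec_mulVec, ← hb' m hm, ← ha' _ (conj_mem (J_le_C₁ h hb).2 hm)]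
    congr 1
    group

theorem act_surj : Function.Surjective (act h) := by
  intro A
  obtain ⟨g, hg, hg'⟩ := full_mat h A.1 (by
    intro h0
    have h1 := (Matrix.isUnit_iff_isUnit_det A.1).1 A.isUnit
    rw [h0] at h1
    exact not_isUnit_zero h1)
  refine ⟨⟨g, J_le_C₁ h hg⟩, Units.ext (mat_ext h fun m hm => ?_)⟩
  rw [act_apply h _ hm]
  exact hg' m hm

theorem card_gl : Nat.card (GL (Fin 3) (ZMod 2)) = 168 := by
  rw [Matrix.card_GL_field]
  simp [Fin.prod_univ_three, ZMod.card]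

/-- `|C₁/D₁| = 168` -/
theorem relIndex_D : (centralizer (M : Set G)).relIndex (C₁ z M) = 168 := by
  rw [relIndex, ← ker_act h, Subgroup.index_ker, MonoidHom.range_eq_top.2 (act_surj h), Subgroup.card_top,
    card_gl h]

/-- `J₁` is transitive on `(M/⟨z⟩)^#` -/
theorem tran {m : G} {u : Vec} (hm : m ∈ M) (h1 : e m ≠ 0) (h2 : u ≠ 0) :
    ∃ g ∈ J₁ z V M, e (g * m * g⁻¹) = u := by
  obtain ⟨A, hA, hA'⟩ := exists_mat (e m) u h1 h2
  obtain ⟨g, hg, hg'⟩ := full_mat h A hA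
  exact ⟨g, hg, by rw [hg' m hm, hA']⟩

theorem M_isPGroup : IsPGroup 2 M := by
  rw [IsPGroup.iff_card]
  exact ⟨4, by rw [h.M_card]; norm_num⟩

theorem V_isPGroup : IsPGroup 2 V := by
  rw [IsPGroup.iff_card]
  exact ⟨4, by rw [h.V_card]; norm_num⟩

theorem M_le_D : M ≤ centralizer (M : Set G) := fun x hx => cent_iff.2 fun k hk => h.M_comm x hx k hk

theorem M_le_Q : M ≤ o2 (centralizer (M : Set G)) :=
  ZN.le_o2 (M_le_D h) (M_isPGroup h) (centralizer_le_normalizer _)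

theorem H_norm_D : centralizer (V₁ : Set G) ≤ normalizer (centralizer (M : Set G) : Set G) :=
  h.H_M.trans norm_cent

/-- `Q₁ = R ∩ D₁` -/
theorem Q_eq : o2 (centralizer (M : Set G)) =
    o2 (centralizer (V₁ : Set G)) ⊓ centralizer (M : Set G) := by
  apply le_antisymm
  · refine le_inf (ZN.le_o2 ((ZN.o2_le _).trans (D_le_H h)) (ZN.isPGroup_o2 _) ?_) (ZN.o2_le _)
    exact (H_norm_D h).trans (ZN.normalizer_le_normalizer_o2 _)
  · refine ZN.le_o2 inf_le_right ((ZN.isPGroup_o2 _).to_le inf_le_left) ?_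
    refine le_normalizer_of fun g hg x hx => ?_
    obtain ⟨hx1, hx2⟩ := mem_inf.1 hx
    exact mem_inf.2 ⟨conj_mem (ZN.le_normalizer_o2 _ (D_le_H h hg)) hx1,
      mul_mem (mul_mem hg hx2) (inv_mem hg)⟩

theorem mem_Q {x : G} : x ∈ o2 (centralizer (M : Set G)) ↔
    x ∈ o2 (centralizer (V₁ : Set G)) ∧ ∀ m ∈ M, x * m = m * x := by
  rw [Q_eq h, mem_inf, cent_iff]

theorem M_ne_V₁ : ¬ M ≤ V₁ := fun h1 => by
  have := Subgroup.card_le_of_le h1
  rw [h.M_card, h.V₁_card] at this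
  omega

theorem exists_M : ∃ m ∈ M, m ∉ V₁ := by
  by_contra hc
  push Not at hc
  exact M_ne_V₁ h hc

/-- `V ∩ Q₁ = V₁` -/
theorem V_Q {v : G} (hv : v ∈ V) : v ∈ o2 (centralizer (M : Set G)) ↔ v ∈ V₁ := by
  constructor
  · intro h1
    by_contra h2
    obtain ⟨m, hm, hm'⟩ := exists_M h
    exact hm' (h.V_M v hv h2 m hm (((mem_Q h).1 h1).2 m hm))
  · intro h1
    exact M_le_Q h (h.V₁_le_M h1)

theorem exists_V : ∃ v ∈ V, v ∉ V₁ := by
  by_contra hc
  push Not at hc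
  have := Subgroup.card_le_of_le (show V ≤ V₁ from hc)
  rw [h.V_card, h.V₁_card] at this
  omega

/-- `[M,v] ≤ V₁` -/
theorem comm_mem {v m : G} (hv : v ∈ V) (hm : m ∈ M) : v * m * v⁻¹ * m⁻¹ ∈ V₁ :=
  h.quad v hv m ((mem_Q h).1 (M_le_Q h hm)).1

theorem V₁_cent {v x : G} (hv : v ∈ V₁) (hx : x ∈ centralizer (V₁ : Set G)) : x * v * x⁻¹ = v := by
  rw [cent_iff.1 hx v hv]; group

/-- `[M,v] = V₁` for `v ∈ V - V₁` -/
theorem comm_surj {v : G} (hv : v ∈ V) (hv' : v ∉ V₁) (w : G) (hw : w ∈ V₁) :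
    ∃ m ∈ M, v * m * v⁻¹ * m⁻¹ = w := by
  let f : M →* V₁ :=
    { toFun := fun m => ⟨v * m * v⁻¹ * (m : G)⁻¹, comm_mem h hv m.2⟩
      map_one' := by
        apply Subtype.ext; simp
      map_mul' := fun x y => by
        apply Subtype.ext
        have h1 : v * y * v⁻¹ * (y : G)⁻¹ ∈ M := h.V₁_le_M (comm_mem h hv y.2)
        have h2 := h.M_comm _ h1 _ (inv_mem x.2)
        have h3 := h.M_comm _ (inv_mem x.2) _ (inv_mem y.2)
        change v * (x * y) * v⁻¹ * ((x : G) * y)⁻¹ =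
          (v * x * v⁻¹ * (x : G)⁻¹) * (v * y * v⁻¹ * (y : G)⁻¹)
        calc v * (x * y) * v⁻¹ * ((x : G) * y)⁻¹
            = v * x * v⁻¹ * (v * y * v⁻¹ * (y : G)⁻¹ * (x : G)⁻¹) := by group
          _ = v * x * v⁻¹ * ((x : G)⁻¹ * (v * y * v⁻¹ * (y : G)⁻¹)) := by rw [h2]
          _ = _ := by group }
  have hk : Nat.card f.ker ≤ 4 := by
    rw [← h.V₁_card]
    have h1 : f.ker.map M.subtype ≤ V₁ := by
      rintro _ ⟨m, hm, rfl⟩
      have h2 : v * m * v⁻¹ * (m : G)⁻¹ = 1 := congrArg Subtype.val (MonoidHom.mem_ker.1 hm)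
      refine h.V_M v hv hv' m m.2 ?_
      calc v * (m : G) = (v * m * v⁻¹ * (m : G)⁻¹) * (m * v) := by group
        _ = m * v := by rw [h2, one_mul]
    have h2 := Subgroup.card_le_of_le h1
    rwa [Subgroup.card_map_of_injective M.subtype_injective] at h2
  have h1 : Nat.card f.ker * Nat.card f.range = 16 := by
    rw [← h.M_card, ← Subgroup.index_ker f]
    exact f.ker.card_mul_index
  have h2 : 4 ≤ Nat.card f.range := by
    by_contra hlt
    push Not at hlt
    have : Nat.card f.ker * Nat.card f.range ≤ 4 * 3 := Nat.mul_le_mul hk (by omega)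
    omega
  have h3 : f.range = ⊤ := by
    apply Subgroup.eq_top_of_le_card
    rw [h.V₁_card]; exact h2
  obtain ⟨m, hm⟩ : (⟨w, hw⟩ : V₁) ∈ f.range := by rw [h3]; trivial
  exact ⟨m, m.2, congrArg Subtype.val hm⟩

/-! ### `ρ` -/

/-- `S` moves `V₁/⟨z⟩`, elementwise -/
theorem V₁_cases {w : G} (hw : w ∈ V₁) (h1 : w ≠ 1) (h2 : w ≠ z) {x : G} (hx : x ∈ V₁) :
    x = 1 ∨ x = z ∨ x = w ∨ x = w * z := by
  have hsub : ({1, z, w, w * z} : Set G) ⊆ V₁ := by
    rintro y (rfl | rfl | rfl | rfl)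
    · exact one_mem _
    · exact h.z_mem
    · exact hw
    · exact mul_mem hw h.z_mem
  have hz : z ≠ 1 := h.z_ne
  have h3 : w * z ≠ 1 := fun h3 => h2 (by
    rw [← z_inv h]; exact eq_inv_of_mul_eq_one_left h3)
  have h4 : w * z ≠ z := fun h4 => h1 (by simpa using h4)
  have h5 : w * z ≠ w := fun h5 => hz (by simpa using h5)
  have hc : ({1, z, w, w * z} : Set G).ncard = 4 := by
    rw [Set.ncard_insert_of_notMem (by simp [hz.symm, h1.symm, h3.symm]) (Set.toFinite _),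
      Set.ncard_insert_of_notMem (by simp [h2.symm, h4.symm]) (Set.toFinite _), Set.ncard_pair h5.symm]
  have h6 : ({1, z, w, w * z} : Set G) = V₁ := by
    apply Set.eq_of_subset_of_ncard_le hsub _ (Set.toFinite _)
    rw [hc]
    exact le_of_eq (by rw [← h.V₁_card]; rfl)
  have h7 : x ∈ ({1, z, w, w * z} : Set G) := by rw [h6]; exact hx
  simpa using h7

theorem V₁_iff {w : G} (hw : w ∈ V₁) (h1 : w ≠ 1) (h2 : w ≠ z) {m : G} (hm : m ∈ M) :
    m ∈ V₁ ↔ e m = 0 ∨ e m = e w := by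
  constructor
  · intro h3
    rcases V₁_cases h hw h1 h2 h3 with rfl | rfl | rfl | rfl
    · exact Or.inl (e_one h)
    · exact Or.inl h.e_z
    · exact Or.inr rfl
    · exact Or.inr (e_mul_z h (h.V₁_le_M hw))
  · rintro (h3 | h3)
    · rcases h.e_ker m hm h3 with rfl | rfl
      · exact one_mem _
      · exact h.z_mem
    · rcases e_eq h (h.V₁_le_M hw) hm h3.symm with rfl | rfl
      · exact hw
      · exact mul_mem hw h.z_mem

theorem exists_w : ∃ w ∈ V₁, w ≠ 1 ∧ w ≠ z := by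
  by_contra hc
  push Not at hc
  have h1 : (V₁ : Set G) ⊆ {1, z} := by
    intro x hx
    by_cases h2 : x = 1
    · exact Or.inl h2
    · exact Or.inr (hc x hx h2)
  have h2 := Set.ncard_le_ncard h1 (Set.toFinite _)
  have h3 : (V₁ : Set G).ncard = 4 := by rw [← h.V₁_card]; rfl
  have h4 := Set.ncard_insert_le (1 : G) {z}
  rw [Set.ncard_singleton] at h4
  omega

theorem e_ne {w : G} (hw : w ∈ M) (h1 : w ≠ 1) (h2 : w ≠ z) : e w ≠ 0 := fun h3 => by
  rcases h.e_ker w hw h3 with h4 | h4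
  · exact h1 h4
  · exact h2 h4

theorem act_rel {c d : C₁ z M} (hcd : act h c = act h d) {m : G} (hm : m ∈ M) :
    e ((c : G) * m * (c : G)⁻¹) = e ((d : G) * m * (d : G)⁻¹) := by
  rw [← act_apply h c hm, ← act_apply h d hm, hcd]

omit h [Finite G] in
theorem odd_pow [Finite G] (x : G) : Odd (orderOf (x ^ (4 ^ (orderOf x + 1)))) := by
  obtain ⟨a, b, hb, hab⟩ := Nat.exists_eq_two_pow_mul_odd (orderOf_pos x).ne'
  have h1 : (x ^ (4 ^ (orderOf x + 1))) ^ b = 1 := by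
    rw [← pow_mul]
    apply orderOf_dvd_iff_pow_eq_one.1
    conv_lhs => rw [hab]
    refine Nat.mul_dvd_mul ?_ (dvd_refl b)
    rw [show (4 : ℕ) = 2 ^ 2 by norm_num, ← pow_mul]
    apply pow_dvd_pow
    have h2 : a < 2 ^ a := Nat.lt_two_pow_self
    have h3 : 2 ^ a ≤ orderOf x := Nat.le_of_dvd (orderOf_pos x) ⟨b, hab⟩
    omega
  exact hb.of_dvd_nat (orderOf_dvd_of_pow_eq_one h1)

/-- an element of odd order of `J₁ ∩ H` without fixed points on `M/V₁` -/
theorem exists_rho : ∃ ρ ∈ J₁ z V M, ρ ∈ centralizer (V₁ : Set G) ∧ Odd (orderOf ρ) ∧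
    ∀ m ∈ M, ρ * m * ρ⁻¹ * m⁻¹ ∈ V₁ → m ∈ V₁ := by
  obtain ⟨w, hw, hw1, hw2⟩ := exists_w h
  have hwM := h.V₁_le_M hw
  let A₀ : Matrix (Fin 3) (Fin 3) (ZMod 2) := !![1, 0, 0; 0, 0, 1; 0, 1, 1]
  let e₀ : Vec := ![1, 0, 0]
  have hA3 : A₀ * A₀ * A₀ = 1 := by decide
  have hAe : A₀.mulVec e₀ = e₀ := by decide
  have hAf : ∀ y : Vec, A₀.mulVec y + y = 0 ∨ A₀.mulVec y + y = e₀ → y = 0 ∨ y = e₀ := by decide
  have hdet : A₀.det ≠ 0 := by
    intro h0
    have h1 := congrArg Matrix.det hA3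
    rw [Matrix.det_mul, h0, mul_zero, Matrix.det_one] at h1
    exact zero_ne_one h1
  obtain ⟨g₀, hg₀, hg₀'⟩ := full_mat h A₀ hdet
  obtain ⟨g, hg, hg'⟩ := tran h hwM (e_ne h hwM hw1 hw2) (u := e₀) (by decide)
  have hgC := J_le_C₁ h hg
  have hg₀C := J_le_C₁ h hg₀
  set gc : C₁ z M := ⟨g, hgC⟩ with hgc
  set g₀c : C₁ z M := ⟨g₀, hg₀C⟩ with hg₀c
  set r : C₁ z M := gc⁻¹ * g₀c * gc with hr
  have hr' : (r : G) = g⁻¹ * g₀ * g := rfl
  have ha0 : (act h g₀c).1 = A₀ := mat_ext h fun m hm => by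
    rw [act_apply h g₀c hm]; exact hg₀' m hm
  have ha1 : act h g₀c * act h g₀c * act h g₀c = 1 := Units.ext (by
    rw [Units.val_mul, Units.val_mul, ha0, hA3]; rfl)
  have ha2 : act h r ^ 3 = 1 := by
    rw [hr, map_mul, map_mul, map_inv]
    calc ((act h gc)⁻¹ * act h g₀c * act h gc) ^ 3
        = (act h gc)⁻¹ * (act h g₀c * act h g₀c * act h g₀c) * act h gc := by
          rw [pow_three]; group
      _ = 1 := by rw [ha1]; group
  set k := 4 ^ (orderOf (r : G) + 1) with hk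
  have hk1 : k % 3 = 1 := by
    rw [hk, Nat.pow_mod]; simp
  have ha3 : act h (r ^ k) = act h r := by
    rw [map_pow, ← Nat.div_add_mod k 3, hk1, pow_add, pow_mul, ha2, one_pow, one_mul, pow_one]
  have hrJ : (r : G) ∈ J₁ z V M := mul_mem (mul_mem (inv_mem hg) hg₀) hg
  have hrw : e ((r : G) * w * (r : G)⁻¹) = e w := by
    have h1 : e (g₀ * (g * w * g⁻¹) * g₀⁻¹) = e (g * w * g⁻¹) := by
      rw [hg₀' _ (conj_mem hgC.2 hwM), hg', hAe]
    have h2 := wd h (inv_mem hgC) (conj_mem hg₀C.2 (conj_mem hgC.2 hwM)) (conj_mem hgC.2 hwM) h1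
    rw [show g⁻¹ * (g * w * g⁻¹) * g⁻¹⁻¹ = w by group] at h2
    rw [← h2, hr']
    congr 1; group
  have hr2 : (r : G) ^ 2 ∈ centralizer (V₁ : Set G) := by
    have hw' : (r : G) ^ 2 * w = w * (r : G) ^ 2 := by
      have h0 := C₁_z h r.2
      rcases e_eq h hwM (conj_mem r.2.2 hwM) hrw.symm with h1 | h1
      · have h2 : (r : G) * w = w * r := mul_inv_eq_iff_eq_mul.1 h1
        rw [pow_two, mul_assoc, h2, ← mul_assoc, h2, mul_assoc]
      · have h2 : (r : G) ^ 2 * w * ((r : G) ^ 2)⁻¹ = w := by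
          calc (r : G) ^ 2 * w * ((r : G) ^ 2)⁻¹ = r * (r * w * (r : G)⁻¹) * (r : G)⁻¹ := by
                rw [pow_two]; group
            _ = r * (w * z) * (r : G)⁻¹ := by rw [h1]
            _ = (r * w * (r : G)⁻¹) * (r * z * (r : G)⁻¹) := by group
            _ = w := by rw [h1, h0, mul_assoc, h.z_sq, mul_one]
        exact mul_inv_eq_iff_eq_mul.1 h2
    have hz' : (r : G) ^ 2 * z = z * (r : G) ^ 2 := by
      have h2 : (r : G) * z = z * r := mul_inv_eq_iff_eq_mul.1 (C₁_z h r.2)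
      rw [pow_two, mul_assoc, h2, ← mul_assoc, h2, mul_assoc]
    refine cent_iff.2 fun x hx => ?_
    rcases V₁_cases h hw hw1 hw2 hx with rfl | rfl | rfl | rfl
    · simp
    · exact hz'
    · exact hw'
    · rw [← mul_assoc, hw', mul_assoc, hz', mul_assoc]
  refine ⟨(r : G) ^ k, pow_mem hrJ _, ?_, odd_pow (r : G), ?_⟩
  · have h1 : k = 2 * (2 * 4 ^ orderOf (r : G)) := by rw [hk]; ring
    rw [h1, pow_mul]
    exact pow_mem hr2 _
  · intro m hm hn
    have hrk : (r : G) ^ k ∈ C₁ z M := pow_mem r.2 _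
    have h1 : e ((r : G) ^ k * m * ((r : G) ^ k)⁻¹) = e ((r : G) * m * (r : G)⁻¹) := by
      have := act_rel h ha3 hm
      simpa using this
    rw [V₁_iff h hw hw1 hw2 (h.V₁_le_M hn), M_inv h hm,
      h.e_mul _ (conj_mem hrk.2 hm) m hm, h1,
      ← h.e_mul _ (conj_mem r.2.2 hm) m hm] at hn
    rw [V₁_iff h hw hw1 hw2 hm]
    have hx := mul_mem (conj_mem r.2.2 hm) hm
    -- apply `g`
    have h2 : e (g * ((r : G) * m * (r : G)⁻¹ * m) * g⁻¹) = A₀.mulVec (e (g * m * g⁻¹)) +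
        e (g * m * g⁻¹) := by
      rw [← hg₀' _ (conj_mem hgC.2 hm), ← h.e_mul _ (conj_mem hg₀C.2 (conj_mem hgC.2 hm)) _
        (conj_mem hgC.2 hm), hr']
      congr 1; group
    have h3 := hAf (e (g * m * g⁻¹)) (by
      rw [← h2]
      rcases hn with hn | hn
      · left
        rw [wd h hgC hx M.one_mem (by rw [hn, e_one h])]
        simp [e_one h]
      · right
        rw [wd h hgC hx hwM hn, hg'])
    rcases h3 with h3 | h3
    · left
      rw [← e_one h]
      apply wd' h hgC hm M.one_mem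
      rw [h3]
      simp [e_one h]
    · right
      apply wd' h hgC hm hwM
      rw [h3, hg']

end six

end Cfsg.Agent.Omega.NO1.Nat.SixA
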