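import Cfsg.Agent.Omega.NO1.Nat.SixA

/-!
# THEOREM NAT (#13408), step (6)

`R = V Q₁` (`R_eq`), `H` is irreducible on `M/V₁` (`dich`), `[Q₁,J₁] ≤ M` (`comm_J`).
-/

set_option autoImplicit false
set_option linter.unusedSectionVars false

namespace Cfsg.Agent.Omega.NO1.Nat.SixB

open Subgroup Cfsg Cfsg.Agent.ZN
open Cfsg.Agent.Omega.NO1.Nat.SixIn (SixIn C₁ J₁)
open Cfsg.Agent.Omega.NO1.Nat.SixA

universe u

variable {G : Type u} [Group G] [Finite G] {S : Sylow 2 G} {z : G} {V V₁ M : Subgroup G}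
  {e : G → Fin 3 → ZMod 2} (h : SixIn S z V V₁ M e)

include h

theorem cent₁ {c x : G} (hc : c ∈ V₁) (hx : x ∈ centralizer (V₁ : Set G)) : c * x = x * c :=
  (cent_iff.1 hx c hc).symm

theorem comm_R {r m : G} (hr : r ∈ o2 (centralizer (V₁ : Set G))) (hm : m ∈ M) :
    r * m * r⁻¹ * m⁻¹ ∈ V₁ := by
  obtain ⟨v, hv, hv'⟩ := exists_V h
  have hrH := R_le_H h hr
  have hmH := M_le_H h hm
  have hnM : r * m * r⁻¹ * m⁻¹ ∈ M := mul_mem (conj_mem (h.H_M hrH) hm) (inv_mem hm)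
  refine h.V_M v hv hv' _ hnM ?_
  have hc := h.quad v hv r hr
  have hd := comm_mem h hv hm
  set c := v * r * v⁻¹ * r⁻¹ with hc'
  set d := v * m * v⁻¹ * m⁻¹ with hd'
  have h1 : v * r * v⁻¹ = c * r := by rw [hc']; group
  have h2 : v * m * v⁻¹ = d * m := by rw [hd']; group
  have h3 : c * r * (d * m) = r * m * (c * d) := by
    calc c * r * (d * m) = (c * r) * (d * m) := rfl
      _ = (r * c) * (m * d) := by rw [cent₁ h hc hrH, cent₁ h hd hmH]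
      _ = r * (c * m) * d := by group
      _ = r * (m * c) * d := by rw [cent₁ h hc hmH]
      _ = _ := by group
  have h4 : d * m * (c * r) = m * r * (c * d) := by
    calc d * m * (c * r) = (m * d) * (r * c) := by rw [cent₁ h hc hrH, cent₁ h hd hmH]
      _ = m * (d * r) * c := by group
      _ = m * (r * d) * c := by rw [cent₁ h hd hrH]
      _ = m * r * (d * c) := by group
      _ = _ := by rw [cent₁ h hd (V_le_H h (h.V₁_le hc))]
  have h5 : v * (r * m * r⁻¹ * m⁻¹) * v⁻¹ = r * m * r⁻¹ * m⁻¹ := by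
    calc v * (r * m * r⁻¹ * m⁻¹) * v⁻¹
        = (v * r * v⁻¹) * (v * m * v⁻¹) * ((v * m * v⁻¹) * (v * r * v⁻¹))⁻¹ := by group
      _ = (c * r) * (d * m) * ((d * m) * (c * r))⁻¹ := by rw [h1, h2]
      _ = r * m * (c * d) * (m * r * (c * d))⁻¹ := by rw [h3, h4]
      _ = _ := by group
  exact mul_inv_eq_iff_eq_mul.1 h5

theorem gen2 {X : Subgroup G} (hV : V₁ ≤ X) (hX : X ≤ M) {a b : G} (ha : a ∈ X) (hb : b ∈ X)
    (ha' : a ∉ V₁) (hb' : b ∉ V₁) (hab : a * b ∉ V₁) : M ≤ X := by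
  have h1 : Nat.card X ∣ 2 ^ 4 := by
    have := Subgroup.card_dvd_of_le hX
    rwa [h.M_card] at this
  obtain ⟨k, hk, hk'⟩ := (Nat.dvd_prime_pow Nat.prime_two).1 h1
  have h2 : Nat.card V₁ * V₁.relIndex X = Nat.card X := by
    have := relIndex_mul_relIndex ⊥ V₁ X bot_le hV
    rwa [relIndex_bot_left, relIndex_bot_left] at this
  rw [h.V₁_card, hk'] at h2
  have h3 : V₁.relIndex X ≠ 1 := fun h3 => ha' (relIndex_eq_one.1 h3 ha)
  have h4 : V₁.relIndex X ≠ 2 := fun h4 => hab (by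
    have h5 := (mul_mem_iff_of_index_two h4 (a := ⟨a, ha⟩) (b := ⟨b, hb⟩)).2
      (iff_of_false (by rwa [mem_subgroupOf]) (by rwa [mem_subgroupOf]))
    rwa [mem_subgroupOf] at h5)
  have h5 : k = 4 := by
    interval_cases k
    · omega
    · omega
    · omega
    · omega
    · rfl
  subst h5
  exact (Subgroup.eq_of_le_of_card_ge hX (by rw [h.M_card, hk']; norm_num)).ge

/-- `H` is irreducible on `M/V₁` -/
theorem dich {X : Subgroup G} (hV : V₁ ≤ X) (hX : X ≤ M)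
    (hN : centralizer (V₁ : Set G) ≤ normalizer (X : Set G)) : X ≤ V₁ ∨ M ≤ X := by
  by_cases hc : X ≤ V₁
  · exact Or.inl hc
  · right
    obtain ⟨a, ha, ha'⟩ := SetLike.not_le_iff_exists.1 hc
    obtain ⟨ρ, -, hρ, -, hρ'⟩ := exists_rho h
    have haM := hX ha
    have hb := conj_mem (hN hρ) ha
    refine gen2 h hV hX hb ha ?_ ha' ?_
    · intro h1
      have h2 := V₁_cent h h1 (inv_mem hρ)
      rw [inv_inv] at h2
      have h3 : ρ⁻¹ * (ρ * a * ρ⁻¹) * ρ = a := by group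
      rw [h3] at h2
      exact ha' (h2 ▸ h1)
    · intro h1
      apply ha'
      apply hρ' a haM
      rwa [M_inv h haM]

theorem mem_R_of_Q {x : G} (hx : x ∈ o2 (centralizer (M : Set G))) : x ∈ o2 (centralizer (V₁ : Set G)) :=
  ((mem_Q h).1 hx).1

/-- `e([r,m])` is additive in `r` -/
theorem delta_mul {r s m : G} (hr : r ∈ o2 (centralizer (V₁ : Set G)))
    (hs : s ∈ o2 (centralizer (V₁ : Set G))) (hm : m ∈ M) :
    e (r * s * m * (r * s)⁻¹ * m⁻¹) = e (r * m * r⁻¹ * m⁻¹) + e (s * m * s⁻¹ * m⁻¹) := by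
  have h1 := comm_R h hr hm
  have h2 := comm_R h hs hm
  rw [add_comm, ← h.e_mul _ (h.V₁_le_M h2) _ (h.V₁_le_M h1)]
  congr 1
  calc r * s * m * (r * s)⁻¹ * m⁻¹ = (r * (s * m * s⁻¹ * m⁻¹) * r⁻¹) * (r * m * r⁻¹ * m⁻¹) := by group
    _ = _ := by rw [V₁_cent h h2 (R_le_H h hr)]

theorem delta_mul' {r m n : G} (hr : r ∈ o2 (centralizer (V₁ : Set G))) (hm : m ∈ M) (hn : n ∈ M) :
    e (r * (m * n) * r⁻¹ * (m * n)⁻¹) = e (r * m * r⁻¹ * m⁻¹) + e (r * n * r⁻¹ * n⁻¹) := by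
  have h1 := comm_R h hr hm
  have h2 := comm_R h hr hn
  rw [add_comm, ← h.e_mul _ (h.V₁_le_M h2) _ (h.V₁_le_M h1)]
  congr 1
  have h3 : r * n * r⁻¹ * n⁻¹ * (r * m * r⁻¹ * m⁻¹) = r * m * r⁻¹ * m⁻¹ * (r * n * r⁻¹ * n⁻¹) :=
    h.M_comm _ (h.V₁_le_M h2) _ (h.V₁_le_M h1)
  have h4 := V₁_cent h h2 (M_le_H h hm)
  rw [h3]
  calc r * (m * n) * r⁻¹ * (m * n)⁻¹ = r * m * r⁻¹ * m⁻¹ * (m * (r * n * r⁻¹ * n⁻¹) * m⁻¹) := by group
    _ = _ := by rw [h4]

theorem act_of_delta {r m : G} (hr : r ∈ o2 (centralizer (V₁ : Set G))) (hm : m ∈ M)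
    (h0 : e (r * m * r⁻¹ * m⁻¹) = 0) : e (r * m * r⁻¹) = e m := by
  have h1 := conj_mem (h.H_M (R_le_H h hr)) hm
  rw [h.e_mul _ h1 _ (inv_mem hm), M_inv h hm] at h0
  have h2 := congrArg (· + e m) h0
  simp only [zero_add] at h2
  rw [add_assoc, vec_add_self, add_zero] at h2
  exact h2

/-- `R = V Q₁` -/
theorem R_eq {r : G} (hr : r ∈ o2 (centralizer (V₁ : Set G))) :
    ∃ v ∈ V, ∃ q ∈ o2 (centralizer (M : Set G)), r = v * q := by
  obtain ⟨w, hw, hw1, hw2⟩ := exists_w h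
  obtain ⟨ρ, -, hρ, -, hρ'⟩ := exists_rho h
  obtain ⟨a, ha, ha'⟩ := exists_M h
  have hb := conj_mem (h.H_M hρ) ha
  set b := ρ * a * ρ⁻¹ with hbdef
  have hb' : b ∉ V₁ := by
    intro h1
    have h2 := V₁_cent h h1 (inv_mem hρ)
    rw [inv_inv] at h2
    have h3 : ρ⁻¹ * (ρ * a * ρ⁻¹) * ρ = a := by group
    rw [hbdef, h3] at h2
    rw [hbdef] at h1
    exact ha' (h2 ▸ h1)
  have hab : b * a ∉ V₁ := by
    intro h1
    apply ha'
    apply hρ' a ha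
    rwa [M_inv h ha]
  -- an element of `R` which is trivial on `a`, `b` mod `z` is in `D₁`
  have key : ∀ x ∈ o2 (centralizer (V₁ : Set G)), e (x * a * x⁻¹ * a⁻¹) = 0 →
      e (x * b * x⁻¹ * b⁻¹) = 0 → x ∈ o2 (centralizer (M : Set G)) := by
    intro x hx h1 h2
    let X : Subgroup G :=
      { carrier := {m | m ∈ M ∧ e (x * m * x⁻¹ * m⁻¹) = 0}
        one_mem' := ⟨one_mem _, by simp [e_one h]⟩
        mul_mem' := fun {m n} hm hn => ⟨mul_mem hm.1 hn.1, by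
          rw [delta_mul' h hx hm.1 hn.1, hm.2, hn.2, add_zero]⟩
        inv_mem' := fun {m} hm => by
          rw [M_inv h hm.1]; exact hm }
    have hMX : M ≤ X := by
      refine gen2 h (fun y hy => ⟨h.V₁_le_M hy, ?_⟩) (fun y hy => hy.1) (a := b) (b := a)
        ⟨hb, h2⟩ ⟨ha, h1⟩ hb' ha' hab
      rw [V₁_cent h hy (R_le_H h hx)]
      simp [e_one h]
    refine (mem_Q h).2 ⟨hx, h.faith x (H_le_C₁ h (R_le_H h hx)) fun m hm => ?_⟩
    exact act_of_delta h hx hm (hMX hm).2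
  let f : V →* Multiplicative (Vec × Vec) :=
    { toFun := fun v => Multiplicative.ofAdd (e (v * a * (v : G)⁻¹ * a⁻¹), e (v * b * (v : G)⁻¹ * b⁻¹))
      map_one' := by simp [e_one h]
      map_mul' := fun x y => by
        rw [← ofAdd_add]
        congr 1
        exact Prod.ext (delta_mul h (h.V_le x.2) (h.V_le y.2) ha) (delta_mul h (h.V_le x.2) (h.V_le y.2) hb) }
  have hk : Nat.card f.ker ≤ 4 := by
    rw [← h.V₁_card]
    have h1 : f.ker.map V.subtype ≤ V₁ := by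
      rintro _ ⟨v, hv, rfl⟩
      have h2 : (e (v * a * (v : G)⁻¹ * a⁻¹), e (v * b * (v : G)⁻¹ * b⁻¹)) = 0 :=
        congrArg Multiplicative.toAdd (MonoidHom.mem_ker.1 hv)
      exact (V_Q h v.2).1 (key v (h.V_le v.2) (congrArg Prod.fst h2) (congrArg Prod.snd h2))
    have h2 := Subgroup.card_le_of_le h1
    rwa [Subgroup.card_map_of_injective V.subtype_injective] at h2
  have h1 : Nat.card f.ker * Nat.card f.range = 16 := by
    rw [← h.V_card, ← Subgroup.index_ker f]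
    exact f.ker.card_mul_index
  have h2 : 4 ≤ Nat.card f.range := by
    by_contra hlt
    push Not at hlt
    have : Nat.card f.ker * Nat.card f.range ≤ 4 * 3 := Nat.mul_le_mul hk (by omega)
    omega
  have hval : ∀ x ∈ o2 (centralizer (V₁ : Set G)), ∀ m ∈ M, e (x * m * x⁻¹ * m⁻¹) ∈ ({0, e w} : Set Vec) := by
    intro x hx m hm
    have h3 := comm_R h hx hm
    rcases (V₁_iff h hw hw1 hw2 (h.V₁_le_M h3)).1 h3 with h4 | h4
    · exact Or.inl h4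
    · exact Or.inr h4
  let T : Set (Vec × Vec) := ({0, e w} : Set Vec) ×ˢ ({0, e w} : Set Vec)
  have hT : T.ncard ≤ 4 := by
    have h3 : ({0, e w} : Set Vec).ncard ≤ 2 := by
      have := Set.ncard_insert_le (0 : Vec) {e w}
      rwa [Set.ncard_singleton] at this
    calc T.ncard = ({0, e w} : Set Vec).ncard * ({0, e w} : Set Vec).ncard := Set.ncard_prod
      _ ≤ 2 * 2 := Nat.mul_le_mul h3 h3
  have hrT : Multiplicative.toAdd '' (f.range : Set (Multiplicative (Vec × Vec))) = T := by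
    apply Set.eq_of_subset_of_ncard_le _ _ (Set.toFinite _)
    · rintro _ ⟨_, ⟨v, rfl⟩, rfl⟩
      exact ⟨hval v (h.V_le v.2) a ha, hval v (h.V_le v.2) b hb⟩
    · refine hT.trans ?_
      rw [Set.ncard_image_of_injective _ Multiplicative.toAdd.injective]
      exact h2
  have h3 : (e (r * a * r⁻¹ * a⁻¹), e (r * b * r⁻¹ * b⁻¹)) ∈ T := ⟨hval r hr a ha, hval r hr b hb⟩
  rw [← hrT] at h3
  obtain ⟨_, ⟨v, rfl⟩, hv⟩ := h3
  have hv1 : e (v * a * (v : G)⁻¹ * a⁻¹) = e (r * a * r⁻¹ * a⁻¹) := congrArg Prod.fst hv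
  have hv2 : e (v * b * (v : G)⁻¹ * b⁻¹) = e (r * b * r⁻¹ * b⁻¹) := congrArg Prod.snd hv
  refine ⟨v, v.2, (v : G)⁻¹ * r, ?_, by group⟩
  refine key _ (mul_mem (inv_mem (h.V_le v.2)) hr) ?_ ?_
  · rw [V_inv h v.2, delta_mul h (h.V_le v.2) hr ha, ← hv1, vec_add_self]
  · rw [V_inv h v.2, delta_mul h (h.V_le v.2) hr hb, ← hv2, vec_add_self]

theorem C₁_norm_Q : C₁ z M ≤ normalizer (o2 (centralizer (M : Set G)) : Set G) :=
  fun _ hg => ZN.normalizer_le_normalizer_o2 _ (norm_cent hg.2)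

/-- `[Q₁,J₁] ≤ M` -/
theorem comm_J : ∀ j ∈ J₁ z V M, ∀ q ∈ o2 (centralizer (M : Set G)), q * j * q⁻¹ * j⁻¹ ∈ M := by
  refine comm_closure ?_ ?_
  · rintro _ ⟨c, hc, v, hv, rfl⟩
    exact mul_mem (mul_mem hc.2 (V_le_C₁ h hv).2) (inv_mem hc.2)
  · rintro _ ⟨c, hc, v, hv, rfl⟩ q hq
    have h1 := conj_mem' (C₁_norm_Q h hc) hq
    have h2 := inv_mem (h.quad v hv _ (mem_R_of_Q h h1))
    have h3 := conj_mem hc.2 (h.V₁_le_M h2)
    rwa [show c * (v * (c⁻¹ * q * c) * v⁻¹ * (c⁻¹ * q * c)⁻¹)⁻¹ * c⁻¹ =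
      q * (c * v * c⁻¹) * q⁻¹ * (c * v * c⁻¹)⁻¹ by group] at h3

end Cfsg.Agent.Omega.NO1.Nat.SixB
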